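import Cfsg.Agent.O8C.StepF

set_option autoImplicit false
set_option Elab.async false
set_option maxRecDepth 100000

namespace Cfsg.Agent.O3R

open Cfsg.Agent.Comp.BN

def PC1 : Pres := ⟨[0, 1, 2],
  [[1, 2, 1, 2],
   [0, 1, 0, 1, 0, 1],
   [0, 1, 0, 1, 0, 2, 1, 2],
   [0, 2, 0, 2, 0, 2, 0, 2],
   [0, 1, 0, 2, 0, 1, 2, 0, 2],
   [0, 1, 2, 0, 1, 2, 0, 2, 1]]⟩

namespace C1
noncomputable def m0_0 : ℕ := nat_lit 0x43d

noncomputable def m0_1 : ℕ := nat_lit 0x3e005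

noncomputable def m0_2 : ℕ := nat_lit 0x421c4

noncomputable def m0_3 : ℕ := nat_lit 0x48201

noncomputable def m0_4 : ℕ := nat_lit 0x92412

noncomputable def m0_5 : ℕ := nat_lit 0x241248

noncomputable def m0_6 : ℕ := nat_lit 0x4182

noncomputable def m0_7 : ℕ := nat_lit 0x32

noncomputable def m0_8 : ℕ := nat_lit 0xbc2

noncomputable def net0 : Net := (.cons 12 m0_0 (.cons 6 m0_1 (.cons 3 m0_2 (.cons 1 m0_3 (.cons 1 m0_4 (.cons 1 m0_5 (.cons 3 m0_6 (.cons 6 m0_7 (.cons 12 m0_8 .nil)))))))))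

theorem ok0 : Net.ok 24 net0 = true :=
  by decide +kernel

noncomputable def m1_0 : ℕ := nat_lit 0x988

noncomputable def m1_1 : ℕ := nat_lit 0xf020

noncomputable def m1_2 : ℕ := nat_lit 0x1c3042

noncomputable def m1_3 : ℕ := nat_lit 0x8009

noncomputable def m1_4 : ℕ := nat_lit 0x90492

noncomputable def m1_5 : ℕ := nat_lit 0x241009

noncomputable def m1_6 : ℕ := nat_lit 0x100000

noncomputable def m1_7 : ℕ := nat_lit 0x30020

noncomputable def m1_8 : ℕ := nat_lit 0x988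

noncomputable def net1 : Net := (.cons 12 m1_0 (.cons 6 m1_1 (.cons 3 m1_2 (.cons 1 m1_3 (.cons 1 m1_4 (.cons 1 m1_5 (.cons 3 m1_6 (.cons 6 m1_7 (.cons 12 m1_8 .nil)))))))))

theorem ok1 : Net.ok 24 net1 = true :=
  by decide +kernel

noncomputable def m2_0 : ℕ := nat_lit 0x356

noncomputable def m2_1 : ℕ := nat_lit 0x3d012

noncomputable def m2_2 : ℕ := nat_lit 0x6005

noncomputable def m2_3 : ℕ := nat_lit 0x200240

noncomputable def m2_4 : ℕ := nat_lit 0x490482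

noncomputable def m2_5 : ℕ := nat_lit 0x208040

noncomputable def m2_6 : ℕ := nat_lit 0x100080

noncomputable def m2_7 : ℕ := nat_lit 0x20

noncomputable def m2_8 : ℕ := nat_lit 0xde0

noncomputable def net2 : Net := (.cons 12 m2_0 (.cons 6 m2_1 (.cons 3 m2_2 (.cons 1 m2_3 (.cons 1 m2_4 (.cons 1 m2_5 (.cons 3 m2_6 (.cons 6 m2_7 (.cons 12 m2_8 .nil)))))))))

theorem ok2 : Net.ok 24 net2 = true :=
  by decide +kernel

noncomputable def nets : List Net := [net0, net1, net2]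

noncomputable def act : Act := netAct' nets
noncomputable def π : ℕ → Equiv.Perm ℕ := netPerm nets

theorem spec : act.Spec 24 π :=
  spec_fast (netAct_spec (AllP.forall (p := fun t => Net.ok 24 t = true) ⟨ok0, ok1, ok2, trivial⟩))

theorem out : ∀ k, 3 ≤ k → π k = 1 :=
  netPerm_out nets

theorem sat_inv_0 : invC Cfsg.Agent.O3R.C1.act Cfsg.Agent.O3R.PC1.I 24 5 Cfsg.Agent.O3R.PC1.inv.length [0, 1, 2, 3, 4] = true :=
  by decide +kernel

theorem sat_inv : ∀ k, Cfsg.Agent.O3R.C1.π (Cfsg.Agent.O3R.PC1.I k) * Cfsg.Agent.O3R.C1.π k = 1 :=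
  inv_of_checks Cfsg.Agent.O3R.C1.spec (K := 5) (by decide) Cfsg.Agent.O3R.C1.out [[0, 1, 2, 3, 4]] (by decide) ⟨sat_inv_0, trivial⟩

theorem sat_rel_0_0 : relsC Cfsg.Agent.O3R.C1.act Cfsg.Agent.O3R.PC1.I 24 5 [[1, 2, 1, 2], [0, 1, 0, 1, 0, 1], [0, 1, 0, 1, 0, 2, 1, 2], [0, 2, 0, 2, 0, 2, 0, 2], [0, 1, 0, 2, 0, 1, 2, 0, 2], [0, 1, 2, 0, 1, 2, 0, 2, 1]] [0, 1, 2, 3, 4] = true :=
  by decide +kernel

theorem sat_rel_0 : ∀ r ∈ ([[1, 2, 1, 2], [0, 1, 0, 1, 0, 1], [0, 1, 0, 1, 0, 2, 1, 2], [0, 2, 0, 2, 0, 2, 0, 2], [0, 1, 0, 2, 0, 1, 2, 0, 2], [0, 1, 2, 0, 1, 2, 0, 2, 1]] : List (List ℕ)), ev Cfsg.Agent.O3R.C1.π r = 1 :=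
  rels_of_checks Cfsg.Agent.O3R.C1.spec (K := 5) (by decide) sat_inv _ [[0, 1, 2, 3, 4]] (by decide) ⟨sat_rel_0_0, trivial⟩

theorem sat_rel : ∀ r ∈ ([[1, 2, 1, 2], [0, 1, 0, 1, 0, 1], [0, 1, 0, 1, 0, 2, 1, 2], [0, 2, 0, 2, 0, 2, 0, 2], [0, 1, 0, 2, 0, 1, 2, 0, 2], [0, 1, 2, 0, 1, 2, 0, 2, 1]] : List (List ℕ)), ev Cfsg.Agent.O3R.C1.π r = 1 :=
  rels_join [[[1, 2, 1, 2], [0, 1, 0, 1, 0, 1], [0, 1, 0, 1, 0, 2, 1, 2], [0, 2, 0, 2, 0, 2, 0, 2], [0, 1, 0, 2, 0, 1, 2, 0, 2], [0, 1, 2, 0, 1, 2, 0, 2, 1]]] ⟨sat_rel_0, trivial⟩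

theorem sat : Sat Cfsg.Agent.O3R.PC1 Cfsg.Agent.O3R.C1.π :=
  ⟨Cfsg.Agent.O3R.C1.out, sat_inv, sat_rel⟩

noncomputable def done_tr0 : ℕ := nat_lit 0xdbbfea

noncomputable def done_tr1 : ℕ := nat_lit 0xedd4bc

noncomputable def done_t0_0 : ℕ := nat_lit 0xa454bd

noncomputable def done_t0_1 : ℕ := nat_lit 0xacc000

noncomputable def done_t0_2 : ℕ := nat_lit 0x410000

noncomputable def done_t1_0 : ℕ := nat_lit 0xb3903

noncomputable def done_t1_1 : ℕ := nat_lit 0x8196e8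

noncomputable def done_t1_2 : ℕ := nat_lit 0x5a0000

noncomputable def done_t2_0 : ℕ := nat_lit 0x66b57

noncomputable def done_t2_1 : ℕ := nat_lit 0x300000

noncomputable def done_t2_2 : ℕ := nat_lit 0x360000

noncomputable def doneC : TC := ⟨Cfsg.Agent.O3R.PC1, [], 24, 24, 5, 3, [done_tr0, done_tr1],
  [[done_t0_0, done_t0_1, done_t0_2],
   [done_t1_0, done_t1_1, done_t1_2],
   [done_t2_0, done_t2_1, done_t2_2]]⟩

theorem done_s : doneC.structC Cfsg.Agent.O3R.C1.act = true :=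
  by decide +kernel

theorem done_c0_0 : doneC.coverC Cfsg.Agent.O3R.C1.act 0 true [(2, 0)] [(false, 3, 0, 21), (false, 3, 0, 14), (false, 9, 0, 19), (false, 9, 0, 15), (false, 12, 4, 8), (false, 12, 4, 0)] 0 (ones 24) = true :=
  by decide +kernel

theorem done_j0 : doneC.JustS Cfsg.Agent.O3R.C1.π 0 (ones 24) :=
  TC.cover_step Cfsg.Agent.O3R.C1.spec done_s (TC.justS_zero 0) done_c0_0

theorem done_c1_0 : doneC.coverC Cfsg.Agent.O3R.C1.act 1 true [(5, 0), (0, 0)] [(false, 3, 1, 4), (false, 3, 1, 2), (false, 3, 1, 15), (false, 3, 1, 10)] 0 (ones 24) = true :=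
  by decide +kernel

theorem done_j1 : doneC.JustS Cfsg.Agent.O3R.C1.π 1 (ones 24) :=
  TC.cover_step Cfsg.Agent.O3R.C1.spec done_s (TC.justS_zero 1) done_c1_0

theorem done_c2_0 : doneC.coverC Cfsg.Agent.O3R.C1.act 2 true [(8, 0)] [(false, 0, 1, 13), (false, 0, 1, 19)] 0 (ones 24) = true :=
  by decide +kernel

theorem done_j2 : doneC.JustS Cfsg.Agent.O3R.C1.π 2 (ones 24) :=
  TC.cover_step Cfsg.Agent.O3R.C1.spec done_s (TC.justS_zero 2) done_c2_0

theorem done : doneC.Done Cfsg.Agent.O3R.C1.π :=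
  TC.done_of Cfsg.Agent.O3R.C1.spec sat done_s ⟨done_j0, done_j1, done_j2, trivial⟩

end C1

theorem bc1 : Bound PC1 24 :=
  C1.done.bound_bot rfl

def PC2 : Pres := ⟨[0, 1, 2, 3, 4],
  [[0, 2, 0, 2],
   [0, 3, 0, 3],
   [1, 2, 1, 2],
   [1, 3, 1, 3],
   [1, 4, 1, 4],
   [3, 4, 3, 4],
   [0, 1, 0, 1, 0, 1],
   [0, 3, 0, 4, 3, 4],
   [2, 3, 2, 3, 2, 3],
   [0, 1, 0, 1, 0, 4, 1, 4],
   [0, 1, 3, 1, 0, 4, 3, 4],
   [0, 4, 0, 4, 0, 4, 0, 4],
   [2, 3, 2, 3, 2, 4, 3, 4],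
   [2, 4, 2, 4, 2, 4, 2, 4],
   [0, 1, 0, 4, 0, 1, 4, 0, 4],
   [0, 1, 4, 0, 1, 4, 0, 4, 1],
   [2, 3, 2, 4, 2, 3, 4, 2, 4],
   [2, 3, 4, 2, 3, 4, 2, 4, 3]]⟩

namespace C2
noncomputable def m0_0 : ℕ := nat_lit 0xe80

noncomputable def m0_1 : ℕ := nat_lit 0x3e010

noncomputable def m0_2 : ℕ := nat_lit 0x104100

noncomputable def m0_3 : ℕ := nat_lit 0x208000

noncomputable def m0_4 : ℕ := nat_lit 0x410400

noncomputable def m0_5 : ℕ := nat_lit 0x209000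

noncomputable def m0_6 : ℕ := nat_lit 0x104100

noncomputable def m0_7 : ℕ := nat_lit 0x2010

noncomputable def m0_8 : ℕ := nat_lit 0xe80

noncomputable def net0 : Net := (.cons 12 m0_0 (.cons 6 m0_1 (.cons 3 m0_2 (.cons 1 m0_3 (.cons 1 m0_4 (.cons 1 m0_5 (.cons 3 m0_6 (.cons 6 m0_7 (.cons 12 m0_8 .nil)))))))))

theorem ok0 : Net.ok 24 net0 = true :=
  by decide +kernel

noncomputable def m1_0 : ℕ := nat_lit 0x900

noncomputable def m1_1 : ℕ := nat_lit 0x17000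

noncomputable def m1_2 : ℕ := nat_lit 0x100

noncomputable def m1_3 : ℕ := nat_lit 0x92000

noncomputable def m1_4 : ℕ := nat_lit 0x200000

noncomputable def m1_5 : ℕ := nat_lit 0x10000

noncomputable def m1_6 : ℕ := nat_lit 0x900

noncomputable def net1 : Net := (.cons 12 m1_0 (.cons 6 m1_1 (.cons 3 m1_2 (.cons 1 m1_3 (.cons 1 m1_4 (.cons 6 m1_5 (.cons 12 m1_6 .nil)))))))

theorem ok1 : Net.ok 24 net1 = true :=
  by decide +kernel

noncomputable def m2_0 : ℕ := nat_lit 0x78d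

noncomputable def m2_1 : ℕ := nat_lit 0x1e020

noncomputable def m2_2 : ℕ := nat_lit 0x440c4

noncomputable def m2_3 : ℕ := nat_lit 0x41

noncomputable def m2_4 : ℕ := nat_lit 0x402082

noncomputable def m2_5 : ℕ := nat_lit 0x209008

noncomputable def m2_6 : ℕ := nat_lit 0x104184

noncomputable def m2_7 : ℕ := nat_lit 0x2001e

noncomputable def m2_8 : ℕ := nat_lit 0x872

noncomputable def net2 : Net := (.cons 12 m2_0 (.cons 6 m2_1 (.cons 3 m2_2 (.cons 1 m2_3 (.cons 1 m2_4 (.cons 1 m2_5 (.cons 3 m2_6 (.cons 6 m2_7 (.cons 12 m2_8 .nil)))))))))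

theorem ok2 : Net.ok 24 net2 = true :=
  by decide +kernel

noncomputable def m3_0 : ℕ := nat_lit 0x5a3

noncomputable def m3_1 : ℕ := nat_lit 0x2c012

noncomputable def m3_2 : ℕ := nat_lit 0x183101

noncomputable def m3_3 : ℕ := nat_lit 0x8048

noncomputable def m3_4 : ℕ := nat_lit 0x92092

noncomputable def m3_5 : ℕ := nat_lit 0x41001

noncomputable def m3_6 : ℕ := nat_lit 0x106184

noncomputable def m3_7 : ℕ := nat_lit 0x1202c

noncomputable def m3_8 : ℕ := nat_lit 0xa5c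

noncomputable def net3 : Net := (.cons 12 m3_0 (.cons 6 m3_1 (.cons 3 m3_2 (.cons 1 m3_3 (.cons 1 m3_4 (.cons 1 m3_5 (.cons 3 m3_6 (.cons 6 m3_7 (.cons 12 m3_8 .nil)))))))))

theorem ok3 : Net.ok 24 net3 = true :=
  by decide +kernel

noncomputable def m4_0 : ℕ := nat_lit 0x100

noncomputable def m4_1 : ℕ := nat_lit 0x15012

noncomputable def m4_2 : ℕ := nat_lit 0x186

noncomputable def m4_3 : ℕ := nat_lit 0x40

noncomputable def m4_4 : ℕ := nat_lit 0x12082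

noncomputable def m4_5 : ℕ := nat_lit 0x200048

noncomputable def m4_6 : ℕ := nat_lit 0x106

noncomputable def m4_7 : ℕ := nat_lit 0x14012

noncomputable def m4_8 : ℕ := nat_lit 0x100

noncomputable def net4 : Net := (.cons 12 m4_0 (.cons 6 m4_1 (.cons 3 m4_2 (.cons 1 m4_3 (.cons 1 m4_4 (.cons 1 m4_5 (.cons 3 m4_6 (.cons 6 m4_7 (.cons 12 m4_8 .nil)))))))))

theorem ok4 : Net.ok 24 net4 = true :=
  by decide +kernel

noncomputable def nets : List Net := [net0, net1, net2, net3, net4]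

noncomputable def act : Act := netAct' nets
noncomputable def π : ℕ → Equiv.Perm ℕ := netPerm nets

theorem spec : act.Spec 24 π :=
  spec_fast (netAct_spec (AllP.forall (p := fun t => Net.ok 24 t = true) ⟨ok0, ok1, ok2, ok3, ok4, trivial⟩))

theorem out : ∀ k, 5 ≤ k → π k = 1 :=
  netPerm_out nets

theorem sat_inv_0 : invC Cfsg.Agent.O3R.C2.act Cfsg.Agent.O3R.PC2.I 24 5 Cfsg.Agent.O3R.PC2.inv.length [0, 1, 2, 3, 4] = true :=
  by decide +kernel

theorem sat_inv : ∀ k, Cfsg.Agent.O3R.C2.π (Cfsg.Agent.O3R.PC2.I k) * Cfsg.Agent.O3R.C2.π k = 1 :=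
  inv_of_checks Cfsg.Agent.O3R.C2.spec (K := 5) (by decide) Cfsg.Agent.O3R.C2.out [[0, 1, 2, 3, 4]] (by decide) ⟨sat_inv_0, trivial⟩

theorem sat_rel_0_0 : relsC Cfsg.Agent.O3R.C2.act Cfsg.Agent.O3R.PC2.I 24 5 [[0, 2, 0, 2], [0, 3, 0, 3], [1, 2, 1, 2], [1, 3, 1, 3], [1, 4, 1, 4], [3, 4, 3, 4], [0, 1, 0, 1, 0, 1], [0, 3, 0, 4, 3, 4], [2, 3, 2, 3, 2, 3], [0, 1, 0, 1, 0, 4, 1, 4], [0, 1, 3, 1, 0, 4, 3, 4], [0, 4, 0, 4, 0, 4, 0, 4], [2, 3, 2, 3, 2, 4, 3, 4], [2, 4, 2, 4, 2, 4, 2, 4], [0, 1, 0, 4, 0, 1, 4, 0, 4], [0, 1, 4, 0, 1, 4, 0, 4, 1], [2, 3, 2, 4, 2, 3, 4, 2, 4], [2, 3, 4, 2, 3, 4, 2, 4, 3]] [0, 1, 2, 3, 4] = true :=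
  by decide +kernel

theorem sat_rel_0 : ∀ r ∈ ([[0, 2, 0, 2], [0, 3, 0, 3], [1, 2, 1, 2], [1, 3, 1, 3], [1, 4, 1, 4], [3, 4, 3, 4], [0, 1, 0, 1, 0, 1], [0, 3, 0, 4, 3, 4], [2, 3, 2, 3, 2, 3], [0, 1, 0, 1, 0, 4, 1, 4], [0, 1, 3, 1, 0, 4, 3, 4], [0, 4, 0, 4, 0, 4, 0, 4], [2, 3, 2, 3, 2, 4, 3, 4], [2, 4, 2, 4, 2, 4, 2, 4], [0, 1, 0, 4, 0, 1, 4, 0, 4], [0, 1, 4, 0, 1, 4, 0, 4, 1], [2, 3, 2, 4, 2, 3, 4, 2, 4], [2, 3, 4, 2, 3, 4, 2, 4, 3]] : List (List ℕ)), ev Cfsg.Agent.O3R.C2.π r = 1 :=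
  rels_of_checks Cfsg.Agent.O3R.C2.spec (K := 5) (by decide) sat_inv _ [[0, 1, 2, 3, 4]] (by decide) ⟨sat_rel_0_0, trivial⟩

theorem sat_rel : ∀ r ∈ ([[0, 2, 0, 2], [0, 3, 0, 3], [1, 2, 1, 2], [1, 3, 1, 3], [1, 4, 1, 4], [3, 4, 3, 4], [0, 1, 0, 1, 0, 1], [0, 3, 0, 4, 3, 4], [2, 3, 2, 3, 2, 3], [0, 1, 0, 1, 0, 4, 1, 4], [0, 1, 3, 1, 0, 4, 3, 4], [0, 4, 0, 4, 0, 4, 0, 4], [2, 3, 2, 3, 2, 4, 3, 4], [2, 4, 2, 4, 2, 4, 2, 4], [0, 1, 0, 4, 0, 1, 4, 0, 4], [0, 1, 4, 0, 1, 4, 0, 4, 1], [2, 3, 2, 4, 2, 3, 4, 2, 4], [2, 3, 4, 2, 3, 4, 2, 4, 3]] : List (List ℕ)), ev Cfsg.Agent.O3R.C2.π r = 1 :=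
  rels_join [[[0, 2, 0, 2], [0, 3, 0, 3], [1, 2, 1, 2], [1, 3, 1, 3], [1, 4, 1, 4], [3, 4, 3, 4], [0, 1, 0, 1, 0, 1], [0, 3, 0, 4, 3, 4], [2, 3, 2, 3, 2, 3], [0, 1, 0, 1, 0, 4, 1, 4], [0, 1, 3, 1, 0, 4, 3, 4], [0, 4, 0, 4, 0, 4, 0, 4], [2, 3, 2, 3, 2, 4, 3, 4], [2, 4, 2, 4, 2, 4, 2, 4], [0, 1, 0, 4, 0, 1, 4, 0, 4], [0, 1, 4, 0, 1, 4, 0, 4, 1], [2, 3, 2, 4, 2, 3, 4, 2, 4], [2, 3, 4, 2, 3, 4, 2, 4, 3]]] ⟨sat_rel_0, trivial⟩

theorem sat : Sat Cfsg.Agent.O3R.PC2 Cfsg.Agent.O3R.C2.π :=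
  ⟨Cfsg.Agent.O3R.C2.out, sat_inv, sat_rel⟩

noncomputable def done_tr0 : ℕ := nat_lit 0xb5ff2

noncomputable def done_tr1 : ℕ := nat_lit 0x6c6262

noncomputable def done_tr2 : ℕ := nat_lit 0x908c9c

noncomputable def done_t0_0 : ℕ := nat_lit 0x3c8cb9

noncomputable def done_t0_1 : ℕ := nat_lit 0xd0c22e

noncomputable def done_t0_2 : ℕ := nat_lit 0xec2040

noncomputable def done_t0_3 : ℕ := nat_lit 0

noncomputable def done_t1_0 : ℕ := nat_lit 0x939939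

noncomputable def done_t1_1 : ℕ := nat_lit 0x98403e

noncomputable def done_t1_2 : ℕ := nat_lit 0x8ec0

noncomputable def done_t1_3 : ℕ := nat_lit 0

noncomputable def done_t2_0 : ℕ := nat_lit 0x94b19d

noncomputable def done_t2_1 : ℕ := nat_lit 0xe10080

noncomputable def done_t2_2 : ℕ := nat_lit 0xf79c00

noncomputable def done_t2_3 : ℕ := nat_lit 0

noncomputable def done_t3_0 : ℕ := nat_lit 0xf6e03

noncomputable def done_t3_1 : ℕ := nat_lit 0x73df0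

noncomputable def done_t3_2 : ℕ := nat_lit 0x600000

noncomputable def done_t3_3 : ℕ := nat_lit 0

noncomputable def done_t4_0 : ℕ := nat_lit 0x62816b

noncomputable def done_t4_1 : ℕ := nat_lit 0x673004

noncomputable def done_t4_2 : ℕ := nat_lit 0x67b300

noncomputable def done_t4_3 : ℕ := nat_lit 0x984000

noncomputable def doneC : TC := ⟨Cfsg.Agent.O3R.PC2, [[0], [1], [4]], 24, 24, 5, 4, [done_tr0, done_tr1, done_tr2],
  [[done_t0_0, done_t0_1, done_t0_2, done_t0_3],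
   [done_t1_0, done_t1_1, done_t1_2, done_t1_3],
   [done_t2_0, done_t2_1, done_t2_2, done_t2_3],
   [done_t3_0, done_t3_1, done_t3_2, done_t3_3],
   [done_t4_0, done_t4_1, done_t4_2, done_t4_3]]⟩

theorem done_s : doneC.structC Cfsg.Agent.O3R.C2.act = true :=
  by decide +kernel

theorem done_c0_0 : doneC.coverC Cfsg.Agent.O3R.C2.act 0 true [] [(true, 0, 0, 0), (false, 2, 0, 8), (false, 2, 0, 12), (false, 2, 0, 16), (false, 2, 0, 17), (false, 0, 0, 1), (false, 0, 0, 5), (false, 0, 0, 6), (false, 0, 0, 14), (false, 0, 0, 9), (false, 0, 0, 19), (false, 3, 0, 2), (false, 3, 0, 3), (false, 3, 0, 20), (false, 3, 0, 18), (false, 3, 0, 15), (false, 3, 0, 22), (false, 3, 0, 23), (false, 18, 0, 13), (false, 18, 0, 21)] 0 (ones 24) = true :=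
  by decide +kernel

theorem done_j0 : doneC.JustS Cfsg.Agent.O3R.C2.π 0 (ones 24) :=
  TC.cover_step Cfsg.Agent.O3R.C2.spec done_s (TC.justS_zero 0) done_c0_0

theorem done_c1_0 : doneC.coverC Cfsg.Agent.O3R.C2.act 1 true [] [(true, 1, 0, 0), (false, 5, 0, 13), (false, 5, 0, 18), (false, 5, 0, 21), (false, 5, 0, 22), (false, 6, 0, 1), (false, 6, 0, 5), (false, 6, 0, 6), (false, 6, 0, 9), (false, 6, 0, 11), (false, 6, 0, 19), (false, 6, 0, 14), (false, 9, 0, 2), (false, 9, 0, 3), (false, 9, 0, 7), (false, 9, 0, 15), (false, 9, 0, 23), (false, 9, 0, 20), (false, 12, 0, 4), (false, 12, 0, 10)] 0 (ones 24) = true :=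
  by decide +kernel

theorem done_j1 : doneC.JustS Cfsg.Agent.O3R.C2.π 1 (ones 24) :=
  TC.cover_step Cfsg.Agent.O3R.C2.spec done_s (TC.justS_zero 1) done_c1_0

theorem done_c2_0 : doneC.coverC Cfsg.Agent.O3R.C2.act 2 true [(8, 0)] [(false, 0, 1, 7), (false, 0, 1, 10), (false, 6, 1, 17), (false, 6, 1, 20), (false, 24, 0, 15), (false, 48, 4, 0)] 0 (ones 24) = true :=
  by decide +kernel

theorem done_j2 : doneC.JustS Cfsg.Agent.O3R.C2.π 2 (ones 24) :=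
  TC.cover_step Cfsg.Agent.O3R.C2.spec done_s (TC.justS_zero 2) done_c2_0

theorem done_c3_0 : doneC.coverC Cfsg.Agent.O3R.C2.act 3 true [] [(false, 11, 0, 2), (false, 11, 0, 3), (false, 11, 0, 15), (false, 11, 0, 20), (false, 11, 0, 23), (false, 9, 1, 12), (false, 9, 1, 8), (false, 9, 1, 17), (false, 9, 1, 16), (false, 15, 0, 7), (false, 15, 0, 4), (false, 15, 0, 11), (false, 15, 0, 10), (false, 21, 1, 7), (false, 21, 1, 4), (false, 21, 1, 11), (false, 21, 1, 10), (false, 24, 1, 3), (false, 24, 1, 2)] 0 (ones 24) = true :=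
  by decide +kernel

theorem done_j3 : doneC.JustS Cfsg.Agent.O3R.C2.π 3 (ones 24) :=
  TC.cover_step Cfsg.Agent.O3R.C2.spec done_s (TC.justS_zero 3) done_c3_0

theorem done_c4_0 : doneC.coverC Cfsg.Agent.O3R.C2.act 4 true [] [(true, 2, 0, 0), (false, 14, 0, 4), (false, 14, 0, 7), (false, 14, 0, 10), (false, 14, 0, 11), (false, 14, 0, 8), (false, 14, 0, 16), (false, 15, 1, 0), (false, 15, 1, 9), (false, 15, 1, 8), (false, 15, 1, 16), (false, 42, 3, 4), (false, 42, 3, 7), (false, 42, 3, 10), (false, 42, 3, 11), (false, 48, 3, 11), (false, 48, 3, 17), (false, 48, 3, 22), (false, 48, 3, 12), (false, 48, 3, 18)] 0 (ones 24) = true :=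
  by decide +kernel

theorem done_j4 : doneC.JustS Cfsg.Agent.O3R.C2.π 4 (ones 24) :=
  TC.cover_step Cfsg.Agent.O3R.C2.spec done_s (TC.justS_zero 4) done_c4_0

theorem done : doneC.Done Cfsg.Agent.O3R.C2.π :=
  TC.done_of Cfsg.Agent.O3R.C2.spec sat done_s ⟨done_j0, done_j1, done_j2, done_j3, done_j4, trivial⟩

end C2

theorem iC2 : Impl Cfsg.Agent.O3R.PC2 Cfsg.Agent.O3R.PC1 [[0], [1], [4]] :=
  impl_of_subC (P := Cfsg.Agent.O3R.PC2) (c1 := [(54, 0), (54, 0), (54, 0)]) (c2 := [(12, 0), (18, 0), (27, 0), (33, 0), (42, 0), (45, 0)]) (by decide +kernel)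

theorem bc2 : Bound Cfsg.Agent.O3R.PC2 576 :=
  C2.done.bound' bc1 iC2 ⟨inSub_of_mem (by decide), inSub_of_mem (by decide), inSub_of_mem (by decide), trivial⟩

def PC3 : Pres := ⟨[0, 1, 2, 3, 4, 5, 6],
  [[0, 2, 0, 2],
   [0, 3, 0, 3],
   [0, 4, 0, 4],
   [0, 5, 0, 5],
   [1, 2, 1, 2],
   [1, 3, 1, 3],
   [1, 4, 1, 4],
   [1, 5, 1, 5],
   [1, 6, 1, 6],
   [2, 4, 2, 4],
   [2, 5, 2, 5],
   [3, 4, 3, 4],
   [3, 5, 3, 5],
   [3, 6, 3, 6],
   [5, 6, 5, 6],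
   [0, 1, 0, 1, 0, 1],
   [0, 3, 0, 6, 3, 6],
   [0, 5, 0, 6, 5, 6],
   [2, 3, 2, 3, 2, 3],
   [2, 5, 2, 6, 5, 6],
   [4, 5, 4, 5, 4, 5],
   [0, 1, 0, 1, 0, 6, 1, 6],
   [0, 1, 3, 1, 0, 6, 3, 6],
   [0, 1, 5, 1, 0, 6, 5, 6],
   [0, 2, 5, 2, 0, 6, 5, 6],
   [0, 6, 0, 6, 0, 6, 0, 6],
   [2, 3, 2, 3, 2, 6, 3, 6],
   [2, 3, 5, 3, 2, 6, 5, 6],
   [2, 6, 2, 6, 2, 6, 2, 6],
   [4, 5, 4, 5, 4, 6, 5, 6],
   [4, 6, 4, 6, 4, 6, 4, 6],
   [0, 1, 0, 6, 0, 1, 6, 0, 6],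
   [0, 1, 6, 0, 1, 6, 0, 6, 1],
   [2, 3, 2, 6, 2, 3, 6, 2, 6],
   [2, 3, 6, 2, 3, 6, 2, 6, 3],
   [4, 5, 4, 6, 4, 5, 6, 4, 6],
   [4, 5, 6, 4, 5, 6, 4, 6, 5]]⟩

namespace C3
noncomputable def m0_0 : ℕ := nat_lit 0xbeb2dd9ce00ccd0889881000

noncomputable def m0_1 : ℕ := nat_lit 0x27710d76ad08000000000000054dc00e1440

noncomputable def m0_2 : ℕ := nat_lit 0xc00c800000086bef60000004ac4e00000001850c0

noncomputable def m0_3 : ℕ := nat_lit 0xb160002040000860007ff000410000844000284000284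

noncomputable def m0_4 : ℕ := nat_lit 0x1c00c03001203e03300902601802203001a002012016014

noncomputable def m0_5 : ℕ := nat_lit 0x1841860871400040060c70c10c0104102184184000106044

noncomputable def m0_6 : ℕ := nat_lit 0x208000200000001000041000000001001008201040040040

noncomputable def m0_7 : ℕ := nat_lit 0x410010480080402000082410012012002092402080080490

noncomputable def m0_8 : ℕ := nat_lit 0x249001200008041008008248240001009008201049240200

noncomputable def m0_9 : ℕ := nat_lit 0x184006080102004000184004000004002106104000100184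

noncomputable def m0_10 : ℕ := nat_lit 0x10004032012032030018026018020020028000012014000

noncomputable def m0_11 : ℕ := nat_lit 0xb16000684000086000800000410000804000280000284

noncomputable def m0_12 : ℕ := nat_lit 0xc00c800000086bef60000004ac4e0000000587040

noncomputable def m0_13 : ℕ := nat_lit 0x2f7105768908000000000000054dc00e1440

noncomputable def m0_14 : ℕ := nat_lit 0xbeb2dd9ce00ccd0889881000

noncomputable def net0 : Net := (.cons 96 m0_0 (.cons 48 m0_1 (.cons 24 m0_2 (.cons 12 m0_3 (.cons 6 m0_4 (.cons 3 m0_5 (.cons 1 m0_6 (.cons 1 m0_7 (.cons 1 m0_8 (.cons 3 m0_9 (.cons 6 m0_10 (.cons 12 m0_11 (.cons 24 m0_12 (.cons 48 m0_13 (.cons 96 m0_14 .nil)))))))))))))))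

theorem ok0 : Net.ok 192 net0 = true :=
  by decide +kernel

noncomputable def m1_0 : ℕ := nat_lit 0x1ee6de20e1081c2004080400

noncomputable def m1_1 : ℕ := nat_lit 0x2ded83c0b0000000000000990306043008

noncomputable def m1_2 : ℕ := nat_lit 0xc45275000000c3cde8000000837360000000a30640

noncomputable def m1_3 : ℕ := nat_lit 0x788000a6b000179000d37000686000c84000572000380

noncomputable def m1_4 : ℕ := nat_lit 0xc00900d01501a00603000803403d01c01a008004008002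

noncomputable def m1_5 : ℕ := nat_lit 0x841c61030810c00440071c3004080003101081080143042

noncomputable def m1_6 : ℕ := nat_lit 0x1040040208008200200000000000200040240000

noncomputable def m1_7 : ℕ := nat_lit 0x2000002082082410410492410090400000480080480000

noncomputable def m1_8 : ℕ := nat_lit 0x1040040208001009000208009000200040249008

noncomputable def m1_9 : ℕ := nat_lit 0x4004100104104100004080000000080000000002

noncomputable def m1_10 : ℕ := nat_lit 0x2400802001803a024000032000008018008008004008002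

noncomputable def m1_11 : ℕ := nat_lit 0x3280009620001580008020009b0000c84000540000380

noncomputable def m1_12 : ℕ := nat_lit 0xc6f330000000c1c4a0000000837360000000a30640

noncomputable def m1_13 : ℕ := nat_lit 0x42ee903c890000000000000990306043008

noncomputable def m1_14 : ℕ := nat_lit 0x1ee6de20e1081c2004080400

noncomputable def net1 : Net := (.cons 96 m1_0 (.cons 48 m1_1 (.cons 24 m1_2 (.cons 12 m1_3 (.cons 6 m1_4 (.cons 3 m1_5 (.cons 1 m1_6 (.cons 1 m1_7 (.cons 1 m1_8 (.cons 3 m1_9 (.cons 6 m1_10 (.cons 12 m1_11 (.cons 24 m1_12 (.cons 48 m1_13 (.cons 96 m1_14 .nil)))))))))))))))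

theorem ok1 : Net.ok 192 net1 = true :=
  by decide +kernel

noncomputable def m2_0 : ℕ := nat_lit 0x96b7395c43c4031081c21800

noncomputable def m2_1 : ℕ := nat_lit 0x7a2af8f1380000000000000400331c29800

noncomputable def m2_2 : ℕ := nat_lit 0xfebb24000000b35488000000195f9000000090e080

noncomputable def m2_3 : ℕ := nat_lit 0xb31000abc000a0e00074d000bf4000f68000875000da0

noncomputable def m2_4 : ℕ := nat_lit 0x1c03e01002001601a02c00a01a02c03b00901000200c028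

noncomputable def m2_5 : ℕ := nat_lit 0xc21840c50020c41c20400021811801040c5100000082180

noncomputable def m2_6 : ℕ := nat_lit 0x8000208048040248001001000001000000000000200000

noncomputable def m2_7 : ℕ := nat_lit 0x12082492090480490402402010482010400002002402000

noncomputable def m2_8 : ℕ := nat_lit 0x8208009048048249001049040009000048008040208008

noncomputable def m2_9 : ℕ := nat_lit 0x2106100000080002000002080000004080000000002000

noncomputable def m2_10 : ℕ := nat_lit 0x1c00001e02001601a02800e01802c03001001000200c028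

noncomputable def m2_11 : ℕ := nat_lit 0xb30000abc000a0e000648000bf4000f68000844000920

noncomputable def m2_12 : ℕ := nat_lit 0xfebb24000000b25488000000191b9000000010e080

noncomputable def m2_13 : ℕ := nat_lit 0x3a0ab8f1380000000000000400331c29800

noncomputable def m2_14 : ℕ := nat_lit 0x96b7395c43c4031081c21800

noncomputable def net2 : Net := (.cons 96 m2_0 (.cons 48 m2_1 (.cons 24 m2_2 (.cons 12 m2_3 (.cons 6 m2_4 (.cons 3 m2_5 (.cons 1 m2_6 (.cons 1 m2_7 (.cons 1 m2_8 (.cons 3 m2_9 (.cons 6 m2_10 (.cons 12 m2_11 (.cons 24 m2_12 (.cons 48 m2_13 (.cons 96 m2_14 .nil)))))))))))))))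

theorem ok2 : Net.ok 192 net2 = true :=
  by decide +kernel

noncomputable def m3_0 : ℕ := nat_lit 0x1af5b56d1491514840450200

noncomputable def m3_1 : ℕ := nat_lit 0x726c91e45f000000000000009e0385442210

noncomputable def m3_2 : ℕ := nat_lit 0x1c6e16000000dafa64000000e858ac000000cc4300

noncomputable def m3_3 : ℕ := nat_lit 0xa5e000516000da1000e7d000030000434000604000200

noncomputable def m3_4 : ℕ := nat_lit 0x2300100001400700d01f01703f01e02c00f00802c032010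

noncomputable def m3_5 : ℕ := nat_lit 0xc10c50821c40830820031820c7186184141082184004100

noncomputable def m3_6 : ℕ := nat_lit 0x1000001000008000001040008001000000000201000000

noncomputable def m3_7 : ℕ := nat_lit 0x412080002490090090002090090082400410002402000400

noncomputable def m3_8 : ℕ := nat_lit 0x201201000000001040209208241201040000008249240000

noncomputable def m3_9 : ℕ := nat_lit 0x6080002004104184084002004184180004002184000100

noncomputable def m3_10 : ℕ := nat_lit 0x1800a00000003203000003800001a02403000802c032010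

noncomputable def m3_11 : ℕ := nat_lit 0x81e0005140000d6000d08000030000434000604000200

noncomputable def m3_12 : ℕ := nat_lit 0x1c7e02000000dafa64000000e858ac000000cc4300

noncomputable def m3_13 : ℕ := nat_lit 0x726c91e45f000000000000009e0385442210

noncomputable def m3_14 : ℕ := nat_lit 0x1af5b56d1491514840450200

noncomputable def net3 : Net := (.cons 96 m3_0 (.cons 48 m3_1 (.cons 24 m3_2 (.cons 12 m3_3 (.cons 6 m3_4 (.cons 3 m3_5 (.cons 1 m3_6 (.cons 1 m3_7 (.cons 1 m3_8 (.cons 3 m3_9 (.cons 6 m3_10 (.cons 12 m3_11 (.cons 24 m3_12 (.cons 48 m3_13 (.cons 96 m3_14 .nil)))))))))))))))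

theorem ok3 : Net.ok 192 net3 = true :=
  by decide +kernel

noncomputable def m4_0 : ℕ := nat_lit 0xddefeb07f6a69926257e4bd8

noncomputable def m4_1 : ℕ := nat_lit 0xd8a2b0f7923b000000000000a43d159ef8ed

noncomputable def m4_2 : ℕ := nat_lit 0x46f04c000000b0fb3400000053ba0a0000003b515d

noncomputable def m4_3 : ℕ := nat_lit 0xd0f000c83000bd7000af8000d37000d01000ddd000ae5

noncomputable def m4_4 : ℕ := nat_lit 0x2a03803700003f02b03f00600b01602a00a036029013021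

noncomputable def m4_5 : ℕ := nat_lit 0x1c40440841c71841821810060c61c11401861c00871c4001

noncomputable def m4_6 : ℕ := nat_lit 0x1240000209240000201041041000008040200040000201

noncomputable def m4_7 : ℕ := nat_lit 0x12492402492480402482482482402412080490080090412

noncomputable def m4_8 : ℕ := nat_lit 0x208241048041248041200208049048201000008248049200

noncomputable def m4_9 : ℕ := nat_lit 0x6000080002002002080084106006104000106080180104

noncomputable def m4_10 : ℕ := nat_lit 0x2202e03001000400000001803e00a01400200001600401e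

noncomputable def m4_11 : ℕ := nat_lit 0x77a000b800006d200099c00086e000942000f2c000b26

noncomputable def m4_12 : ℕ := nat_lit 0x64d3f00000003748d00000008c4ec80000008f426c

noncomputable def m4_13 : ℕ := nat_lit 0xa65f02a8ad50000000000000510c21c422ae

noncomputable def m4_14 : ℕ := nat_lit 0xf7f74f87f63c994e453edf48

noncomputable def net4 : Net := (.cons 96 m4_0 (.cons 48 m4_1 (.cons 24 m4_2 (.cons 12 m4_3 (.cons 6 m4_4 (.cons 3 m4_5 (.cons 1 m4_6 (.cons 1 m4_7 (.cons 1 m4_8 (.cons 3 m4_9 (.cons 6 m4_10 (.cons 12 m4_11 (.cons 24 m4_12 (.cons 48 m4_13 (.cons 96 m4_14 .nil)))))))))))))))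

theorem ok4 : Net.ok 192 net4 = true :=
  by decide +kernel

noncomputable def m5_0 : ℕ := nat_lit 0x1a515c6f49347bf149541c0a

noncomputable def m5_1 : ℕ := nat_lit 0x6aad9c64eee3000000000000ad06e1cd8fab

noncomputable def m5_2 : ℕ := nat_lit 0x4aff2f000000e4838700000058eb77000000b21b13

noncomputable def m5_3 : ℕ := nat_lit 0xd5300056100018b000cf40001590003cb000f2100003b

noncomputable def m5_4 : ℕ := nat_lit 0x2f03603500d00701c01301903a02500d01603e02f013022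

noncomputable def m5_5 : ℕ := nat_lit 0x851c31010451460071c30441421c50860471850840c7140

noncomputable def m5_6 : ℕ := nat_lit 0x1001000200001001200000041240208200008209248209

noncomputable def m5_7 : ℕ := nat_lit 0x82412410400012082402012492492492412092492492492

noncomputable def m5_8 : ℕ := nat_lit 0x209000048000049040000248049049248041240208009201

noncomputable def m5_9 : ℕ := nat_lit 0x82100182080080006000000080000102002100182000082

noncomputable def m5_10 : ℕ := nat_lit 0x2a01400c02002003400802e02202c01003e01603201a03a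

noncomputable def m5_11 : ℕ := nat_lit 0xe38000e66000acc000f00000f040000de000c34000a86

noncomputable def m5_12 : ℕ := nat_lit 0x1b7d78000000b500dc0000004de4ec000000a71488

noncomputable def m5_13 : ℕ := nat_lit 0x95526b9e111800000000000052f816327054

noncomputable def m5_14 : ℕ := nat_lit 0x1a515c6f49347bf149541c0a

noncomputable def net5 : Net := (.cons 96 m5_0 (.cons 48 m5_1 (.cons 24 m5_2 (.cons 12 m5_3 (.cons 6 m5_4 (.cons 3 m5_5 (.cons 1 m5_6 (.cons 1 m5_7 (.cons 1 m5_8 (.cons 3 m5_9 (.cons 6 m5_10 (.cons 12 m5_11 (.cons 24 m5_12 (.cons 48 m5_13 (.cons 96 m5_14 .nil)))))))))))))))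

theorem ok5 : Net.ok 192 net5 = true :=
  by decide +kernel

noncomputable def m6_0 : ℕ := nat_lit 0xddaa8b2e1600006020400000

noncomputable def m6_1 : ℕ := nat_lit 0x317afbacb2570000000000000c40c2542200

noncomputable def m6_2 : ℕ := nat_lit 0x813f670000006c38c100000053fc8c000000e4c822

noncomputable def m6_3 : ℕ := nat_lit 0x5a3000293000901000d89000802000df80008a2000362

noncomputable def m6_4 : ℕ := nat_lit 0x3701a03e01401102d01a02f03801c02502602c01801500c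

noncomputable def m6_5 : ℕ := nat_lit 0xc21001821021450800c00010c60011c3042103084004086

noncomputable def m6_6 : ℕ := nat_lit 0x40201040000201208040008040201000200201008008

noncomputable def m6_7 : ℕ := nat_lit 0x80490482080090412410480010080402082400482410010

noncomputable def m6_8 : ℕ := nat_lit 0x200048209041241001008041009240249008200201008208

noncomputable def m6_9 : ℕ := nat_lit 0x80002180100104004000080006000100002100184100084

noncomputable def m6_10 : ℕ := nat_lit 0xc01e00c01002002401002801801c01a00600801c03000c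

noncomputable def m6_11 : ℕ := nat_lit 0x3600002820007ea000f9a0008000005d800093c000370

noncomputable def m6_12 : ℕ := nat_lit 0xd311a40000002320ba00000051f48c000000216930

noncomputable def m6_13 : ℕ := nat_lit 0x8ea428fd8a000000000000000c40c2542200

noncomputable def m6_14 : ℕ := nat_lit 0xddaa8b2e1600006020400000

noncomputable def net6 : Net := (.cons 96 m6_0 (.cons 48 m6_1 (.cons 24 m6_2 (.cons 12 m6_3 (.cons 6 m6_4 (.cons 3 m6_5 (.cons 1 m6_6 (.cons 1 m6_7 (.cons 1 m6_8 (.cons 3 m6_9 (.cons 6 m6_10 (.cons 12 m6_11 (.cons 24 m6_12 (.cons 48 m6_13 (.cons 96 m6_14 .nil)))))))))))))))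

theorem ok6 : Net.ok 192 net6 = true :=
  by decide +kernel

noncomputable def nets : List Net := [net0, net1, net2, net3, net4, net5, net6]

noncomputable def act : Act := netAct' nets
noncomputable def π : ℕ → Equiv.Perm ℕ := netPerm nets

theorem spec : act.Spec 192 π :=
  spec_fast (netAct_spec (AllP.forall (p := fun t => Net.ok 192 t = true) ⟨ok0, ok1, ok2, ok3, ok4, ok5, ok6, trivial⟩))

theorem out : ∀ k, 7 ≤ k → π k = 1 :=
  netPerm_out nets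

theorem sat_inv_0 : invC Cfsg.Agent.O3R.C3.act Cfsg.Agent.O3R.PC3.I 192 8 Cfsg.Agent.O3R.PC3.inv.length [0, 1, 2, 3, 4, 5, 6, 7] = true :=
  by decide +kernel

theorem sat_inv : ∀ k, Cfsg.Agent.O3R.C3.π (Cfsg.Agent.O3R.PC3.I k) * Cfsg.Agent.O3R.C3.π k = 1 :=
  inv_of_checks Cfsg.Agent.O3R.C3.spec (K := 8) (by decide) Cfsg.Agent.O3R.C3.out [[0, 1, 2, 3, 4, 5, 6, 7]] (by decide) ⟨sat_inv_0, trivial⟩

theorem sat_rel_0_0 : relsC Cfsg.Agent.O3R.C3.act Cfsg.Agent.O3R.PC3.I 192 8 [[0, 2, 0, 2], [0, 3, 0, 3], [0, 4, 0, 4], [0, 5, 0, 5], [1, 2, 1, 2], [1, 3, 1, 3], [1, 4, 1, 4], [1, 5, 1, 5], [1, 6, 1, 6], [2, 4, 2, 4], [2, 5, 2, 5], [3, 4, 3, 4], [3, 5, 3, 5], [3, 6, 3, 6], [5, 6, 5, 6], [0, 1, 0, 1, 0, 1], [0, 3, 0, 6, 3, 6], [0, 5, 0, 6, 5, 6], [2, 3, 2, 3, 2, 3], [2, 5, 2, 6, 5, 6], [4, 5, 4, 5, 4, 5], [0, 1, 0, 1, 0, 6, 1, 6], [0, 1, 3, 1, 0, 6, 3, 6], [0, 1, 5, 1, 0, 6, 5, 6], [0, 2, 5, 2, 0, 6, 5,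 6], [0, 6, 0, 6, 0, 6, 0, 6], [2, 3, 2, 3, 2, 6, 3, 6], [2, 3, 5, 3, 2, 6, 5, 6], [2, 6, 2, 6, 2, 6, 2, 6], [4, 5, 4, 5, 4, 6, 5, 6], [4, 6, 4, 6, 4, 6, 4, 6], [0, 1, 0, 6, 0, 1, 6, 0, 6], [0, 1, 6, 0, 1, 6, 0, 6, 1], [2, 3, 2, 6, 2, 3, 6, 2, 6], [2, 3, 6, 2, 3, 6, 2, 6, 3], [4, 5, 4, 6, 4, 5, 6, 4, 6], [4, 5, 6, 4, 5, 6, 4, 6, 5]] [0, 1, 2, 3, 4, 5, 6, 7] = true :=
  by decide +kernel

theorem sat_rel_0 : ∀ r ∈ ([[0, 2, 0, 2], [0, 3, 0, 3], [0, 4, 0, 4], [0, 5, 0, 5], [1, 2, 1, 2], [1, 3, 1, 3], [1, 4, 1, 4], [1, 5, 1, 5], [1, 6, 1, 6], [2, 4, 2, 4], [2, 5, 2, 5], [3, 4, 3, 4], [3, 5, 3, 5], [3, 6, 3, 6], [5, 6, 5, 6], [0, 1, 0, 1, 0, 1], [0, 3, 0, 6, 3, 6], [0, 5, 0, 6, 5, 6], [2, 3, 2, 3, 2, 3], [2, 5, 2, 6, 5, 6], [4, 5, 4, 5, 4, 5], [0, 1, 0, 1, 0, 6, 1, 6], [0, 1, 3, 1, 0, 6, 3, 6], [0, 1, 5, 1, 0, 6, 5, 6], [0, 2, 5, 2, 0, 6, 5, 6], [0, 6, 0, 6, 0, 6, 0, 6], [2, 3, 2, 3, 2, 6, 3, 6], [2, 3,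 5, 3, 2, 6, 5, 6], [2, 6, 2, 6, 2, 6, 2, 6], [4, 5, 4, 5, 4, 6, 5, 6], [4, 6, 4, 6, 4, 6, 4, 6], [0, 1, 0, 6, 0, 1, 6, 0, 6], [0, 1, 6, 0, 1, 6, 0, 6, 1], [2, 3, 2, 6, 2, 3, 6, 2, 6], [2, 3, 6, 2, 3, 6, 2, 6, 3], [4, 5, 4, 6, 4, 5, 6, 4, 6], [4, 5, 6, 4, 5, 6, 4, 6, 5]] : List (List ℕ)), ev Cfsg.Agent.O3R.C3.π r = 1 :=
  rels_of_checks Cfsg.Agent.O3R.C3.spec (K := 8) (by decide) sat_inv _ [[0, 1, 2, 3, 4, 5, 6, 7]] (by decide) ⟨sat_rel_0_0, trivial⟩

theorem sat_rel : ∀ r ∈ ([[0, 2, 0, 2], [0, 3, 0, 3], [0, 4, 0, 4], [0, 5, 0, 5], [1, 2, 1, 2], [1, 3, 1, 3], [1, 4, 1, 4], [1, 5, 1, 5], [1, 6, 1, 6], [2, 4, 2, 4], [2, 5, 2, 5], [3, 4, 3, 4], [3, 5, 3, 5], [3, 6, 3, 6], [5, 6, 5, 6], [0, 1, 0, 1, 0, 1], [0, 3, 0, 6, 3, 6], [0, 5, 0, 6, 5, 6], [2, 3, 2, 3, 2, 3], [2, 5, 2, 6, 5, 6], [4, 5, 4, 5, 4, 5], [0, 1, 0, 1, 0, 6, 1, 6], [0, 1, 3, 1, 0, 6, 3, 6], [0, 1, 5, 1, 0, 6, 5, 6], [0, 2, 5, 2, 0, 6, 5,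 6], [0, 6, 0, 6, 0, 6, 0, 6], [2, 3, 2, 3, 2, 6, 3, 6], [2, 3, 5, 3, 2, 6, 5, 6], [2, 6, 2, 6, 2, 6, 2, 6], [4, 5, 4, 5, 4, 6, 5, 6], [4, 6, 4, 6, 4, 6, 4, 6], [0, 1, 0, 6, 0, 1, 6, 0, 6], [0, 1, 6, 0, 1, 6, 0, 6, 1], [2, 3, 2, 6, 2, 3, 6, 2, 6], [2, 3, 6, 2, 3, 6, 2, 6, 3], [4, 5, 4, 6, 4, 5, 6, 4, 6], [4, 5, 6, 4, 5, 6, 4, 6, 5]] : List (List ℕ)), ev Cfsg.Agent.O3R.C3.π r = 1 :=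
  rels_join [[[0, 2, 0, 2], [0, 3, 0, 3], [0, 4, 0, 4], [0, 5, 0, 5], [1, 2, 1, 2], [1, 3, 1, 3], [1, 4, 1, 4], [1, 5, 1, 5], [1, 6, 1, 6], [2, 4, 2, 4], [2, 5, 2, 5], [3, 4, 3, 4], [3, 5, 3, 5], [3, 6, 3, 6], [5, 6, 5, 6], [0, 1, 0, 1, 0, 1], [0, 3, 0, 6, 3, 6], [0, 5, 0, 6, 5, 6], [2, 3, 2, 3, 2, 3], [2, 5, 2, 6, 5, 6], [4, 5, 4, 5, 4, 5], [0, 1, 0, 1, 0, 6, 1, 6], [0, 1, 3, 1, 0, 6, 3, 6], [0, 1, 5, 1, 0, 6, 5, 6], [0, 2, 5, 2, 0, 6, 5, 6], [0, 6, 0, 6, 0, 6, 0, 6], [2, 3, 2, 3, 2, 6, 3, 6], [2, 3, 5, 3, 2, 6, 5, 6], [2, 6, 2, 6, 2, 6, 2, 6], [4, 5, 4, 5, 4, 6, 5, 6], [4, 6, 4, 6, 4, 6, 4, 6], [0, 1, 0, 6, 0, 1, 6, 0, 6], [0, 1, 6, 0, 1, 6, 0, 6, 1], [2, 3, 2, 6, 2, 3, 6, 2, 6], [2, 3, 6, 2, 3, 6, 2, 6, 3], [4, 5, 4, 6, 4, 5, 6, 4, 6], [4, 5, 6, 4, 5, 6, 4, 6, 5]]] ⟨sat_rel_0, trivial⟩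

theorem sat : Sat Cfsg.Agent.O3R.PC3 Cfsg.Agent.O3R.C3.π :=
  ⟨Cfsg.Agent.O3R.C3.out, sat_inv, sat_rel⟩

noncomputable def done_tr0 : ℕ := nat_lit 0xfd6debe7debdeafffafef7ebfef5fddfad76d525b5eb7ff2

noncomputable def done_tr1 : ℕ := nat_lit 0x3eb6bc18e3cedf06372b39bc663656f1ad9d95bb1751da9c

noncomputable def done_tr2 : ℕ := nat_lit 0xffdf1fdf79f79ffbd7d3beffb7bf9f7df6dffa4fe81e1cfe

noncomputable def done_t0_0 : ℕ := nat_lit 0xe9ae0d4e62e09b8c37822cad242e1f68fe909a53fa1c18b9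

noncomputable def done_t0_1 : ℕ := nat_lit 0xfdef9a8ffbfd563195fb9306308bc13cdb41efe2cd5f462e

noncomputable def done_t0_2 : ℕ := nat_lit 0xfe102010000000001000000020080338c98be49c32008040

noncomputable def done_t0_3 : ℕ := nat_lit 0xfc3f3fc043ff87dee0031ff1c73008c10004000000000000

noncomputable def done_t1_0 : ℕ := nat_lit 0x165f93d3f900137184601bfd431ede82f6a1fa03c0fc7139

noncomputable def done_t1_1 : ℕ := nat_lit 0xe85f3e93fdffdca527ffe4020b592000ff81ff6ffd03003e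

noncomputable def done_t1_2 : ℕ := nat_lit 0xffbfed7e6affef5adb9bbbfdb4a6df7d00de024c095c5ec0

noncomputable def done_t1_3 : ℕ := nat_lit 0xffe0d2ad970030a52c644402484120820020000000000000

noncomputable def done_t2_0 : ℕ := nat_lit 0x16561d7871c0af10190538ba2b553c65a65fa8de0ab0b9b9

noncomputable def done_t2_1 : ℕ := nat_lit 0xeb5f1a9f7d75098851d2ce12a9498b3f74ed520ba01a042e

noncomputable def done_t2_2 : ℕ := nat_lit 0xfc804020000010211e000014318e0a1952862a4448040040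

noncomputable def done_t2_3 : ℕ := nat_lit 0xfcc74d607c079c738e03e0671ce704062460100100000000

noncomputable def done_t3_0 : ℕ := nat_lit 0xeacf93cbe9f01079c7b04071d0802fe609f8053a37d15339

noncomputable def done_t3_1 : ℕ := nat_lit 0x813c2812810fff4a84573bef16f7da4dfd08d8008013e

noncomputable def done_t3_2 : ℕ := nat_lit 0xfff7ec3d7ed7ef000b57ba8c000690000001009222b2bcc0

noncomputable def done_t3_3 : ℕ := nat_lit 0xff38b2b6832850a52ca80502484140820020000000000000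

noncomputable def done_t4_0 : ℕ := nat_lit 0x14308020a648f5063c2d69b86e7076f3e4bdbc0b5e15e39d

noncomputable def done_t4_1 : ℕ := nat_lit 0x2b6fc3843860a000a0210000004022058890ff000600080

noncomputable def done_t4_2 : ℕ := nat_lit 0x2a92fc1821427f000501080c0002022058890ffa0ff07800

noncomputable def done_t4_3 : ℕ := nat_lit 0x280000000000000000000010010800000300000000000000

noncomputable def done_t5_0 : ℕ := nat_lit 0xd96de824d2b500c00ae2964bee75899c5b427005afef9c03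

noncomputable def done_t5_1 : ℕ := nat_lit 0x3d4deb438c18ea1e383c61a0010c7440001010010fe5fbf0

noncomputable def done_t5_2 : ℕ := nat_lit 0xd949e80308106a06381000086f7c0093ff24aff050000000

noncomputable def done_t5_3 : ℕ := nat_lit 0xc02403e042840039c2021000108000000000000000000000

noncomputable def done_t6_0 : ℕ := nat_lit 0xc36b9627a343106101318a57c10b8bae5b6a6ff0d591036b

noncomputable def done_t6_1 : ℕ := nat_lit 0x6917a38e1815242d2d4d0208c36000000002d00be4e004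

noncomputable def done_t6_2 : ℕ := nat_lit 0xc09164181830658001d1080400820000000002d00bf4e700

noncomputable def done_t6_3 : ℕ := nat_lit 0xc0fa73fbb76a70bdecec45025841608200a1000e200a0000

noncomputable def doneC : TC := ⟨Cfsg.Agent.O3R.PC3, [[0], [1], [2], [3], [6]], 192, 192, 8, 4, [done_tr0, done_tr1, done_tr2],
  [[done_t0_0, done_t0_1, done_t0_2, done_t0_3],
   [done_t1_0, done_t1_1, done_t1_2, done_t1_3],
   [done_t2_0, done_t2_1, done_t2_2, done_t2_3],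
   [done_t3_0, done_t3_1, done_t3_2, done_t3_3],
   [done_t4_0, done_t4_1, done_t4_2, done_t4_3],
   [done_t5_0, done_t5_1, done_t5_2, done_t5_3],
   [done_t6_0, done_t6_1, done_t6_2, done_t6_3]]⟩

theorem done_s : doneC.structC Cfsg.Agent.O3R.C3.act = true :=
  by decide +kernel

theorem done_c0_0 : doneC.coverC Cfsg.Agent.O3R.C3.act 0 true [(2, 0), (0, 0), (3, 0), (6, 0), (9, 0), (93, 4)] [(true, 0, 0, 0), (false, 45, 0, 15), (false, 45, 0, 36), (false, 51, 2, 166)] 0 (ones 192) = true :=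
  by decide +kernel

theorem done_j0 : doneC.JustS Cfsg.Agent.O3R.C3.π 0 (ones 192) :=
  TC.cover_step Cfsg.Agent.O3R.C3.spec done_s (TC.justS_zero 0) done_c0_0

theorem done_c1_0 : doneC.coverC Cfsg.Agent.O3R.C3.act 1 true [(12, 0), (15, 0), (18, 0), (21, 0), (24, 0), (45, 1)] [(true, 1, 0, 0), (false, 5, 0, 15), (false, 5, 0, 25), (false, 5, 0, 36), (false, 5, 0, 39)] 0 (ones 192) = true :=
  by decide +kernel

theorem done_j1 : doneC.JustS Cfsg.Agent.O3R.C3.π 1 (ones 192) :=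
  TC.cover_step Cfsg.Agent.O3R.C3.spec done_s (TC.justS_zero 1) done_c1_0

theorem done_c2_0 : doneC.coverC Cfsg.Agent.O3R.C3.act 2 true [(8, 0), (12, 1), (27, 0), (30, 0), (99, 4)] [(true, 2, 0, 0), (false, 0, 1, 74), (false, 0, 1, 109), (false, 0, 1, 111), (false, 0, 1, 139), (false, 0, 1, 155), (false, 0, 1, 157), (false, 54, 0, 18), (false, 54, 0, 30), (false, 54, 0, 38), (false, 54, 0, 57), (false, 57, 2, 166)] 0 (ones 192) = true :=
  by decide +kernel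

theorem done_j2 : doneC.JustS Cfsg.Agent.O3R.C3.π 2 (ones 192) :=
  TC.cover_step Cfsg.Agent.O3R.C3.spec done_s (TC.justS_zero 2) done_c2_0

theorem done_c3_0 : doneC.coverC Cfsg.Agent.O3R.C3.act 3 true [(11, 0), (3, 1), (33, 0), (36, 0), (39, 0)] [(true, 3, 0, 0), (false, 15, 1, 8), (false, 15, 1, 13), (false, 15, 1, 17), (false, 15, 1, 21), (false, 15, 1, 23), (false, 15, 1, 33), (false, 48, 1, 4), (false, 48, 1, 11), (false, 48, 1, 74), (false, 48, 1, 52), (false, 48, 1, 139), (false, 48, 1, 99), (false, 48, 4, 162), (false, 48, 4, 184), (false, 54, 1, 52), (false, 54, 1, 70), (false, 54, 1, 76), (false, 54, 1, 103)] 0 (ones 192) = true :=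
  by decide +kernel

theorem done_j3 : doneC.JustS Cfsg.Agent.O3R.C3.π 3 (ones 192) :=
  TC.cover_step Cfsg.Agent.O3R.C3.spec done_s (TC.justS_zero 3) done_c3_0

theorem done_c4_0 : doneC.coverC Cfsg.Agent.O3R.C3.act 4 true [(14, 0), (6, 1)] [(false, 18, 1, 23), (false, 18, 1, 33), (false, 18, 1, 26), (false, 18, 1, 60), (false, 18, 1, 37), (false, 18, 1, 73), (false, 27, 1, 7), (false, 27, 1, 11), (false, 27, 1, 120), (false, 27, 1, 136), (false, 27, 1, 151), (false, 27, 1, 107), (false, 27, 1, 150), (false, 27, 1, 108), (false, 33, 1, 24), (false, 33, 1, 35), (false, 33, 1, 98), (false, 33, 1, 81), (false, 33, 1, 136), (false, 33, 1, 107), (false, 33, 1, 150), (false, 33, 1, 141), (false, 60, 0, 20), (false, 60, 0, 98), (false, 60, 0, 81), (false, 60, 0, 136), (false, 60, 0, 107), (false, 90, 0, 121), (false, 90, 0, 151), (false, 90, 0, 158), (false, 90, 0, 82), (false, 90, 0, 178), (false, 90,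 0, 108), (false, 90, 0, 113), (false, 90, 0, 146), (false, 105, 4, 0), (false, 105, 4, 54), (false, 105, 4, 72), (false, 105, 4, 75), (false, 105, 4, 102), (false, 105, 4, 159), (false, 105, 4, 117)] 0 (ones 192) = true :=
  by decide +kernel

theorem done_j4 : doneC.JustS Cfsg.Agent.O3R.C3.π 4 (ones 192) :=
  TC.cover_step Cfsg.Agent.O3R.C3.spec done_s (TC.justS_zero 4) done_c4_0

theorem done_c5_0 : doneC.coverC Cfsg.Agent.O3R.C3.act 5 true [(17, 0), (9, 1), (21, 1), (36, 1), (42, 0), (51, 1), (57, 1)] [(false, 30, 1, 63), (false, 30, 1, 47), (false, 30, 1, 89), (false, 30, 1, 84), (false, 30, 1, 99), (false, 30, 1, 137), (false, 51, 4, 16), (false, 51, 4, 26), (false, 51, 4, 37), (false, 51, 4, 40), (false, 51, 4, 175), (false, 51, 4, 184), (false, 60, 1, 3), (false, 60, 1, 2), (false, 60, 1, 76), (false, 60, 1, 103), (false, 60, 1, 109), (false, 60, 1, 143), (false, 60, 1, 188), (false, 60, 1,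 186)] 0 (ones 192) = true :=
  by decide +kernel

theorem done_j5 : doneC.JustS Cfsg.Agent.O3R.C3.π 5 (ones 192) :=
  TC.cover_step Cfsg.Agent.O3R.C3.spec done_s (TC.justS_zero 5) done_c5_0

theorem done_c6_0 : doneC.coverC Cfsg.Agent.O3R.C3.act 6 true [(20, 0), (42, 1), (93, 3), (99, 3), (105, 3)] [(true, 4, 0, 0), (false, 24, 1, 106), (false, 24, 1, 87), (false, 24, 1, 120), (false, 24, 1, 112), (false, 24, 1, 132), (false, 39, 1, 87), (false, 39, 1, 120), (false, 39, 1, 116), (false, 39, 1, 98), (false, 39, 1, 148), (false, 39, 1, 136)] 0 (ones 192) = true :=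
  by decide +kernel

theorem done_j6 : doneC.JustS Cfsg.Agent.O3R.C3.π 6 (ones 192) :=
  TC.cover_step Cfsg.Agent.O3R.C3.spec done_s (TC.justS_zero 6) done_c6_0

theorem done : doneC.Done Cfsg.Agent.O3R.C3.π :=
  TC.done_of Cfsg.Agent.O3R.C3.spec sat done_s ⟨done_j0, done_j1, done_j2, done_j3, done_j4, done_j5, done_j6, trivial⟩

end C3

theorem iC3 : Impl Cfsg.Agent.O3R.PC3 Cfsg.Agent.O3R.PC2 [[0], [1], [2], [3], [6]] :=
  impl_of_subC (P := Cfsg.Agent.O3R.PC3) (c1 := [(111, 0), (111, 0), (111, 0), (111, 0), (111, 0)]) (c2 := [(0, 0), (3, 0), (12, 0), (15, 0), (24, 0), (39, 0), (45, 0), (48, 0), (54, 0), (63, 0), (66, 0), (75, 0), (78, 0), (84, 0), (93, 0), (96, 0), (99, 0), (102, 0)]) (by decide +kernel)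

theorem bc3 : Bound Cfsg.Agent.O3R.PC3 110592 :=
  C3.done.bound' bc2 iC3 ⟨inSub_of_mem (by decide), inSub_of_mem (by decide), inSub_of_mem (by decide), inSub_of_mem (by decide), inSub_of_mem (by decide), trivial⟩

theorem iF : Impl Cfsg.Agent.O8C.PF Cfsg.Agent.O3R.PC3 [[0], [1], [2], [3], [4], [5], [6]] :=
  impl_of_subC (P := Cfsg.Agent.O8C.PF) (c1 := [(186, 0), (186, 0), (186, 0), (186, 0), (186, 0), (186, 0), (186, 0)]) (c2 := [(0, 0), (3, 0), (6, 0), (9, 0), (15, 0), (18, 0), (21, 0), (24, 0), (27, 0), (30, 0), (33, 0), (39, 0), (42, 0), (45, 0), (51, 0), (54, 0), (57, 0), (60, 0), (63, 0), (66, 0), (69, 0), (75, 0), (78, 0), (81, 0), (84, 0), (87, 0), (96, 0), (99, 0), (102, 0), (111, 0), (114, 0), (123, 0), (129, 0), (144, 0), (150, 0), (165, 0), (171, 0)]) (by decide +kernel)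

theorem boundL : Bound O8C.PF 174182400 :=
  O8C.AF.done.bound' bc3 iF O8C.AF_l

end Cfsg.Agent.O3R
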