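import Mathlib
import Cfsg.Agent.O3R.MoF
import Cfsg.Agent.O8C.Surj

/-!
# Conjugates of the central involution inside the extraspecial group
-/

set_option autoImplicit false
set_option maxRecDepth 100000

namespace Cfsg.Agent.O3R

open Subgroup Cfsg.Agent.TT Cfsg.Agent.LES Cfsg.Agent.XSC Cfsg.Agent.Comp.BN Cfsg.Agent.O8C

def OW : List (List ℕ) := [[], [], [12], [13], [14], [15], [], [9], [14, 12], [12, 9], [15, 12], [12], [14, 13], [13], [13, 9], [15, 13], [16], [17], [], [9], [], [10], [], [9], [], [], [], [], [], [], [], [], [16, 12], [12, 9], [17, 12], [12], [], [], [], [], [12], [12, 9], [12, 10], [12], [], [], [], [], [16, 13], [13], [13, 9], [17, 13], [], [], [], [], [], [], [], [], [13], [13], [13, 9], [13, 10], [16, 14], [14, 10], [], [], [17, 14], [14], [], [], [14], [14, 9], [], [], [14, 9], [14], [], [], [16, 15], [15], [], [], [15, 10], [17, 15], [], [], [], [], [15], [15], [], [], [15, 9], [15, 9], [16], [16,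 9], [], [], [], [], [17], [17], [16, 14, 12, 9], [17, 15, 13], [], [], [], [], [17, 14, 12], [16, 15, 13, 9], [16, 9], [16], [], [], [], [], [17, 9], [17, 9], [], [], [16, 15, 12], [17, 14, 13, 9], [16, 14, 13], [17, 15, 12, 9], [], [], [16, 14, 12], [], [14, 12, 10], [], [14, 12, 9], [], [14, 12], [], [17, 14, 12], [], [14, 12], [], [14, 12], [], [14, 12, 9], [], [16, 12, 9], [], [16, 12], [], [16, 14], [], [17, 15, 13, 9], [], [], [17, 12, 9], [], [17, 12, 9], [], [17, 14, 9], [], [16, 15, 13], [16, 15, 12], [], [15, 12], [], [], [15, 12, 9], [], [15, 12, 9], [15, 12, 10], [], [17, 15, 12], [], [], [15, 12], [], [15, 12], [16, 12], [], [16, 12, 9], [], [], [16, 15, 9], [], [17, 14, 13], [], [17, 12], [], [17, 12], [16, 14, 13, 9], [], [17, 15], [], [16, 14, 13], [], [], [14, 13, 10], [14, 13], [], [], [14, 13, 9], [14, 13, 9], [], [], [14, 13], [17, 14, 13], [], [], [14, 13], [16, 13], [], [], [16, 13, 9], [16, 14, 9], [],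 [], [17, 15, 12], [], [17, 14], [16, 15, 12, 9], [], [], [17, 13], [17, 13], [], [16, 13, 9], [], [], [16, 13], [], [16, 15], [17, 14, 12, 9], [], [16, 14, 12], [], [], [17, 15, 9], [], [17, 13, 9], [17, 13, 9], [], [16, 15, 13], [], [], [15, 13], [], [15, 13], [15, 13], [], [], [15, 13, 9], [15, 13, 9], [], [15, 13, 10], [], [], [17, 15, 13]]

/-- the orbit type of a code -/
def ty (n : ℕ) : ℕ := dg 3 0x169aa5b15368ae596cb2596bb1db2596c96b36896a96a368b2c765965b2b565a29955a6896595db2cb2bb2aa68b2aa68b6492d72db6392db648edb6352d8adb41b48b62b62b48b48321b6db6d090b6d861b6d410b6db6d9094800d86186c0006 n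

def rw0 (j : ℕ) : List ℕ := [[0], [2, 4], [1, 4], [1, 2], [1, 2, 4]].getD j []

theorem o1 : allN (fun n => bif' (Nat.blt (ty n) 5) (band (allL (fun k => Nat.blt k 18) (nth [] OW n))
    (Nat.beq (wact (nth [] OW n) (cd (rw0 (ty n)))) n)) (bif' (Nat.beq (ty n) 5)
      (eqC val (cw n ++ cw n) [8]) (Nat.beq n 0))) 256 = true := by decide +kernel

theorem o2 : ∀ j < 5, (∀ k ∈ rw0 j, k < 9) ∧ cd (rw0 j) ≠ 0 ∧ eqC val (rw0 j ++ rw0 j) [] = true := by
  decide +kernel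

noncomputable def bsC (w t d : List ℕ) : Bool :=
  band (band (band (allL (fun k => Nat.blt k 18) (t ++ d)) (Nat.beq (wact t (cd w)) (cd w)))
    (band (Nat.beq (wact d (cd w)) (cd w)) (eqC val (t ++ t) [])))
    (band (eqC val (powW (cmW X.I d t) 3) []) (neC val (cmW X.I d t) []))

theorem o3 : bsC (rw0 1) [10, 11] [14, 16] = true ∧ bsC (rw0 2) [9, 11] [12, 16] = true ∧
    bsC (rw0 3) [9, 10] [12, 14] = true := by decide +kernel

variable {K : Type*} [Group K] {y : ℕ → K}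

/-- the centraliser of `z` in the subgroup generated by the letters -/
def CL (y : ℕ → K) : Subgroup K := genOn y 262143

theorem ev_memC {W : List ℕ} (h : ∀ k ∈ W, k < 18) : ev y W ∈ CL y :=
  ev_mem_of fun k hk => mem_genOn ((testBit_ones 18 k).trans (by simpa using h k hk))

theorem Q_le_C : Qy y ≤ CL y := genW_le fun W hW => ev_memC (by revert W; decide)

variable [Finite K] (o : Orc y val)
include o

theorem C_le_N : CL y ≤ normalizer (Qy y : Set K) := genOn_le fun k hk => l_norm o (by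
  simpa using (testBit_ones 18 k).symm.trans hk)

omit [Finite K] in
theorem ne_of_κ {a : K} (h : κ y a ≠ 0) : a ≠ 1 ∧ a ≠ y 8 :=
  ⟨fun e => h (e ▸ κ_one o), fun e => h (e ▸ κ_z o)⟩

omit [Finite K] in
theorem conj_of_κ {a b : K} (ha : a ∈ Qy y) (hb : b ∈ Qy y) (h : κ y a = κ y b) (h0 : κ y b ≠ 0) :
    ∃ q ∈ Qy y, q * b * q⁻¹ = a :=
  exists_conj_of_eqv (xsQ o) hb (ne_of_κ o h0).1 (ne_of_κ o h0).2 (eqv_of_κ o ha hb h)

theorem ty_lt {s : K} (hs : s ∈ Qy y) (h : ty (κ y s) < 5) :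
    ∃ l ∈ CL y, l * ev y (rw0 (ty (κ y s))) * l⁻¹ = s := by
  have e := (allN_eq _ _).1 o1 _ (κ_lt (y := y) s)
  rw [bif'_eq, if_pos (by simpa using h), band_eq, allL_eq, Nat.beq_eq] at e
  simp only [Nat.blt_eq] at e
  obtain ⟨a1, a2, -⟩ := o2 _ h
  have a3 := cjQ (w_norm o e.1) (ev_memQ (y := y) a1)
  have a4 := κ_conj o (w_norm o e.1) (ev_memQ (y := y) a1)
  rw [κ_ev o a1, act_w o e.1 (cd_lt _), e.2] at a4
  obtain ⟨q, hq, e1⟩ := conj_of_κ o hs a3 a4.symm (by
    rw [a4]; intro e0; rw [e0] at h; exact absurd h (by decide +kernel))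
  exact ⟨_, mul_mem (Q_le_C hq) (ev_memC e.1), Eq.trans (by group) e1⟩

omit [Finite K] in
theorem ty_ge {s : K} (hs : s ∈ Qy y) (h : ¬ ty (κ y s) < 5) : (ty (κ y s) = 5 ∧ s * s ≠ 1) ∨
    (ty (κ y s) ≠ 5 ∧ κ y s = 0) := by
  have e := (allN_eq _ _).1 o1 _ (κ_lt (y := y) s)
  rw [bif'_eq, if_neg (by simpa using h), bif'_eq] at e
  split_ifs at e with h5
  · refine Or.inl ⟨Nat.eq_of_beq_eq_true h5, fun e1 => z_ne o ?_⟩
    have := o.eq e
    rw [ev_append, ← eqv_sq (xsQ o) (cw_mem _) (κ_spec o hs), e1] at this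
    simpa using this.symm
  · exact Or.inr ⟨by simpa using h5, Nat.eq_of_beq_eq_true e⟩

section
variable (hx : LX (Qy y) (y 8)) (hS : Fus.SylIn 2 (S0 y) ⊤)
include hx hS

theorem exists_fix {s : K} (hs : s ∈ Qy y) (hc : IsConj (y 8) s) (hne : s ≠ y 8) :
    ∃ k, k * y 8 = y 8 * k ∧ act y k (κ y s) = 1 := by
  have := Fact.mk Nat.prime_two
  obtain ⟨h, rfl⟩ := isConj_iff.1 hc
  have p := hx.pair hs hne (hx.mem_map_conj_of_card (by rw [card_Q o]; norm_num) hs)
  have c1 := card_P_eq p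
  have c2 := card_E_sq_le p
  rw [card_map_conj, card_Q o] at c1
  rw [card_Q o] at c2
  generalize (Qy y).map (MulAut.conj h).toMonoidHom = P at *
  generalize h * y 8 * h⁻¹ = s at *
  have c3 := card_mul_le (le_sup_left : Qy y ≤ Qy y ⊔ P ⊓ centralizer {y 8}) le_sup_right
  have c4 : Nat.card (Qy y ⊓ (P ⊓ centralizer {y 8}) : Subgroup K) ≤ Nat.card (Qy y ⊓ P : Subgroup K) :=
    card_le_of_le (inf_le_inf_left _ inf_le_left)
  have n1 : P ⊓ centralizer {y 8} ≤ normalizer (Qy y : Set K) :=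
    inf_le_right.trans hx.centralizer_le_normalizer
  let F : Subgroup K :=
    { carrier := {a | a ∈ normalizer (Qy y : Set K) ∧ act y a (κ y s) = κ y s}
      one_mem' := ⟨one_mem _, act_one o (κ_lt s)⟩
      mul_mem' := fun ha hb => ⟨mul_mem ha.1 hb.1, by rw [act_mul o ha.1 hb.1, hb.2, ha.2]⟩
      inv_mem' := fun ha => ⟨inv_mem ha.1, by
        conv_lhs => rw [← ha.2]
        exact act_inv o ha.1 (κ_lt s)⟩ }
  have n2 : Qy y ⊔ P ⊓ centralizer {y 8} ≤ F := sup_le (fun a ha => ⟨le_normalizer ha, act_Q o ha (κ_lt s)⟩)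
    fun a ha => ⟨n1 ha, by rw [← κ_conj o (n1 ha) hs, conj_eq_of_comm (p.hP.z_comm a ha.1)]⟩
  have sC : S0 y ≤ centralizer {y 8} := fun a ha => mem_centralizer_singleton_iff.2 (nz o (S_le_N o ha))
  obtain ⟨g, hg, e⟩ := (hS.of_le sC le_top).exists_conj (hx.toXS.isPGroup.to_sup_of_normal_left'
    (p.hP.toXS.isPGroup.to_inf_left) n1) (sup_le (LX_le_centralizer hx) inf_le_right)
  have gz := mem_centralizer_singleton_iff.1 hg
  have gn := hx.mem_normalizer gz
  have e1 : (Qy y ⊔ P ⊓ centralizer {y 8}).map (MulAut.conj g).toMonoidHom = S0 y :=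
    eq_of_le_of_card_ge (by rintro _ ⟨a, ha, rfl⟩; exact e a ha) (by
      rw [card_map_conj, card_S o]
      rw [card_Q o] at c3
      have : Nat.card (Qy y ⊓ P : Subgroup K) ≤ 32 := by nlinarith
      nlinarith)
  refine ⟨g, gz, (fix_of_S o (act_lt _ _) fun a ha => ?_).resolve_left fun e0 => ?_⟩
  · obtain ⟨b, hb, rfl⟩ : a ∈ _ := e1 ▸ ha
    change act y (g * b * g⁻¹) _ = _
    rw [← act_mul o (mul_mem (mul_mem gn (n2 hb).1) (inv_mem gn)) gn, inv_mul_cancel_right,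
      act_mul o gn (n2 hb).1, (n2 hb).2]
  · have := act_inv o gn (κ_lt (y := y) s)
    rw [e0, act_zero o] at this
    exact (κ_zero o hs this.symm).elim p.hP.z_ne hne

omit hS in
theorem normS {g : K} (hz : g * y 8 = y 8 * g) (h1 : act y g 1 = 1) : g ∈ normalizer (S0 y : Set K) :=
  norm_S o (N := ⊤) (fun _ => mem_top _) (fun _ _ => hx.mem_normalizer) (mem_top g) hz h1

theorem not_conj_of {j : ℕ} (hj : j < 5) {t d : List ℕ} (c : bsC (rw0 j) t d = true) :
    ¬ IsConj (y 8) (ev y (rw0 j)) := fun hc => by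
  simp only [bsC, band_eq, allL_eq, Nat.beq_eq, Nat.blt_eq, List.mem_append] at c
  obtain ⟨⟨⟨c1, c2⟩, c3, c4⟩, c5, c6⟩ := c
  obtain ⟨a1, a2, -⟩ := o2 _ hj
  obtain ⟨k, hk, e⟩ := exists_fix o hx hS (ev_memQ a1) hc (ne_of_κ o (by rwa [κ_ev o a1])).2
  rw [κ_ev o a1] at e
  have kn := hx.mem_normalizer hk
  have key : ∀ W : List ℕ, (∀ k ∈ W, k < 18) → wact W (cd (rw0 j)) = cd (rw0 j) →
      k * ev y W * k⁻¹ ∈ normalizer (S0 y : Set K) := fun W h1 h2 =>
    normS o hx (comm_mul_left (comm_mul_left hk (evz o h1)) (comm_inv_left hk)) (by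
      rw [act_mul o (mul_mem kn (w_norm o h1)) (inv_mem kn), act_mul o kn (w_norm o h1)]
      conv_lhs => rw [← e]
      rw [act_inv o kn (cd_lt _), act_w o h1 (cd_lt _), h2, e])
  have b1 := mem_of_norm hS (key t (fun k hk => c1 k (Or.inl hk)) c2) (k := 1) (by
    rw [pow_one, pow_two, conj_mul, ← ev_append, o.eq c4]; simp)
  have b2 := mul_mem ((mem_normalizer_iff.1 (key d (fun k hk => c1 k (Or.inr hk)) c3) _).1 b1) (inv_mem b1)
  rw [show k * ev y d * k⁻¹ * (k * ev y t * k⁻¹) * (k * ev y d * k⁻¹)⁻¹ * (k * ev y t * k⁻¹)⁻¹ =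
    k * (ev y d * ev y t * (ev y d)⁻¹ * (ev y t)⁻¹) * k⁻¹ by group, ← ev_cmW (y_inv o)] at b2
  obtain ⟨n, hn⟩ := S_two o ⟨_, b2⟩
  have b3 : (ev y (cmW X.I d t)) ^ 2 ^ n = 1 := by simpa [Subtype.ext_iff, conj_pow] using hn
  have b4 := o.eq c5
  rw [ev_powW] at b4
  exact o.ne c6 (by simpa [Nat.Coprime.gcd_eq_one (Nat.Coprime.pow_left n (by norm_num : Nat.Coprime 2 3))]
    using pow_gcd_eq_one.2 ⟨b3, b4⟩)

theorem not_conj_w {j : ℕ} (h1 : 1 ≤ j) (h3 : j ≤ 3) : ¬ IsConj (y 8) (ev y (rw0 j)) := by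
  interval_cases j
  exacts [not_conj_of o hx hS (by decide) o3.1, not_conj_of o hx hS (by decide) o3.2.1,
    not_conj_of o hx hS (by decide) o3.2.2]

/-- the conjugates of `z` in `Q` -/
theorem conj_cases {s : K} (hs : s ∈ Qy y) (hc : IsConj (y 8) s) : s = y 8 ∨
    (∃ l ∈ CL y, l * y 0 * l⁻¹ = s) ∨ ∃ l ∈ CL y, l * ev y [1, 2, 4] * l⁻¹ = s := by
  have ss : s * s = 1 := by
    obtain ⟨h, rfl⟩ := isConj_iff.1 hc
    rw [conj_mul, zz o]; simp
  by_cases h : ty (κ y s) < 5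
  · obtain ⟨l, hl, e⟩ := ty_lt o hs h
    have hc' := hc.trans (isConj_iff.2 ⟨l, e⟩).symm
    generalize ty (κ y s) = j at *
    interval_cases j
    exacts [Or.inr (Or.inl ⟨l, hl, by simpa [rw0] using e⟩), absurd hc' (not_conj_w o hx hS le_rfl (by decide)),
      absurd hc' (not_conj_w o hx hS (by decide) (by decide)),
      absurd hc' (not_conj_w o hx hS (by decide) le_rfl), Or.inr (Or.inr ⟨l, hl, e⟩)]
  · rcases ty_ge o hs h with e | e
    · exact absurd ss e.2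
    · refine Or.inl ((κ_zero o hs e.2).resolve_left ?_)
      rintro rfl
      exact z_ne o (isConj_one_left.1 hc)

end

end Cfsg.Agent.O3R
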