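import Mathlib
import Cfsg.Agent.O3R.Fus
import Cfsg.Agent.O3R.PTab
import Cfsg.Agent.O3R.BoundL

/-!
# The graphs over `Ω₈⁺(2)` and over the involution centraliser of `PΩ₈⁺(3)`
-/

set_option autoImplicit false
set_option maxRecDepth 100000

namespace Cfsg.Agent.O3R

open Subgroup Cfsg.Agent.TT Cfsg.Agent.LES Cfsg.Agent.XSC Cfsg.Agent.Comp.BN Cfsg.Agent.O8C

theorem gr_of_card {G M : Type*} [Group G] [Group M] [Finite M] {Γ : Subgroup (G × M)} [Finite Γ]
    (hc : Nat.card Γ ≤ Nat.card M) (hs : ∀ a, ∃ γ ∈ Γ, γ.2 = a) : Gr Γ := by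
  have h1 : Function.Surjective fun γ : Γ => γ.1.2 := fun a =>
    let ⟨γ, hγ, e⟩ := hs a
    ⟨⟨γ, hγ⟩, e⟩
  have h2 := ((Nat.bijective_iff_surjective_and_card _).2
    ⟨h1, le_antisymm hc (Nat.card_le_card_of_surjective _ h1)⟩).1
  exact fun γ hγ e => congrArg Subtype.val (h2 (a₁ := ⟨γ, hγ⟩) (a₂ := 1) e)

def Uf : List (List ℕ) := [[5, 4, 3, 2, 6, 0, 6, 4, 5, 2, 3, 0], [5, 4, 6, 2, 6, 4, 5, 2],
  [5, 4, 6, 0, 6, 4, 5, 0], [6, 4, 6, 4], [3, 2, 6, 0, 6, 2, 3, 0], [6, 2, 6, 2], [6, 0, 6, 0], [6],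
  [6, 4, 2, 0, 6, 4, 2, 0, 6, 4, 2, 0, 6, 4, 2, 0], [0], [2], [4], [0, 1], [1, 0], [2, 3], [3, 2],
  [4, 5], [5, 4], [7]]

theorem i1 : allL (fun r => band (eqC val3 (subst wsF r) []) (eqC val (subst wsF r) []))
    (invRels PF 8 ++ PF.rels) = true := by decide +kernel

theorem i2 : allN (fun k => band (eqC val3 [k] (subst wsF (nth [] Uf k)))
    (eqC val [k] (subst wsF (nth [] Uf k)))) 19 = true := by decide +kernel

theorem exists_ι : ∃ ι : Mo →* M3, Function.Injective ι ∧ ∀ k < 19, ι (m k) = p k := by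
  let s : ℕ → M3 × Mo := fun k => (p k, m k)
  have e : ∀ W, ev s W = (ev p W, ev m W) := fun W => Prod.ext (fst_ev s W) (snd_ev (fun _ => rfl) W)
  have k : ∀ r ∈ invRels PF 8 ++ PF.rels, ev s (subst wsF r) = 1 := fun r hr => by
    have := (band_eq _ _).1 ((allL_eq _ _).1 i1 r hr)
    rw [e]; exact Prod.ext (orc3.eq this.1) (orc.eq this.2)
  obtain ⟨h1, h2⟩ := boundL _ _ (sat_subT (x := s) (ws := wsF) (by decide)
    (fun r hr => k r (List.mem_append_left _ hr)) fun r hr => k r (List.mem_append_right _ hr))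
  rw [← genW_eq] at h1 h2
  have h3 : ∀ k < 19, s k ∈ genW s wsF := fun k hk => by
    have := (band_eq _ _).1 ((allN_eq _ _).1 i2 k hk)
    have e1 : ev s [k] = ev s (subst wsF (nth [] Uf k)) := by
      rw [e, e, orc3.eq this.1, orc.eq this.2]
    simpa [← e1] using ev_subst_mem s wsF (nth [] Uf k)
  have h4 : (genW s wsF).map (MonoidHom.snd M3 Mo) = ⊤ := eq_top_of fun k => by
    by_cases hk : k < 19
    · exact ⟨_, h3 k hk, rfl⟩
    · rw [m, cut_le _ (by omega)]; exact one_mem _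
  have h5 : ∀ a, ∃ γ ∈ genW s wsF, γ.2 = a := fun a => mem_map.1 (h4 ▸ mem_top a)
  have gr := gr_of_card (card_Mo ▸ h2) h5
  obtain ⟨ι, hι⟩ := gr.exists_hom (MonoidHom.id Mo) h5
  have h6 : ∀ k < 19, ι (m k) = p k := fun k hk => congrArg Prod.fst (gr.eq (hι _) (h3 k hk) rfl)
  refine ⟨ι, ?_, h6⟩
  rcases ι.normal_ker.eq_bot_or_eq_top with e | e
  · exact (MonoidHom.ker_eq_bot_iff ι).1 e
  · refine absurd ((h6 8 (by decide)).symm.trans (MonoidHom.mem_ker.1 (e ▸ mem_top _))) ?_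
    simpa using orc3.ne (U := [8]) (V := []) (by decide +kernel)

/-- the images of the frame under the fourth element of order three -/
def D3w (b : ℕ) : List ℕ := [[1, 2, 4, 8], [0, 1, 3, 5, 8], [0, 2, 3, 6, 8], [1, 2, 7, 8],
  [0, 4, 5, 6, 8], [1, 4, 7, 8], [2, 4, 7, 8], [3, 5, 6, 7, 8]].getD b []

theorem j1 : ∀ b < 8, eqC val3 (cj X3.I [19] [b]) (D3w b) = true ∧ ∀ k ∈ D3w b, k < 9 := by
  decide +kernel

theorem j2 : band (band (eqC val3 [19, 19, 19] []) (eqC val3 [19, 8] [8, 19]))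
    (band (allN (fun k => eqC val3 [k + 9, 19] [20, k + 9]) 3)
      (allN (fun k => eqC val3 [k + 12, 19] [19, k + 12]) 6)) = true := by decide +kernel

variable {G : Type*} [Group G]

/-- the tuple of letters -/
noncomputable def tu3 (θ : Mo →* G) (d : G) : ℕ → G × M3 := fun k =>
  (if k = 19 then d else if k = 20 then d⁻¹ else θ (m k), p k)

theorem tu3_lt (θ : Mo →* G) (d : G) {k : ℕ} (hk : k < 19) : tu3 θ d k = (θ (m k), p k) := by
  simp [tu3, show k ≠ 19 by omega, show k ≠ 20 by omega]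

theorem orc_θ {θ : Mo →* G} (hθ : Function.Injective θ) : Orc (fun k => θ (m k)) val := fun U V => by
  rw [← map_ev, ← map_ev, hθ.eq_iff]; exact orc U V

theorem three_cases {K : Type*} [Group K] {D e : K} (h : D ^ 3 = 1) (he : e ∈ zpowers D) :
    e = 1 ∨ e = D ∨ e = D⁻¹ := by
  obtain ⟨j, rfl⟩ := he
  have e1 : D ^ j = D ^ (j % 3) := zpow_eq_zpow_emod j (n := 3) (by exact_mod_cast h)
  have : j % 3 = 0 ∨ j % 3 = 1 ∨ j % 3 = 2 := by omega
  change D ^ j = 1 ∨ D ^ j = D ∨ D ^ j = D⁻¹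
  rcases this with e | e | e <;> rw [e1, e]
  · simp
  · simp
  · exact Or.inr (Or.inr (eq_inv_of_mul_eq_one_left (by rw [← h, ← zpow_add_one]; norm_cast)))

theorem exists_st [Finite G] {θ : Mo →* G} (hθ : Function.Injective θ)
    (lx : LX (Qy fun k => θ (m k)) (θ (m 8))) {d : G} (hd : d * θ (m 8) = θ (m 8) * d)
    (ha : ∀ b < 8, act (fun k => θ (m k)) d (2 ^ b) = cd (D3w b)) :
    ∃ d', d⁻¹ * d' ∈ Qy (fun k => θ (m k)) ⊔ zpowers d ∧ Gl (genOn (tu3 θ d') 524287) ∧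
      St (tu3 θ d') p val3 X3.I [524287, 1835007] [] := by
  obtain ⟨ι, hι, hp⟩ := exists_ι
  have o := orc_θ hθ
  let φ := θ.prod ι
  have f1 : ∀ d, ∀ k < 19, tu3 θ d k = φ (m k) := fun d k hk => by
    rw [tu3_lt θ d hk, ← hp k hk]; rfl
  have f2 : ∀ d W, (∀ k ∈ W, k < 19) → ev (tu3 θ d) W = φ (ev m W) := fun d W hW => by
    rw [map_ev]; exact ev_congr fun k hk => f1 d k (hW k hk)
  have gr : Gr φ.range := by
    rintro _ ⟨a, rfl⟩ e
    rw [show a = 1 from hι (e.trans (map_one ι).symm), map_one]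
  have gl : Gl φ.range := by
    rintro _ ⟨a, rfl⟩ e
    rw [show a = 1 from hθ (e.trans (map_one θ).symm), map_one]
  have eD : genW (tu3 θ 1) ([8] :: Ql) = (Qy m).map φ := by
    rw [Qy, map_genW]
    exact genW_congr fun W hW => (f2 1 W (by revert W; decide)).trans (map_ev _ _ _)
  have dl : Dl (Qy fun k => θ (m k)) (θ (m 8)) (genW (tu3 θ 1) ([8] :: Ql)) (φ (m 8)) := by
    refine ⟨lx, rfl, eD ▸ mem_map_of_mem φ (q_mem (by decide)), ?_, gr.mono (eD ▸ map_le_range _ _),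
      gl.mono (eD ▸ map_le_range _ _)⟩
    rw [eD, map_map, Qy, map_genW]; rfl
  obtain ⟨⟨a1, a2⟩, a3, a4⟩ := (by simpa only [band_eq, allN_eq] using j2 :
    (eqC val3 [19, 19, 19] [] = true ∧ eqC val3 [19, 8] [8, 19] = true) ∧
      (∀ k < 3, eqC val3 [k + 9, 19] [20, k + 9] = true) ∧
        ∀ k < 6, eqC val3 [k + 12, 19] [19, k + 12] = true)
  have p3 : p 19 ^ 3 = 1 := by simpa [pow_succ, mul_assoc] using orc3.eq a1
  have p8 : p 19 * ι (m 8) = ι (m 8) * p 19 := by simpa [hp] using orc3.eq a2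
  have p20 : p 20 = (p 19)⁻¹ := eq_inv_of_mul_eq_one_left (p_inv 19)
  have dN := lx.mem_normalizer hd
  obtain ⟨u, hu, hn⟩ := exists_adj dl hd (u := p 19) p8 fun W hW => by
    rcases List.mem_cons.1 hW with rfl | hW
    · refine ⟨_, dl.mem, ?_, ?_⟩
      · rw [f2 1 _ (by decide)]
        simpa [φ] using (conj_eq_of_comm p8).symm
      · rw [f2 1 _ (by decide)]
        simpa [φ, conj_eq_of_comm hd] using Eqv.refl _ _
    obtain ⟨b, hb, rfl⟩ : ∃ b < 8, W = [b] := by revert W; decide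
    obtain ⟨e1, e2⟩ := j1 b hb
    refine ⟨φ (ev m (D3w b)), eD ▸ mem_map_of_mem φ (ev_memQ e2), ?_, ?_⟩
    · have := orc3.eq e1
      rw [ev_cj p_inv] at this
      rw [← f2 1 _ fun k hk => (e2 k hk).trans (by decide), snd_ev (m := p) (fun _ => rfl),
        snd_ev (m := p) (fun _ => rfl), ← this]
      simp
    · rw [f2 1 _ (by simp; omega)]
      change Eqv _ (d * θ (ev m [b]) * d⁻¹) (θ (ev m (D3w b)))
      rw [map_ev, map_ev]
      refine eqv_of_κ o (cjQ dN (ev_memQ (by simp; omega))) (ev_memQ e2) ?_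
      rw [κ_conj o dN (ev_memQ (by simp; omega)), κ_ev o e2, ← ha b hb, κ_ev o (by simp; omega)]
      simp [cd, hb]
  set Δ := genW (tu3 θ 1) ([8] :: Ql)
  have hD : (((d * u) ^ 4, p 19) : G × M3) ∈ normalizer (Δ : Set (G × M3)) := by
    simpa [pow_succ _ 3, p3] using pow_mem hn 4
  have c3 : (((d * u) ^ 4, p 19) : G × M3) ^ 3 = 1 := by
    refine Prod.ext ?_ p3
    change ((d * u) ^ 4) ^ 3 = 1
    rw [← pow_mul, mul_comm, pow_mul]
    rcases dl.ker (pow_mem hn 3) p3 with e | e <;> rw [show (d * u) ^ 3 = _ from congrArg Prod.fst e]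
    · simp
    · rw [show 4 = 2 * 2 from rfl, pow_mul, pow_two (θ _), lx.z_sq, one_pow]
  have hd' : d⁻¹ * (d * u) ^ 4 ∈ Qy (fun k => θ (m k)) ⊔ zpowers d :=
    mul_mem (mem_sup_right (inv_mem (mem_zpowers d)))
      (pow_mem (mul_mem (mem_sup_right (mem_zpowers d)) (mem_sup_left hu)) 4)
  generalize (d * u) ^ 4 = d' at hD c3 hd'
  set D : G × M3 := (d', p 19)
  have nφ : ∀ a ∈ normalizer (Qy m : Set Mo), φ a ∈ normalizer (Δ : Set (G × M3)) := fun a ha => by
    refine mem_normalizer_fintype fun δ hδ => ?_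
    rw [SetLike.mem_coe, eD] at *
    obtain ⟨b, hb, rfl⟩ := hδ
    exact ⟨_, cjQ ha hb, by simp⟩
  have cj3 : ∀ g : G × M3, (g * D * g⁻¹) ^ 3 = 1 := fun g => by
    rw [conj_pow, c3, mul_one, mul_inv_cancel]
  have n1 : CL m ≤ (normalizer ((Δ ⊔ zpowers D : Subgroup _) : Set (G × M3))).comap φ := by
    refine genOn_le fun k hk => mem_normalizer_fintype fun γ hγ => ?_
    have hk' : k < 18 := by simpa using (testBit_ones 18 k).symm.trans hk
    have n := nφ _ (l_norm orc hk')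
    have nD := mul_mem (mul_mem n hD) (inv_mem n)
    refine (sup_le (fun δ hδ => mem_sup_left (dl.conj_mem n hδ)) (zpowers_le.2 ?_) :
      Δ ⊔ zpowers D ≤ (Δ ⊔ zpowers D).comap (MulAut.conj (φ (m k))).toMonoidHom) hγ
    change φ (m k) * D * (φ (m k))⁻¹ ∈ Δ ⊔ zpowers D
    by_cases h9 : k < 9
    · have : φ (m k) ∈ Δ := eD ▸ mem_map_of_mem φ (q_mem h9)
      exact mul_mem (mul_mem (mem_sup_left this) (mem_sup_right (mem_zpowers D)))
        (inv_mem (mem_sup_left this))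
    by_cases h12 : k < 12
    · rw [dl.eq_of_cube nD (inv_mem hD) ?_ (cj3 _) (by rw [inv_pow, c3, inv_one])]
      · exact mem_sup_right (inv_mem (mem_zpowers D))
      · have := orc3.eq (a3 (k - 9) (by omega))
        rw [show k - 9 + 9 = k by omega] at this
        change ι (m k) * p 19 * (ι (m k))⁻¹ = (p 19)⁻¹
        rw [hp k (by omega), mul_inv_eq_iff_eq_mul, ← p20]
        simpa using this
    · rw [dl.eq_of_cube nD hD ?_ (cj3 _) c3]
      · exact mem_sup_right (mem_zpowers D)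
      · have := orc3.eq (a4 (k - 12) (by omega))
        rw [show k - 12 + 12 = k by omega] at this
        change ι (m k) * p 19 * (ι (m k))⁻¹ = p 19
        rw [hp k (by omega), mul_inv_eq_iff_eq_mul]
        simpa using this
  have t19 : tu3 θ d' 19 = D := rfl
  have t20 : tu3 θ d' 20 = D⁻¹ := Prod.ext rfl p20
  have hL : genOn (tu3 θ d') 524287 ≤ φ.range := genOn_le fun k hk =>
    ⟨_, (f1 d' k (by simpa using (testBit_ones 19 k).symm.trans hk)).symm⟩
  have np : p 19 ∉ ι.range := fun e => by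
    have h1 : ι.range = ⊤ := eq_top3 fun k => by
      by_cases hk : k < 19
      · exact ⟨_, hp k hk⟩
      by_cases hk' : k < 21
      · interval_cases k
        exacts [e, p20 ▸ inv_mem e]
      · rw [p, cut_le _ (by omega)]; exact one_mem _
    have := Nat.card_le_card_of_surjective ι (MonoidHom.range_eq_top.1 h1)
    rw [card_M3, card_Mo] at this
    omega
  refine ⟨d', hd', gl.mono hL, ⟨fun _ => rfl, orc3, fun k => Prod.ext ?_ (p_inv k)⟩,
    ⟨gr.mono hL, fun γ hγ e => ?_, trivial⟩, trivial⟩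
  · by_cases hk : k < 19
    · have e : ∀ k < 19, X3.I k = X.I k ∧ X.I k < 19 := by decide +kernel
      rw [(e k hk).1, f1 d' k hk, f1 d' _ (e k hk).2, ← map_mul, m_inv, map_one]
    by_cases hk' : k < 21
    · interval_cases k
      exacts [inv_mul_cancel d', mul_inv_cancel d']
    · rw [I_of_le X3 (not_lt.1 hk')]
      simp [tu3, show k ≠ 19 by omega, show k ≠ 20 by omega, m, cut_le _ (not_lt.1 hk)]
  · have h1 : genOn (tu3 θ d') 1835007 ≤ (CL m).map φ ⊔ (Δ ⊔ zpowers D) := genOn_le fun k hk => by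
      by_cases h18 : k < 18
      · rw [f1 d' k (by omega)]
        exact mem_sup_left (mem_map_of_mem φ (mem_genOn ((testBit_ones 18 k).trans (by simpa using h18))))
      have h21 : k < 21 := by
        by_contra h21
        rw [Nat.testBit_lt_two_pow (lt_of_lt_of_le (by norm_num : 1835007 < 2 ^ 21)
          (Nat.pow_le_pow_right (by norm_num) (by omega)))] at hk
        exact Bool.noConfusion hk
      interval_cases k
      · exact absurd hk (by decide)
      · exact mem_sup_right (mem_sup_right (mem_zpowers D))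
      · exact t20 ▸ mem_sup_right (mem_sup_right (inv_mem (mem_zpowers D)))
    have h2 := h1 hγ
    rw [← SetLike.mem_coe, coe_mul_of_left_le_normalizer_right _ _ (map_le_iff_le_comap.2 n1),
      coe_mul_of_right_le_normalizer_left _ _ (zpowers_le_of_mem hD)] at h2
    obtain ⟨_, ⟨a, -, rfl⟩, _, ⟨δ, hδ, ε, hε, rfl⟩, rfl⟩ := h2
    rw [SetLike.mem_coe, eD] at hδ
    obtain ⟨b, -, rfl⟩ := hδ
    have h3 : ε.2 ∈ ι.range := ⟨(a * b)⁻¹, by
      rw [map_inv, inv_eq_iff_mul_eq_one, map_mul, mul_assoc]; exact e⟩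
    rcases three_cases c3 hε with rfl | rfl | rfl
    · exact gr _ (mul_mem ⟨a, rfl⟩ (mul_mem ⟨b, rfl⟩ (one_mem _))) e
    · exact absurd h3 np
    · exact absurd (inv_mem_iff.1 h3) np

end Cfsg.Agent.O3R
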