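import Mathlib
import Cfsg.Agent.O3R.C0
import Cfsg.Agent.O3R.A4

/-!
# The hypothesis for `PΩ₈⁺(3)` and the subgroup `2^(3+6) : L₃(2)`
-/

set_option autoImplicit false
set_option maxRecDepth 100000

namespace Cfsg.Agent.O3R

open Subgroup Cfsg.Agent.TT Cfsg.Agent.LES Cfsg.Agent.XSC Cfsg.Agent.Comp.BN Cfsg.Agent.O8C

theorem bt_xor (a b i x : ℕ) : bt (a ^^^ b) i x = bt a i x ^^^ bt b i x := by
  unfold bt
  rw [Nat.testBit_xor]
  cases a.testBit i <;> cases b.testBit i <;> simp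

theorem lin_xor (f : ℕ → ℕ) (a b : ℕ) : lin f (a ^^^ b) = lin f a ^^^ lin f b := by
  simp only [lin, bt_xor]
  ac_rfl

theorem lin_lt {f : ℕ → ℕ} (h : ∀ b < 8, f b < 256) (n : ℕ) : lin f n < 256 := by
  have l : ∀ b < 8, bt n b (f b) < 256 := fun b hb => by
    unfold bt; split_ifs
    exacts [h b hb, by decide]
  exact xor_lt (l 0 (by decide)) (xor_lt (l 1 (by decide)) (xor_lt (l 2 (by decide))
    (xor_lt (l 3 (by decide)) (xor_lt (l 4 (by decide)) (xor_lt (l 5 (by decide))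
      (xor_lt (l 6 (by decide)) (l 7 (by decide))))))))

theorem lin_pow (f : ℕ → ℕ) {b : ℕ} (hb : b < 8) : lin f (2 ^ b) = f b := by
  interval_cases b <;> simp [lin, bt, Nat.testBit]

/-- the quadratic form -/
def qb (n : ℕ) : Bool := xor (xor (n.testBit 0 && n.testBit 7) (n.testBit 1 && n.testBit 6))
  (xor (n.testBit 2 && n.testBit 5) (n.testBit 3 && n.testBit 4))

theorem w1 : allN (fun n => eqC val (cw n ++ cw n) (if qb n then [8] else [])) 256 = true := by
  decide +kernel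

variable {G : Type*} [Group G] {y : ℕ → G} {t : ℕ → G × M3}

section
variable (o : Orc y val)
include o

theorem sq_iff {a : G} (ha : a ∈ Qy y) : a * a = 1 ↔ qb (κ y a) = false := by
  have := o.eq ((allN_eq _ _).1 w1 _ (κ_lt (y := y) a))
  rw [ev_append, ← eqv_sq (xsQ o) (cw_mem _) (κ_spec o ha)] at this
  rw [this]
  cases qb (κ y a) <;> simp [z_ne o]

theorem act_q {g : G} (hg : g ∈ normalizer (Qy y : Set G)) {n : ℕ} (hn : n < 256) :
    qb (act y g n) = qb n := by
  have h1 := sq_iff o (cjQ hg (cw_mem n))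
  rw [conj_mul, conj_eq_one_iff, sq_iff o (cw_mem n), κ_cw o hn] at h1
  change _ ↔ qb (act y g n) = false at h1
  revert h1
  cases qb n <;> cases qb (act y g n) <;> simp

theorem act_linB {g : G} (hg : g ∈ normalizer (Qy y : Set G)) {B : ℕ → ℕ} (hB : ∀ b < 8, B b < 256)
    {c : ℕ} (hc : c < 256) : act y g (lin B c) = lin (fun i => act y g (B i)) c := by
  rw [eq_lin (f := fun c => act y g (lin B c)) (by simpa [lin, bt] using act_zero o g)
    (fun a _ b _ => by rw [lin_xor, act_xor o hg (lin_lt hB a) (lin_lt hB b)]) c hc]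
  exact lin_congr (fun b hb => by rw [lin_pow B hb]) c

theorem act_fix {g a : G} (hg : g ∈ normalizer (Qy y : Set G)) (ha : a ∈ Qy y) (h : g * a = a * g) :
    act y g (κ y a) = κ y a := by rw [← κ_conj o hg ha, conj_eq_of_comm h]

end

/-- the hypothesis -/
structure W3 (y : ℕ → G) (t : ℕ → G × M3) : Prop where
  o : Orc y val
  st : St t p val3 X3.I [524287, 1835007] []
  gl : Gl (genOn t 524287)
  hy : ∀ k < 19, (t k).1 = y k
  lx : LX (Qy y) (y 8)
  r2 : ∀ g a b, g * y 8 = y 8 * g → a ∈ Qy y → b ∈ Qy y → a * a = 1 → b * b = 1 → a * b = b * a →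
    (∀ x ∈ Qy y, x * a = a * x → x * b = b * x → Eqv (y 8) (g * x * g⁻¹) x) → g ∈ Qy y
  fx : ∀ s, IsConj (y 8) s → s * y 8 = y 8 * s →
    16 < ((Finset.range 256).filter fun n => act y s n = n).card → s ∈ Qy y
  pts : ∀ a ∈ Qy y, a ≠ y 8 → (IsConj (y 8) a ↔ ty (κ y a) = 0 ∨ ty (κ y a) = 4)

def tsP : List (List ℕ) := [[8], [0], [1, 2, 4], [1], [2], [3, 5], [5, 6], [1, 3, 5, 10, 11],
  [4, 5, 6, 9, 10]]
def wsP : List (List ℕ) := tsP ++ [[9], [9, 19], [7], [18]]
def usP : List (List ℕ) := [[8], [0], [1, 2, 4]]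
def UsP : List (List ℕ) := [[], [0], [1], [1, 0], [2], [2, 0], [1, 2], [1, 2, 0]]
def BP (i : ℕ) : ℕ := [1, 22, 2, 4, 40, 96].getD i 0

theorem w2 : ∀ n < 256, par (cw 1) n = false → par (cw 22) n = false → ∃ c < 64, n = lin BP c := by
  decide +kernel

theorem w3 : ∀ n < 256, (∀ W ∈ [[0], [1, 2, 4], [1], [2], [3, 5], [5, 6]], par W n = false) →
    subst usP [] = cw n ∨ subst usP [1] = cw n ∨ subst usP [2] = cw n ∨ subst usP [1, 2] = cw n := by
  decide +kernel

theorem w4 : normC val3 X3.I [524287, 1835007] tsP wsP [[[0], [1], [2], [3], [4], [5], [6], [7], [8]], [[0], [1], [2], [3], [4], [5], [6], [7], [8]], [[0], [1], [2], [3], [4], [5], [6], [7], [8]], [[0], [1], [2], [3], [4], [5], [0, 6], [7], [0, 1, 8]], [[0], [1], [2], [3], [4], [0, 5], [0, 6], [0, 1, 7], [0, 1, 8]], [[0], [1], [2], [3], [0, 4], [5], [6], [7], [1, 2, 8]], [[0], [1], [2], [0, 3], [0, 4], [5], [6], [1, 2, 7], [8]], [[0], [1], [2], [3], [0, 1, 4], [5], [1, 2, 6],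 [7], [8]], [[0], [1], [2], [0, 1, 3], [0, 1, 4], [1, 2, 5], [6], [7], [8]], [[0], [1], [1, 2], [1, 3], [4], [0, 2, 3, 5], [2, 3, 4, 6], [6, 3, 7, 6], [2, 3, 4, 8]], [[0], [0, 1, 2], [2], [2, 5], [0, 1, 5, 6], [2, 3], [1, 3, 4], [7], [0, 2, 8]], [[0], [0, 1], [2], [3], [4], [5], [6], [3, 5, 7], [2, 3, 4, 6, 8]], [[0, 1], [1], [2], [3], [4], [7], [8], [5], [6]]] = true := by
  decide +kernel

theorem w5 : satC val3 X3.I [524287, 1835007] [subst wsP (powW [10, 12, 10, 12, 10, 12, 7, 5, 3, 2] 2),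
    subst wsP (powW [9, 10, 12, 11] 7)] P4 wsP (List.replicate 46 []) = true := by decide +kernel

theorem w6 : stepC val3 X3.I 1835007 21 wsP [[0], [1], [2], [3], [4], [5], [6], [7], [8], [9], [10], [11]]
    [8] [[], [10, 12], [9, 10, 12], [11, 10, 12], [9, 11, 10, 12], [12], [11, 12]] A4.doneC.n = true := by
  decide +kernel

theorem w7 : subWC val3 X3.I [] 787072 21 wsP [[], [], [], [], [], [], [], [11], [], [9], [], [], [], [],
    [], [], [], [], [12], [9, 10]] = true := by decide +kernel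

namespace W3

variable (h : W3 y t)
include h

theorem evL {W : List ℕ} (hW : ∀ k ∈ W, k < 19) : (ev t W).1 = ev y W := by
  rw [fst_ev]; exact ev_congr fun k hk => h.hy k (hW k hk)

variable [Finite G]

theorem r2c {g : G} (hg : g ∈ normalizer (Qy y : Set G)) {a b : ℕ} (ha : a < 256) (hb : b < 256)
    (e : qb a = false ∧ qb b = false ∧ par (cw a) b = false)
    (k : ∀ n < 256, par (cw a) n = false → par (cw b) n = false → act y g n = n) : g ∈ Qy y := by
  refine h.r2 g _ _ (nz h.o hg) (cw_mem a) (cw_mem b) ?_ ?_ ?_ fun x hx h1 h2 => ?_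
  · rw [sq_iff h.o (cw_mem a), κ_cw h.o ha, e.1]
  · rw [sq_iff h.o (cw_mem b), κ_cw h.o hb, e.2.1]
  · rw [comm_w h.o (cw_lt8 a) (cw_mem b), κ_cw h.o hb, e.2.2]
  · refine eqv_of_κ h.o (cjQ hg hx) hx ?_
    rw [κ_conj h.o hg hx]
    exact k _ (κ_lt x) ((comm_w h.o (cw_lt8 a) hx).1 h1.symm) ((comm_w h.o (cw_lt8 b) hx).1 h2.symm)

theorem ctP : CT t tsP usP UsP := by
  have h2 : genW t tsP ≤ genOn t 524287 := genW_le_genOn (by decide +kernel)
  refine ⟨h.st.gr.1.mono h2, h.gl.mono h2, genW_mono (by decide), fun g hg => ?_⟩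
  have k : ∀ W ∈ tsP, g * ev y W = ev y W * g := fun W hW => by
    rw [← h.evL (W := W) (by revert W; decide)]; exact hg _ (mem_genW hW)
  have gN := h.lx.mem_normalizer (by simpa using k [8] (by decide))
  have k1 : ∀ i < 8, act y g (BP i) = BP i := fun i hi => by
    have e : ∀ i < 8, BP i = 0 ∨ ∃ W ∈ tsP, (∀ k ∈ W, k < 9) ∧ cd W = BP i := by decide
    rcases e i hi with e | ⟨W, hW, e1, e2⟩
    · rw [e, act_zero h.o]
    · have := act_fix h.o gN (ev_memQ e1) (k W hW)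
      rwa [κ_ev h.o e1, e2] at this
  have gQ := h.r2c gN (a := 1) (b := 22) (by decide) (by decide) (by decide) fun n hn h1 h2 => by
    obtain ⟨c, hc, rfl⟩ := w2 n hn h1 h2
    rw [act_linB h.o gN (by decide) (by omega), lin_congr k1]
  have k2 := w3 _ (κ_lt (y := y) g) fun W hW => (comm_w h.o (by revert W; decide) gQ).1
    (k W (by revert W; decide)).symm
  have k3 : ∀ U, U ∈ UsP → U ++ [0] ∈ UsP → subst usP U = cw (κ y g) →
      ∃ U ∈ UsP, (ev t (subst usP U)).1 = g := fun U h1 h2 e => by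
    have l : ∀ U ∈ UsP, ∀ k ∈ subst usP U, k < 19 := by decide
    rcases κ_spec h.o gQ with e1 | e1
    · exact ⟨U, h1, by rw [h.evL (l U h1), e, ← e1]⟩
    · refine ⟨_, h2, ?_⟩
      rw [h.evL (l _ h2), ev_subst, ev_append, ← ev_subst, e]
      exact (congrArg _ (by simp [subT, usP, nth])).trans e1.symm
  rcases k2 with e | e | e | e <;> exact k3 _ (by decide) (by decide) e

theorem stP : St t p val3 X3.I [787072, 524287, 1835007] [] := by
  have o := h.st
  have hn := o.norm w4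
  have o1 := (o.addK (h.ctP.fpf o.toOv hn [9, 10, 12, 11] 7 (by decide +kernel))).addK
    (h.ctP.pow o.toOv hn (k := 2) (by decide +kernel) [10, 12, 10, 12, 10, 12, 7, 5, 3, 2]
      (by decide +kernel))
  have o0 : St t p val3 X3.I [] [] := ⟨o.toOv, trivial, trivial⟩
  exact o.addS ((o.toOv.step A4.done (o1.sat w5) o.gr.2.1 A4_l w6).mono (o0.le_genW w7))

end W3

end Cfsg.Agent.O3R
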