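import Mathlib
import Cfsg.Agent.O3R.W3

/-!
# Coordinates adapted to a four-group `W ≤ Q`
-/

set_option autoImplicit false
set_option maxRecDepth 100000

namespace Cfsg.Agent.O3R

open Subgroup Cfsg.Agent.TT Cfsg.Agent.LES Cfsg.Agent.XSC Cfsg.Agent.Comp.BN Cfsg.Agent.O8C

/-- a packed matrix -/
def ln (M c : ℕ) : ℕ := lin (dg 8 M) c

theorem ln_lt (M c : ℕ) : ln M c < 256 := lin_lt (fun b _ => dg_lt 8 M b) c

def bb (c : ℕ) : ℕ := ln 0xb66d9e79977e0b06 c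
def bi (n : ℕ) : ℕ := ln 0x67de9d7b3d2b2a15 n
def qa (c : ℕ) : Bool :=
  Nat.testBit 0x9996999699966669555a555a555aaaa5333c333c333cccc3000f000f000ffff0 c

theorem bb_lt (c : ℕ) : bb c < 256 := ln_lt _ _
theorem bi_lt (c : ℕ) : bi c < 256 := ln_lt _ _
theorem bb_xor (a b : ℕ) : bb (a ^^^ b) = bb a ^^^ bb b := lin_xor _ _ _
theorem bi_xor (a b : ℕ) : bi (a ^^^ b) = bi a ^^^ bi b := lin_xor _ _ _
theorem ln_xor (M a b : ℕ) : ln M (a ^^^ b) = ln M a ^^^ ln M b := lin_xor _ _ _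

theorem a1 : ∀ c < 256, bi (bb c) = c ∧ bb (bi c) = c ∧ qb (bb c) = qa c := by decide +kernel

theorem a2 : allN (fun a => allN (fun n => par (cw a) n == xor (qb (a ^^^ n)) (xor (qb a) (qb n))) 256)
    256 = true := by decide +kernel

theorem a3 : ∀ n < 256, (n < 64 ↔ qa (n ^^^ 1) = qa n ∧ qa (n ^^^ 2) = qa n) ∧
    (n < 64 → qa n = qa (4 * (n / 4))) := by decide +kernel

variable {G : Type*} [Group G] {y : ℕ → G} {t : ℕ → G × M3} {g k : G} {c : ℕ}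

/-- the action in the new coordinates -/
noncomputable def Aa (y : ℕ → G) (g : G) (c : ℕ) : ℕ := bi (act y g (bb c))

/-- the action on `W^⊥ / W` -/
noncomputable def Ab (y : ℕ → G) (g : G) (c : ℕ) : ℕ := Aa y g (4 * c) / 4

theorem Aa_lt (g : G) (c : ℕ) : Aa y g c < 256 := ln_lt _ _

theorem bb_Aa (g : G) (c : ℕ) : bb (Aa y g c) = act y g (bb c) := (a1 _ (act_lt _ _)).2.1

section
variable (o : Orc y val)
include o

theorem Aa_mul (hg : g ∈ normalizer (Qy y : Set G)) (hk : k ∈ normalizer (Qy y : Set G)) (c : ℕ) :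
    Aa y (g * k) c = Aa y g (Aa y k c) := by rw [Aa, act_mul o hg hk, ← bb_Aa]; rfl

theorem Aa_Q (hg : g ∈ Qy y) (hc : c < 256) : Aa y g c = c := by
  rw [Aa, act_Q o hg (bb_lt _), (a1 c hc).1]

theorem Aa_inv (hg : g ∈ normalizer (Qy y : Set G)) (hc : c < 256) : Aa y g⁻¹ (Aa y g c) = c := by
  rw [← Aa_mul o (inv_mem hg) hg, inv_mul_cancel, Aa_Q o (one_mem _) hc]

theorem Aa_xor (hg : g ∈ normalizer (Qy y : Set G)) (a b : ℕ) :
    Aa y g (a ^^^ b) = Aa y g a ^^^ Aa y g b := by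
  rw [Aa, bb_xor, act_xor o hg (bb_lt a) (bb_lt b), bi_xor]; rfl

theorem Aa_zero (g : G) : Aa y g 0 = 0 := by
  rw [Aa, show bb 0 = 0 by decide +kernel, act_zero o]; decide +kernel

theorem Aa_lin (hg : g ∈ normalizer (Qy y : Set G)) (hc : c < 256) :
    Aa y g c = lin (fun i => Aa y g (2 ^ i)) c :=
  eq_lin (Aa_zero o g) (fun a _ b _ => Aa_xor o hg a b) c hc

theorem Aa_q (hg : g ∈ normalizer (Qy y : Set G)) (hc : c < 256) : qa (Aa y g c) = qa c := by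
  rw [← (a1 _ (Aa_lt g c)).2.2, bb_Aa, act_q o hg (bb_lt _), (a1 c hc).2.2]

theorem Aa_eq (hg : g ∈ normalizer (Qy y : Set G)) (hk : k ∈ normalizer (Qy y : Set G))
    (h : k⁻¹ * g ∈ Qy y) (hc : c < 256) : Aa y g c = Aa y k c := by
  rw [← mul_inv_cancel_left k g, Aa_mul o hk (le_normalizer h), Aa_Q o h hc]

/-- the elements centralising `W` modulo `z` -/
def CW : Subgroup G where
  carrier := {g | g ∈ normalizer (Qy y : Set G) ∧ Aa y g 1 = 1 ∧ Aa y g 2 = 2}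
  one_mem' := ⟨one_mem _, Aa_Q o (one_mem _) (by decide), Aa_Q o (one_mem _) (by decide)⟩
  mul_mem' := fun ha hb => ⟨mul_mem ha.1 hb.1, by rw [Aa_mul o ha.1 hb.1, hb.2.1, ha.2.1],
    by rw [Aa_mul o ha.1 hb.1, hb.2.2, ha.2.2]⟩
  inv_mem' := fun {a} ha => ⟨inv_mem ha.1, by simpa [ha.2.1] using Aa_inv o ha.1 (c := 1) (by decide),
    by simpa [ha.2.2] using Aa_inv o ha.1 (c := 2) (by decide)⟩

theorem CW_lt (hg : g ∈ CW o) (hc : c < 64) : Aa y g c < 64 := by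
  have h1 := (a3 c (by omega)).1.1 hc
  have l : ∀ r < 256, c ^^^ r < 256 := fun r hr => xor_lt (by omega) hr
  refine (a3 _ (Aa_lt g c)).1.2 ⟨?_, ?_⟩
  · rw [← hg.2.1, ← Aa_xor o hg.1, Aa_q o hg.1 (l 1 (by decide)), Aa_q o hg.1 (by omega), h1.1]
  · rw [← hg.2.2, ← Aa_xor o hg.1, Aa_q o hg.1 (l 2 (by decide)), Aa_q o hg.1 (by omega), h1.2]

theorem Aa_div (hg : g ∈ CW o) (hc : c < 64) : Aa y g c / 4 = Ab y g (c / 4) := by
  have e : ∀ c < 64, c = 4 * (c / 4) ^^^ c % 4 := by decide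
  have e2 : ∀ r < 4, Aa y g r = r := fun r hr => by
    interval_cases r
    exacts [Aa_zero o g, hg.2.1, hg.2.2, by
      rw [show 3 = 1 ^^^ 2 from rfl, Aa_xor o hg.1, hg.2.1, hg.2.2]]
  conv_lhs => rw [e c hc, Aa_xor o hg.1, e2 _ (Nat.mod_lt c (by decide)), show 4 = 2 ^ 2 from rfl,
    Nat.xor_div_two_pow, Nat.div_eq_of_lt (Nat.mod_lt c (by decide)), Nat.xor_zero]
  rfl

theorem Ab_lt (hg : g ∈ CW o) (hc : c < 16) : Ab y g c < 16 := by
  have := CW_lt o hg (c := 4 * c) (by omega)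
  unfold Ab; omega

theorem Ab_mul (hg : g ∈ CW o) (hk : k ∈ CW o) (hc : c < 16) : Ab y (g * k) c = Ab y g (Ab y k c) := by
  rw [Ab, Aa_mul o hg.1 hk.1, Aa_div o hg (CW_lt o hk (by omega))]; rfl

theorem Ab_Q (hg : g ∈ Qy y) (hc : c < 16) : Ab y g c = c := by
  rw [Ab, Aa_Q o hg (by omega)]; omega

theorem Ab_inv (hg : g ∈ CW o) (hc : c < 16) : Ab y g⁻¹ (Ab y g c) = c := by
  rw [← Ab_mul o (inv_mem hg) hg hc, inv_mul_cancel, Ab_Q o (one_mem _) hc]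

theorem Ab_q (hg : g ∈ CW o) (hc : c < 16) : qa (4 * Ab y g c) = qa (4 * c) := by
  rw [Ab, ← (a3 _ (Aa_lt g _)).2 (CW_lt o hg (by omega)), Aa_q o hg.1 (by omega)]

theorem Ab_xor (hg : g ∈ CW o) {a b : ℕ} (ha : a < 16) (hb : b < 16) :
    Ab y g (a ^^^ b) = Ab y g a ^^^ Ab y g b := by
  have e : ∀ a < 16, ∀ b < 16, 4 * (a ^^^ b) = 4 * a ^^^ 4 * b := by decide
  rw [Ab, e a ha b hb, Aa_xor o hg.1, show 4 = 2 ^ 2 from rfl, Nat.xor_div_two_pow]; rfl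

end

def l4 (e : List ℕ) (c : ℕ) : ℕ := lin (fun i => e.getD i 0) c

def isoL : List (List ℕ) := [[1, 2, 4, 8], [1, 2, 4, 12], [1, 2, 8, 4], [1, 2, 8, 12], [1, 2, 12, 4], [1, 2, 12, 8], [1, 3, 4, 8], [1, 3, 4, 12], [1, 3, 8, 4], [1, 3, 8, 12], [1, 3, 12, 4], [1, 3, 12, 8], [2, 1, 4, 8], [2, 1, 4, 12], [2, 1, 8, 4], [2, 1, 8, 12], [2, 1, 12, 4], [2, 1, 12, 8], [2, 3, 4, 8], [2, 3, 4, 12], [2, 3, 8, 4], [2, 3, 8, 12], [2, 3, 12, 4], [2, 3, 12, 8], [3, 1, 4, 8], [3, 1, 4, 12], [3, 1, 8, 4], [3, 1, 8, 12], [3, 1, 12, 4], [3, 1, 12, 8], [3, 2, 4, 8], [3, 2, 4, 12], [3, 2, 8, 4], [3, 2, 8, 12], [3, 2, 12, 4], [3, 2, 12, 8], [4, 8, 1, 2], [4, 8, 1, 3], [4, 8, 2, 1], [4, 8, 2, 3], [4, 8, 3, 1], [4, 8, 3, 2], [4, 12, 1, 2], [4, 12, 1, 3], [4, 12, 2, 1], [4, 12, 2, 3], [4, 12, 3, 1], [4, 12, 3, 2], [8, 4, 1, 2], [8, 4, 1, 3], [8, 4, 2, 1], [8, 4, 2, 3], [8, 4, 3, 1], [8, 4, 3, 2], [8, 12,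 1, 2], [8, 12, 1, 3], [8, 12, 2, 1], [8, 12, 2, 3], [8, 12, 3, 1], [8, 12, 3, 2], [12, 4, 1, 2], [12, 4, 1, 3], [12, 4, 2, 1], [12, 4, 2, 3], [12, 4, 3, 1], [12, 4, 3, 2], [12, 8, 1, 2], [12, 8, 1, 3], [12, 8, 2, 1], [12, 8, 2, 3], [12, 8, 3, 1], [12, 8, 3, 2]]

theorem a4' : allN (fun a => allN (fun b => allN (fun c => allN (fun d =>
    bif' (qa (4 * a) && qa (4 * b) && qa (4 * (a ^^^ b)) && qa (4 * c) && !qa (4 * (a ^^^ c)) &&
      !qa (4 * (b ^^^ c)) && qa (4 * d) && qa (4 * (c ^^^ d)) && !qa (4 * (a ^^^ d)) &&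
      !qa (4 * (b ^^^ d))) (isoL.elem [a, b, c, d]) true) 16) 16) 16) 16 = true := by decide +kernel

theorem a4 : ∀ a < 16, qa (4 * a) = true → ∀ b < 16, qa (4 * b) = true → qa (4 * (a ^^^ b)) = true →
    ∀ c < 16, qa (4 * c) = true → qa (4 * (a ^^^ c)) = false → qa (4 * (b ^^^ c)) = false →
    ∀ d < 16, qa (4 * d) = true → qa (4 * (c ^^^ d)) = true → qa (4 * (a ^^^ d)) = false →
      qa (4 * (b ^^^ d)) = false → [a, b, c, d] ∈ isoL := by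
  intro a ha h1 b hb h2 h3 c hc h4 h5 h6 d hd h7 h8 h9 h10
  have := (allN_eq _ _).1 ((allN_eq _ _).1 ((allN_eq _ _).1 ((allN_eq _ _).1 a4' a ha) b hb) c hc) d hd
  rw [h1, h2, h3, h4, h5, h6, h7, h8, h9, h10] at this
  exact List.mem_of_elem_eq_true this

theorem exists_iso (o : Orc y val) (hg : g ∈ CW o) : ∃ e ∈ isoL, ∀ c < 16, Ab y g c = l4 e c := by
  have q : ∀ a < 16, ∀ b < 16, qa (4 * (Ab y g a ^^^ Ab y g b)) = qa (4 * (a ^^^ b)) := fun a ha b hb => by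
    rw [← Ab_xor o hg ha hb, Ab_q o hg (Nat.xor_lt_two_pow (n := 4) ha hb)]
  have l := fun a ha => Ab_lt o hg (c := a) ha
  have q1 := fun a ha => Ab_q o hg (c := a) ha
  refine ⟨_, a4 _ (l 1 (by decide)) (q1 1 (by decide)) _ (l 2 (by decide)) (q1 2 (by decide))
    (q 1 (by decide) 2 (by decide)) _ (l 4 (by decide)) (q1 4 (by decide)) (q 1 (by decide) 4 (by decide))
    (q 2 (by decide) 4 (by decide)) _ (l 8 (by decide)) (q1 8 (by decide)) (q 4 (by decide) 8 (by decide))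
    (q 1 (by decide) 8 (by decide)) (q 2 (by decide) 8 (by decide)), fun c hc => ?_⟩
  have z : Ab y g 0 = 0 := by simp [Ab, Aa_zero o]
  have := eq_lin (f := fun c => Ab y g (c % 16)) z (fun a _ b _ => by
    rw [show 16 = 2 ^ 4 from rfl, Nat.xor_mod_two_pow]
    exact Ab_xor o hg (Nat.mod_lt _ (by decide)) (Nat.mod_lt _ (by decide))) c (by omega)
  rw [Nat.mod_eq_of_lt hc] at this
  rw [this]
  exact lin_congr (fun b hb => by interval_cases b <;> first | rfl | exact z) c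

/-- the word `W` acts by the matrix `M` -/
noncomputable def actC (W : List ℕ) (M : ℕ) : Bool :=
  band (band (onC 1835007 W) (band (onC 1835007 (invW X3.I W)) (comC val3 W [8])))
    (allN (fun b => eqvC val3 (cj X3.I W [b]) (cw (bb (ln M (bi (2 ^ b)))))) 8)

namespace W3

variable (h : W3 y t)
include h

theorem eqC0 {U V : List ℕ} (e : eqOn val3 1835007 U V = true) : (ev t U).1 = (ev t V).1 :=
  congrArg Prod.fst (h.st.toOv.eqOn h.st.gr.2.1 e)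

theorem act_word {W : List ℕ} {M : ℕ} (e : actC W M = true) :
    (ev t W).1 ∈ normalizer (Qy y : Set G) ∧ ∀ c < 256, Aa y (ev t W).1 c = ln M c := by
  simp only [actC, band_eq, allN_eq] at e
  obtain ⟨⟨e1, e2, e3⟩, e4⟩ := e
  have gr := h.st.gr.2.1
  have m : ∀ V : List ℕ, (∀ k ∈ V, k < 9) → ev t V ∈ genOn t 1835007 := fun V hV =>
    ev_mem_of fun k hk => mem_genOn (by have := hV k hk; interval_cases k <;> decide)
  have hz : (ev t W).1 * y 8 = y 8 * (ev t W).1 := by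
    have := congrArg Prod.fst (h.st.toOv.com gr (ev_mem_genOn e1) (m [8] (by simp)) e3)
    simpa [h.hy] using this
  have hN := h.lx.mem_normalizer hz
  refine ⟨hN, fun c hc => ?_⟩
  have k : ∀ b < 8, act y (ev t W).1 (2 ^ b) = bb (ln M (bi (2 ^ b))) := fun b hb => by
    have m1 : ev t (cj X3.I W [b]) ∈ genOn t 1835007 := by
      rw [ev_cj h.st.inv]
      exact mul_mem (mul_mem (ev_mem_genOn e1) (m [b] (by simp; omega))) (inv_mem (ev_mem_genOn e1))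
    have m2 : (ev t (cj X3.I W [b])).1 = (ev t W).1 * y b * (ev t W).1⁻¹ := by
      rw [ev_cj h.st.inv]; simp [h.hy b (by omega)]
    have l := fun n k hk => (cw_lt n k hk).trans (show 9 < 19 by decide)
    rw [← κ_q h.o hb, ← κ_conj h.o hN (q_mem (by omega)), κ_q h.o hb, ← m2]
    refine κ_eq h.o (bb_lt _) ?_
    have := e4 b hb
    rw [eqvC, force_eq, bor_eq] at this
    rcases this with e | e
    · exact Or.inl ((congrArg Prod.fst (h.st.toOv.eq gr m1 (m _ (cw_lt _)) e)).trans (h.evL (l _)))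
    · refine Or.inr ((congrArg Prod.fst (h.st.toOv.eq gr m1 (m _ fun k hk => ?_) e)).trans ?_)
      · rw [appendL_eq, List.mem_append] at hk
        exact hk.elim (cw_lt _ k) (by simp +contextual)
      · rw [ev_app, Prod.fst_mul, h.evL (l _)]; simp [h.hy]
  have x : ∀ a b, bb (ln M (bi (a ^^^ b))) = bb (ln M (bi a)) ^^^ bb (ln M (bi b)) := fun a b => by
    rw [bi_xor, ln_xor, bb_xor]
  rw [Aa, act_lin h.o hN (bb_lt _), lin_congr k, ← eq_lin (f := fun n => bb (ln M (bi n)))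
    (by simp [bb, bi, ln, lin, bt]) (fun a _ b _ => x a b) _ (bb_lt _), (a1 c hc).1,
    (a1 _ (ln_lt _ _)).1]

theorem r2a (hg : g ∈ normalizer (Qy y : Set G)) {a b : ℕ} (ha : a < 256) (hb : b < 256)
    (e : qa a = false ∧ qa b = false ∧ qa (a ^^^ b) = false)
    (k : ∀ c < 256, qa (a ^^^ c) = qa c → qa (b ^^^ c) = qa c → Aa y g c = c) : g ∈ Qy y := by
  have p : ∀ a < 256, ∀ c < 256, par (cw (bb a)) (bb c) = xor (qa (a ^^^ c)) (xor (qa a) (qa c)) :=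
    fun a ha c hc => by
      have := (allN_eq _ _).1 ((allN_eq _ _).1 a2 _ (bb_lt a)) _ (bb_lt c)
      rw [beq_iff_eq] at this
      rw [this, (a1 a ha).2.2, (a1 c hc).2.2, ← bb_xor, (a1 _ (xor_lt ha hc)).2.2]
  refine h.r2 g _ _ (nz h.o hg) (cw_mem (bb a)) (cw_mem (bb b)) ?_ ?_ ?_ fun x hx h1 h2 => ?_
  · rw [sq_iff h.o (cw_mem _), κ_cw h.o (bb_lt _), (a1 a ha).2.2, e.1]
  · rw [sq_iff h.o (cw_mem _), κ_cw h.o (bb_lt _), (a1 b hb).2.2, e.2.1]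
  · rw [comm_w h.o (cw_lt8 _) (cw_mem _), κ_cw h.o (bb_lt _), p a ha b hb, e.1, e.2.1, e.2.2]; rfl
  · refine eqv_of_κ h.o (cjQ hg hx) hx ?_
    have h3 := (comm_w h.o (cw_lt8 _) hx).1 h1.symm
    have h4 := (comm_w h.o (cw_lt8 _) hx).1 h2.symm
    have l : bi (κ y x) < 256 := bi_lt _
    rw [κ_conj h.o hg hx]
    rw [← (a1 _ (κ_lt x)).2.1] at h3 h4 ⊢
    rw [p _ ha _ l, e.1] at h3
    rw [p _ hb _ l, e.2.1] at h4
    rw [← bb_Aa, k _ l (by simpa using h3) (by simpa using h4)]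

end W3

end Cfsg.Agent.O3R
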