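import Mathlib
import Cfsg.Agent.O8C.InvC

/-!
# Codes for the elements of the extraspecial group `2^(1+8)` of `Ω₈⁺(2)`
-/

set_option autoImplicit false
set_option maxRecDepth 100000

namespace Cfsg.Agent.O3R

open Subgroup Cfsg.Agent.TT Cfsg.Agent.LES Cfsg.Agent.XSC Cfsg.Agent.Comp.BN Cfsg.Agent.O8C

/-- the word of a code -/
def cw (n : ℕ) : List ℕ := [0, 1, 2, 3, 4, 5, 6, 7].filter fun b => n.testBit b

/-- the code of a word -/
def cd (W : List ℕ) : ℕ := W.foldr (fun k a => (if k < 8 then 2 ^ k else 0) ^^^ a) 0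

def bt (n b a : ℕ) : ℕ := if n.testBit b then a else 0

/-- the linear map with the given values on the basis -/
def lin (f : ℕ → ℕ) (n : ℕ) : ℕ :=
  bt n 0 (f 0) ^^^ (bt n 1 (f 1) ^^^ (bt n 2 (f 2) ^^^ (bt n 3 (f 3) ^^^ (bt n 4 (f 4) ^^^
    (bt n 5 (f 5) ^^^ (bt n 6 (f 6) ^^^ bt n 7 (f 7)))))))

theorem lin_congr {f g : ℕ → ℕ} (h : ∀ b < 8, f b = g b) (n : ℕ) : lin f n = lin g n := by
  simp only [lin, h 0 (by decide), h 1 (by decide), h 2 (by decide), h 3 (by decide),
    h 4 (by decide), h 5 (by decide), h 6 (by decide), h 7 (by decide)]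

theorem cd_cons (k : ℕ) (W : List ℕ) : cd (k :: W) = (if k < 8 then 2 ^ k else 0) ^^^ cd W := rfl

theorem cd_lt (W : List ℕ) : cd W < 256 := by
  induction W with
  | nil => decide
  | cons k W ih =>
    rw [cd_cons]
    refine Nat.xor_lt_two_pow (n := 8) ?_ ih
    split_ifs with h
    exacts [Nat.pow_lt_pow_right (by decide) h, by decide]

theorem cd_append (U V : List ℕ) : cd (U ++ V) = cd U ^^^ cd V := by
  induction U with
  | nil => simp [cd]
  | cons k U ih => rw [List.cons_append, cd_cons, cd_cons, ih, Nat.xor_assoc]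

theorem cd_cw : ∀ n < 256, cd (cw n) = n := by decide +kernel

theorem cw_lt8 (n : ℕ) : ∀ k ∈ cw n, k < 8 := fun k hk => by
  have := (List.mem_filter.1 hk).1
  clear hk; revert k; decide

theorem cw_lt (n : ℕ) : ∀ k ∈ cw n, k < 9 := fun k hk => by
  have := (List.mem_filter.1 hk).1
  clear hk; revert k; decide

theorem xor_lt {a b : ℕ} (ha : a < 256) (hb : b < 256) : a ^^^ b < 256 :=
  Nat.xor_lt_two_pow (n := 8) ha hb

/-- a linear function of codes is given by its values on the basis -/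
theorem eq_lin {f : ℕ → ℕ} (h0 : f 0 = 0) (h : ∀ a < 256, ∀ b < 256, f (a ^^^ b) = f a ^^^ f b) :
    ∀ n < 256, f n = lin (fun b => f (2 ^ b)) n := by
  intro n hn
  have e : ∀ n < 256, n = lin (fun b => 2 ^ b) n := by decide +kernel
  have l : ∀ b < 8, bt n b (2 ^ b) < 256 := fun b hb => by
    unfold bt; split_ifs
    exacts [Nat.pow_lt_pow_right (by decide) hb, by decide]
  have k : ∀ b, f (bt n b (2 ^ b)) = bt n b (f (2 ^ b)) := fun b => by
    unfold bt; split_ifs
    exacts [rfl, h0]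
  have l0 := l 0 (by decide); have l1 := l 1 (by decide); have l2 := l 2 (by decide)
  have l3 := l 3 (by decide); have l4 := l 4 (by decide); have l5 := l 5 (by decide)
  have l6 := l 6 (by decide); have l7 := l 7 (by decide)
  have m6 := xor_lt l6 l7; have m5 := xor_lt l5 m6; have m4 := xor_lt l4 m5
  have m3 := xor_lt l3 m4; have m2 := xor_lt l2 m3; have m1 := xor_lt l1 m2
  conv_lhs => rw [e n hn]
  simp only [lin]
  rw [h _ l0 _ m1, h _ l1 _ m2, h _ l2 _ m3, h _ l3 _ m4, h _ l4 _ m5, h _ l5 _ m6, h _ l6 _ l7]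
  simp only [k]

/-- the two words agree modulo the letter `8` -/
noncomputable def eqvC (val : List ℕ → ℕ) (U V : List ℕ) : Bool :=
  force (val U) fun a => bor (Nat.beq a (val V)) (Nat.beq a (val (appendL V [8])))

theorem eqvC_spec {K : Type*} [Group K] {y : ℕ → K} {val : List ℕ → ℕ} (o : Orc y val) {U V : List ℕ}
    (h : eqvC val U V = true) : Eqv (y 8) (ev y U) (ev y V) := by
  rw [eqvC, force_eq, bor_eq] at h
  exact h.imp (fun e => o.eq e) fun e => by simpa [appendL_eq] using o.eq (V := appendL V [8]) e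

theorem c1a : allN (fun b => allN (fun n => eqvC val (b :: cw n) (cw (cd (b :: cw n)))) 256) 5 = true := by
  decide +kernel
theorem c1b : allN (fun b => allN (fun n => eqvC val ((b + 5) :: cw n) (cw (cd ((b + 5) :: cw n)))) 256) 4
    = true := by decide +kernel
theorem c2 : allN (fun n => bor (Nat.beq n 0) (band (neC val (cw n) []) (neC val (cw n) [8]))) 256
    = true := by decide +kernel
theorem c3 : allN (fun b => allN (fun n => bif' (n.testBit (7 - b)) (ncomC val [b] (cw n))
    (comC val [b] (cw n))) 256) 8 = true := by decide +kernel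
theorem c4 : band (eqC val [8, 8] []) (band (neC val [8] [])
    (allN (fun b => band (eqC val [b, 8] [8, b]) (eqC val [b, b] [])) 8)) = true := by decide +kernel

def LMC : ℕ := nat_lit 0x80402018844221188442211804020102010a05002010a05a05080400a05080440c01030040c0103c08030200c0803028844221108040201a05020100a050201c04030100c040301804020100804020180402010080402018040201008040201804020100804020180402010080402018040201008040201804020100804020180402010080402018040201008040201

/-- the matrices of the letters -/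
def LM (k b : ℕ) : ℕ := dg 8 (dg 64 LMC k) b

theorem c5 : allN (fun k => band (eqC val [k, 8] [8, k])
    (allN (fun b => eqvC val (cj X.I [k] [b]) (cw (LM k b))) 8)) 18 = true := by decide +kernel

/-- the action of a word on codes -/
def wact (W : List ℕ) (n : ℕ) : ℕ := W.foldr (fun k a => lin (LM k) a) n

/-- the bilinear form -/
def par (W : List ℕ) (n : ℕ) : Bool := W.foldr (fun k a => xor (n.testBit (7 - k)) a) false

variable {K : Type*} [Group K]

/-- the extraspecial group -/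
def Qy (y : ℕ → K) : Subgroup K := genW y ([8] :: Ql)

open Classical in
/-- the code of an element -/
noncomputable def κ (y : ℕ → K) (g : K) : ℕ :=
  if h : ∃ n, n < 256 ∧ Eqv (y 8) g (ev y (cw n)) then h.choose else 0

/-- the action on codes -/
noncomputable def act (y : ℕ → K) (g : K) (n : ℕ) : ℕ := κ y (g * ev y (cw n) * g⁻¹)

variable {y : ℕ → K}

theorem κ_lt (g : K) : κ y g < 256 := by
  unfold κ; split_ifs with h
  exacts [h.choose_spec.1, by decide]

theorem act_lt (g : K) (n : ℕ) : act y g n < 256 := κ_lt _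

theorem q_mem {b : ℕ} (hb : b < 9) : y b ∈ Qy y := by
  simpa [Qy] using mem_genW (x := y) (ws := [8] :: Ql) (W := [b]) (by interval_cases b <;> decide)

theorem ev_memQ {W : List ℕ} (h : ∀ k ∈ W, k < 9) : ev y W ∈ Qy y :=
  ev_mem_of fun k hk => q_mem (h k hk)

theorem cw_mem (n : ℕ) : ev y (cw n) ∈ Qy y := ev_memQ (cw_lt n)

section
variable (o : Orc y val)
include o

theorem y_inv (k : ℕ) : y (X.I k) * y k = 1 := by
  simpa using (o [X.I k, k] []).1 ((orc [X.I k, k] []).2 (by simpa using m_inv k))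

theorem zz : y 8 * y 8 = 1 := by simpa using o.eq ((band_eq _ _).1 c4).1

theorem z_ne : y 8 ≠ 1 := by simpa using o.ne ((band_eq _ _).1 ((band_eq _ _).1 c4).2).1

theorem qq {b : ℕ} (hb : b < 8) : y b * y b = 1 := by
  simpa using o.eq ((band_eq _ _).1
    ((allN_eq _ _).1 ((band_eq _ _).1 ((band_eq _ _).1 c4).2).2 b hb)).2

theorem lz {k : ℕ} (hk : k < 18) : y k * y 8 = y 8 * y k := by
  simpa using o.eq ((band_eq _ _).1 ((allN_eq _ _).1 c5 k hk)).1

theorem evz {W : List ℕ} (h : ∀ k ∈ W, k < 18) : ev y W * y 8 = y 8 * ev y W :=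
  mem_centralizer_singleton_iff.1
    (ev_mem_of fun k hk => mem_centralizer_singleton_iff.2 (lz o (h k hk)))

theorem Qz {a : K} (ha : a ∈ Qy y) : a * y 8 = y 8 * a :=
  comm_genW (fun W hW => evz o (by revert W; decide)) ha

theorem ev_cd {W : List ℕ} (h : ∀ k ∈ W, k < 9) : Eqv (y 8) (ev y W) (ev y (cw (cd W))) := by
  induction W with
  | nil => exact Eqv.refl _ _
  | cons k W ih =>
    have hk := h k List.mem_cons_self
    have e : eqvC val (k :: cw (cd W)) (cw (cd (k :: cw (cd W)))) = true := by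
      by_cases h5 : k < 5
      · exact (allN_eq _ _).1 ((allN_eq _ _).1 c1a k h5) _ (cd_lt W)
      · have := (allN_eq _ _).1 ((allN_eq _ _).1 c1b (k - 5) (by omega)) _ (cd_lt W)
        rwa [show k - 5 + 5 = k by omega] at this
    have e' := eqvC_spec o e
    rw [cd_cons, cd_cw _ (cd_lt W), ← cd_cons, ev_cons] at e'
    rw [ev_cons]
    exact ((ih fun j hj => h j (List.mem_cons_of_mem _ hj)).mul_left _).trans (zz o) e'

theorem xgQ : XG y [8] Ql := by
  have h : ∀ w ∈ Ql, ∃ b < 8, w = [b] := by decide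
  refine ⟨by simpa using zz o, fun w hw => ?_, fun w hw => ?_, fun w hw v hv => ?_⟩
  · obtain ⟨b, hb, rfl⟩ := h w hw
    simpa using lz o (by omega)
  · obtain ⟨b, hb, rfl⟩ := h w hw
    exact Or.inl (by simpa using qq o hb)
  · obtain ⟨b, hb, rfl⟩ := h w hw
    obtain ⟨c, hc, rfl⟩ := h v hv
    have e1 := ev_cd o (W := [b] ++ [c]) (by simp; omega)
    have e2 := ev_cd o (W := [c] ++ [b]) (by simp; omega)
    rw [cd_append, Nat.xor_comm, ← cd_append] at e1
    simpa [Eqv] using e1.trans (zz o) (e2.symm (zz o))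

theorem exists_word {a : K} (ha : a ∈ Qy y) : ∃ W, (∀ k ∈ W, k < 9) ∧ ev y W = a := by
  obtain ⟨V, hV, rfl⟩ := (xgQ o).nf ha
  refine ⟨V, fun k hk => ?_, rfl⟩
  have := (allL_eq _ _).1 ((allL_eq _ _).1 k2 V hV) k hk
  rw [tb_eq] at this
  simpa using (testBit_ones 9 k).symm.trans this

theorem cw_xor {a b : ℕ} (ha : a < 256) (hb : b < 256) :
    Eqv (y 8) (ev y (cw a) * ev y (cw b)) (ev y (cw (a ^^^ b))) := by
  have := ev_cd o (W := cw a ++ cw b) fun k hk => (List.mem_append.1 hk).elim (cw_lt a k) (cw_lt b k)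
  rwa [cd_append, cd_cw a ha, cd_cw b hb, ev_append] at this

theorem cw_inj {a b : ℕ} (ha : a < 256) (hb : b < 256)
    (h : Eqv (y 8) (ev y (cw a)) (ev y (cw b))) : a = b := by
  have h1 := ((cw_xor o ha ha).symm (zz o)).trans (zz o) ((h.mul_left _).trans (zz o) (cw_xor o ha hb))
  rw [Nat.xor_self] at h1
  rcases (bor_eq _ _).1 ((allN_eq _ _).1 c2 _ (xor_lt ha hb)) with e | e
  · exact Nat.xor_eq_zero_iff.1 (Nat.eq_of_beq_eq_true e)
  · rw [band_eq] at e
    rcases h1.symm (zz o) with h2 | h2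
    · exact absurd h2 (o.ne e.1)
    · exact absurd (by simpa [cw] using h2) (o.ne e.2)

theorem κ_spec {a : K} (ha : a ∈ Qy y) : Eqv (y 8) a (ev y (cw (κ y a))) := by
  obtain ⟨W, hW, rfl⟩ := exists_word o ha
  have h : ∃ n, n < 256 ∧ Eqv (y 8) (ev y W) (ev y (cw n)) := ⟨_, cd_lt W, ev_cd o hW⟩
  rw [κ, dif_pos h]
  exact h.choose_spec.2

theorem κ_eq {a : K} {n : ℕ} (hn : n < 256) (h : Eqv (y 8) a (ev y (cw n))) : κ y a = n :=
  cw_inj o (κ_lt a) hn (((κ_spec o (h.mem (q_mem (by decide)) (cw_mem n))).symm (zz o)).trans (zz o) h)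

theorem κ_ev {W : List ℕ} (h : ∀ k ∈ W, k < 9) : κ y (ev y W) = cd W := κ_eq o (cd_lt W) (ev_cd o h)

theorem κ_cw {n : ℕ} (hn : n < 256) : κ y (ev y (cw n)) = n := κ_eq o hn (Eqv.refl _ _)

theorem κ_q {b : ℕ} (hb : b < 8) : κ y (y b) = 2 ^ b := by
  simpa [cd, hb] using κ_ev o (W := [b]) (by simp; omega)

theorem κ_one : κ y 1 = 0 := κ_ev o (W := []) (by simp)

theorem κ_z : κ y (y 8) = 0 := by simpa [cd] using κ_ev o (W := [8]) (by simp)

theorem κ_mul {a b : K} (ha : a ∈ Qy y) (hb : b ∈ Qy y) : κ y (a * b) = κ y a ^^^ κ y b :=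
  κ_eq o (xor_lt (κ_lt a) (κ_lt b)) ((((κ_spec o hb).mul_left a).trans (zz o)
    ((κ_spec o ha).mul_right (Qz o (cw_mem _)))).trans (zz o) (cw_xor o (κ_lt a) (κ_lt b)))

theorem eqv_of_κ {a b : K} (ha : a ∈ Qy y) (hb : b ∈ Qy y) (h : κ y a = κ y b) : Eqv (y 8) a b :=
  (κ_spec o ha).trans (zz o) ((h ▸ κ_spec o hb).symm (zz o))

theorem κ_of_eqv {a b : K} (hb : b ∈ Qy y) (h : Eqv (y 8) a b) : κ y a = κ y b :=
  κ_eq o (κ_lt b) (h.trans (zz o) (κ_spec o hb))

theorem κ_zero {a : K} (ha : a ∈ Qy y) (h : κ y a = 0) : a = 1 ∨ a = y 8 := by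
  simpa [h, Eqv, cw] using κ_spec o ha

theorem comm_q {b : ℕ} (hb : b < 8) {a : K} (ha : a ∈ Qy y) :
    y b * a = a * y b ↔ (κ y a).testBit (7 - b) = false := by
  have h := (allN_eq _ _).1 ((allN_eq _ _).1 c3 b hb) _ (κ_lt (y := y) a)
  have e : y b * a = a * y b ↔ y b * ev y (cw (κ y a)) = ev y (cw (κ y a)) * y b := by
    rcases κ_spec o ha with e | e
    · rw [← e]
    · conv_lhs => rw [e, ← mul_assoc, mul_assoc _ (y 8), ← lz o (by omega : b < 18), ← mul_assoc,
        mul_left_inj]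
  rw [e]
  cases h1 : (κ y a).testBit (7 - b) <;> rw [h1] at h
  · simpa [ev_app] using o.eq (U := appendL _ _) (V := appendL _ _) h
  · simpa [ev_app] using o.ne (U := appendL _ _) (V := appendL _ _) h

theorem xsQ : XS (Qy y) (y 8) := by
  refine ⟨q_mem (by decide), z_ne o, zz o, fun _ => Qz o, fun a ha b hb => ?_, fun a ha h => ?_,
    y 0, q_mem (by decide), fun e => ?_, fun e => ?_⟩
  · exact eqv_of_κ o (mul_mem ha hb) (mul_mem hb ha) (by rw [κ_mul o ha hb, κ_mul o hb ha, Nat.xor_comm])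
  · refine κ_zero o ha (Nat.eq_of_testBit_eq fun i => ?_)
    by_cases hi : i < 8
    · have := (comm_q o (b := 7 - i) (by omega) ha).1 (h _ (q_mem (by omega))).symm
      rwa [show 7 - (7 - i) = i by omega, ← Nat.zero_testBit i] at this
    · rw [Nat.zero_testBit, Nat.testBit_lt_two_pow ((κ_lt a).trans_le
        (Nat.pow_le_pow_right (n := 2) (i := 8) (by decide) (by omega)))]
  · have := κ_q o (b := 0) (by decide)
    rw [e, κ_one o] at this
    exact absurd this (by decide)
  · have := κ_q o (b := 0) (by decide)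
    rw [e, κ_z o] at this
    exact absurd this (by decide)

theorem card_Q [Finite K] : Nat.card (Qy y) = 2 ^ 9 := by
  refine le_antisymm (xgQ o).card_le (card_genW_ge (Q := Qy y) (c := [8]) (l := Ql)
    (by simpa using xsQ o) (by decide)
    (fun w hw => ev_memQ (by revert w; decide)) fun w hw => ?_)
  obtain ⟨b, hb, rfl⟩ : ∃ b < 8, w = [b] := by revert w; decide
  refine ⟨y (7 - b), q_mem (by omega), ?_, fun w hw hne => ?_⟩
  · rw [ev_cons, ev_nil, mul_one, Ne, comm_q o (by omega) (q_mem (by omega)), κ_q o hb]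
    simp [show 7 - (7 - b) = b by omega]
  · obtain ⟨c, hc, rfl⟩ : ∃ b < 8, w = [b] := by clear hne; revert w; decide
    rw [ev_cons, ev_nil, mul_one, eq_comm, comm_q o (by omega) (q_mem (by omega)), κ_q o hc,
      show 7 - (7 - b) = b by omega, Nat.testBit_two_pow]
    simpa using hne

theorem comm_w {W : List ℕ} (h : ∀ k ∈ W, k < 8) {a : K} (ha : a ∈ Qy y) :
    ev y W * a = a * ev y W ↔ par W (κ y a) = false := by
  have k : cmv (ev y W) a = if par W (κ y a) then 1 else 0 := by
    induction W with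
    | nil => simp [par, cmv_eq_zero]
    | cons k W ih =>
      have hk := h k List.mem_cons_self
      have h' : ∀ j ∈ W, j < 8 := fun j hj => h j (List.mem_cons_of_mem _ hj)
      have e : cmv (y k) a = if (κ y a).testBit (7 - k) then 1 else 0 := by
        cases e : (κ y a).testBit (7 - k)
        · exact cmv_eq_zero.2 ((comm_q o hk ha).2 e)
        · exact cmv_eq_one.2 fun e' => by simp [(comm_q o hk ha).1 e'] at e
      rw [ev_cons, cmv_mul_left (xsQ o) (q_mem (by omega)) (ev_memQ fun j hj => (h' j hj).trans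
        (by decide)) ha, ih h', e, show par (k :: W) (κ y a) =
          xor ((κ y a).testBit (7 - k)) (par W (κ y a)) from rfl]
      cases (κ y a).testBit (7 - k) <;> cases par W (κ y a) <;> decide
  rw [← cmv_eq_zero, k]
  cases par W (κ y a) <;> simp

theorem nz {g : K} (hg : g ∈ normalizer (Qy y : Set K)) : g * y 8 = y 8 * g := by
  have h1 : (Qy y).map (MulAut.conj g).toMonoidHom = Qy y := Grp.conj_smul_eq_iff_mem_normalizer.2 hg
  have h2 := (xsQ o).map_conj g
  rw [h1] at h2
  exact comm_of_conj_eq (h2.unique (xsQ o))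

omit o in
theorem cjQ {g a : K} (hg : g ∈ normalizer (Qy y : Set K)) (ha : a ∈ Qy y) : g * a * g⁻¹ ∈ Qy y :=
  (mem_normalizer_iff.1 hg a).1 ha

theorem κ_conj {g a : K} (hg : g ∈ normalizer (Qy y : Set K)) (ha : a ∈ Qy y) :
    κ y (g * a * g⁻¹) = act y g (κ y a) :=
  κ_of_eqv o (cjQ hg (cw_mem _)) ((κ_spec o ha).conj (nz o hg))

theorem act_spec {g : K} (hg : g ∈ normalizer (Qy y : Set K)) (n : ℕ) :
    Eqv (y 8) (g * ev y (cw n) * g⁻¹) (ev y (cw (act y g n))) := κ_spec o (cjQ hg (cw_mem n))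

theorem act_xor {g : K} (hg : g ∈ normalizer (Qy y : Set K)) {a b : ℕ} (ha : a < 256) (hb : b < 256) :
    act y g (a ^^^ b) = act y g a ^^^ act y g b := by
  rw [act, act, act, ← κ_mul o (cjQ hg (cw_mem a)) (cjQ hg (cw_mem b)), conj_mul]
  exact (κ_of_eqv o (cjQ hg (cw_mem _)) ((cw_xor o ha hb).conj (nz o hg))).symm

theorem act_zero (g : K) : act y g 0 = 0 := by simpa [act, cw] using κ_one o

theorem act_lin {g : K} (hg : g ∈ normalizer (Qy y : Set K)) {n : ℕ} (hn : n < 256) :
    act y g n = lin (fun b => act y g (2 ^ b)) n :=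
  eq_lin (act_zero o g) (fun _ ha _ hb => act_xor o hg ha hb) n hn

theorem act_mul {g h : K} (hg : g ∈ normalizer (Qy y : Set K)) (hh : h ∈ normalizer (Qy y : Set K))
    (n : ℕ) : act y (g * h) n = act y g (act y h n) := by
  refine Eq.trans ?_ (κ_conj o hg (cjQ hh (cw_mem n)))
  rw [act]; congr 1; group

theorem act_one {n : ℕ} (hn : n < 256) : act y 1 n = n := by simpa [act] using κ_cw o hn

theorem act_inv {g : K} (hg : g ∈ normalizer (Qy y : Set K)) {n : ℕ} (hn : n < 256) :
    act y g⁻¹ (act y g n) = n := by rw [← act_mul o (inv_mem hg) hg, inv_mul_cancel, act_one o hn]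

theorem act_inv' {g : K} (hg : g ∈ normalizer (Qy y : Set K)) {n : ℕ} (hn : n < 256) :
    act y g (act y g⁻¹ n) = n := by rw [← act_mul o hg (inv_mem hg), mul_inv_cancel, act_one o hn]

theorem act_Q {g : K} (hg : g ∈ Qy y) {n : ℕ} (hn : n < 256) : act y g n = n :=
  κ_eq o hn ((xsQ o).conj hg (cw_mem n))

theorem triv_of_act {g : K} (hg : g ∈ normalizer (Qy y : Set K)) (h : ∀ b < 8, act y g (2 ^ b) = 2 ^ b) :
    ∀ a ∈ Qy y, Eqv (y 8) (g * a * g⁻¹) a := fun a ha => by
  refine eqv_of_κ o (cjQ hg ha) ha ?_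
  have e : ∀ n < 256, lin (fun b => 2 ^ b) n = n := by decide +kernel
  rw [κ_conj o hg ha, act_lin o hg (κ_lt a), lin_congr h, e _ (κ_lt a)]

variable [Finite K]

theorem l_norm {k : ℕ} (hk : k < 18) : y k ∈ normalizer (Qy y : Set K) := by
  refine mem_normalizer_genW fun W hW => ?_
  obtain ⟨b, hb, rfl⟩ : ∃ b < 9, W = [b] := by revert W; decide
  rcases Nat.lt_succ_iff_lt_or_eq.1 hb with hb | rfl
  · have := eqvC_spec o ((allN_eq _ _).1 ((band_eq _ _).1 ((allN_eq _ _).1 c5 k hk)).2 b hb)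
    rw [ev_cj (y_inv o)] at this
    simpa [Qy] using this.mem (q_mem (by decide)) (cw_mem _)
  · simpa [conj_eq_of_comm (lz o hk), Qy] using q_mem (y := y) (b := 8) (by decide)

theorem w_norm {W : List ℕ} (h : ∀ k ∈ W, k < 18) : ev y W ∈ normalizer (Qy y : Set K) :=
  ev_mem_of fun k hk => l_norm o (h k hk)

theorem act_l {k : ℕ} (hk : k < 18) {n : ℕ} (hn : n < 256) : act y (y k) n = lin (LM k) n := by
  rw [act_lin o (l_norm o hk) hn]
  refine lin_congr (fun b hb => ?_) n
  have := eqvC_spec o ((allN_eq _ _).1 ((band_eq _ _).1 ((allN_eq _ _).1 c5 k hk)).2 b hb)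
  rw [ev_cj (y_inv o)] at this
  rw [← κ_q o hb, ← κ_conj o (l_norm o hk) (q_mem (by omega))]
  exact κ_eq o (dg_lt 8 _ _) (by simpa using this)

theorem act_w {W : List ℕ} (h : ∀ k ∈ W, k < 18) {n : ℕ} (hn : n < 256) :
    act y (ev y W) n = wact W n := by
  induction W with
  | nil => exact act_one o hn
  | cons k W ih =>
    have h' : ∀ j ∈ W, j < 18 := fun j hj => h j (List.mem_cons_of_mem _ hj)
    rw [ev_cons, act_mul o (l_norm o (h k List.mem_cons_self)) (w_norm o h'),
      act_l o (h k List.mem_cons_self) (act_lt _ _), ih h']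
    rfl

end

end Cfsg.Agent.O3R
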