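import Mathlib
import Cfsg.Agent.O3R.Ad

/-!
# The unipotent radical of the stabiliser of `W`
-/

set_option autoImplicit false
set_option maxRecDepth 100000

namespace Cfsg.Agent.O3R

open Subgroup Cfsg.Agent.TT Cfsg.Agent.LES Cfsg.Agent.XSC Cfsg.Agent.Comp.BN Cfsg.Agent.O8C

variable {G : Type*} [Group G] [Finite G] {y : ℕ → G} {t : ℕ → G × M3} {g : G}

/-- composition, forcing the intermediate value -/
noncomputable def ucp (f k : ℕ → ℕ) (c : ℕ) : ℕ := force (k c) f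

theorem ucp_eq (f k : ℕ → ℕ) (c : ℕ) : ucp f k c = f (k c) := force_eq _ _

def ul8 (a b c d e f n : ℕ) : ℕ :=
  bt n 0 1 ^^^ (bt n 1 2 ^^^ (bt n 2 a ^^^ (bt n 3 b ^^^ (bt n 4 c ^^^
    (bt n 5 d ^^^ (bt n 6 e ^^^ bt n 7 f))))))

noncomputable def ucm (F : ℕ → ℕ) (K L c : ℕ) : Bool :=
  Nat.beq (ucp F (ucp (ln K) (ucp F (ln L))) c) (ucp (ucp (ln K) (ucp F (ln L))) F c)

noncomputable def ugd (F : ℕ → ℕ) (K L : ℕ) : Bool :=
  band (allN (fun i => ucm F K L (2 ^ i)) 6) (bif' (band (ucm F K L 64) (ucm F K L 128)) false true)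

noncomputable def uinv (K L : ℕ) : Bool := allN (fun c => Nat.beq (ucp (ln K) (ln L) c) c) 256

def uq (B e x c : ℕ) : Bool := qa (e ^^^ x) == qa (B ^^^ c)

noncomputable def uq3 (B e : ℕ) : Bool := band (uq B e 0 0) (band (uq B e 1 1) (uq B e 2 2))

noncomputable def uq2 (e f x c : ℕ) : Bool := band (uq 64 e x c) (uq 128 f x c)

noncomputable def ufin (F : ℕ → ℕ) : Bool :=
  bor (ugd F 0xc08020100c080302 0x40c02010040c0103) (bor (ugd F 0xc080201008040302 0x40c0201008040103)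
    (bor (ugd F 0xc0803020040c0302 0x40c010300c080103) (ugd F 0xc0801030040c0302 0x40c030200c080103)))

theorem ul1 : allN (fun e => bif' (uq3 64 e) (allN (fun f => bif' (uq3 128 f)
    (allN (fun a => bif' (uq2 e f (4 + a) 4) (allN (fun b => bif' (uq2 e f (8 + b) 8)
    (allN (fun c => bif' (uq2 e f (16 + c) 16) (allN (fun d => bif' (uq2 e f (32 + d) 32)
      (bor (Nat.beq (a + b + c + d) 0) (ufin (ul8 (4 + a) (8 + b) (16 + c) (32 + d) e f)))
      true) 4) true) 4) true) 4) true) 4) true) 256) true) 256 = true := by decide +kernel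

theorem ul2 : (actC [14, 12, 19, 16, 14, 13] 0xc08020100c080302 = true ∧
      uinv 0xc08020100c080302 0x40c02010040c0103 = true) ∧
    (actC [14, 13] 0xc080201008040302 = true ∧ uinv 0xc080201008040302 0x40c0201008040103 = true) ∧
    (actC [19, 16, 14, 13] 0xc0803020040c0302 = true ∧
      uinv 0xc0803020040c0302 0x40c010300c080103 = true) ∧
    (actC [14, 12, 14, 13] 0xc0801030040c0302 = true ∧
      uinv 0xc0801030040c0302 0x40c030200c080103 = true) ∧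
    (actC [19, 16, 14, 12] 0x804020100c080201 = true ∧
      uinv 0x804020100c080201 0x80402010040c0201 = true) ∧
    (actC [20, 17, 14, 12] 0x8040302008040201 = true ∧
      uinv 0x8040302008040201 0x8040103008040201 = true) := by decide +kernel

theorem ubif {p : ℕ → Bool} {q : ℕ → Bool} {n k : ℕ} (h : allN (fun a => bif' (p a) (q a) true) n = true)
    (hk : k < n) (hp : p k = true) : q k = true := by
  have := (allN_eq _ _).1 h k hk
  rwa [hp] at this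

theorem ul1' {e f a b c d : ℕ} (he : e < 256) (hf : f < 256) (ha : a < 4) (hb : b < 4) (hc : c < 4)
    (hd : d < 4) (h1 : uq3 64 e = true) (h2 : uq3 128 f = true) (h3 : uq2 e f (4 + a) 4 = true)
    (h4 : uq2 e f (8 + b) 8 = true) (h5 : uq2 e f (16 + c) 16 = true) (h6 : uq2 e f (32 + d) 32 = true) :
    a + b + c + d = 0 ∨ ufin (ul8 (4 + a) (8 + b) (16 + c) (32 + d) e f) = true := by
  have k1 := ubif ul1 he h1
  have k2 := ubif k1 hf h2
  have k3 := ubif k2 ha h3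
  have k4 := ubif k3 hb h4
  have k5 := ubif k4 hc h5
  exact ((bor_eq _ _).1 (ubif k5 hd h6)).imp_left Nat.eq_of_beq_eq_true

theorem ul8_eq {f : ℕ → ℕ} (h1 : f 1 = 1) (h2 : f 2 = 2) (n : ℕ) :
    lin (fun i => f (2 ^ i)) n = ul8 (f 4) (f 8) (f 16) (f 32) (f 64) (f 128) n := by
  simp only [lin, ul8, Nat.reducePow, h1, h2]

theorem ulin6 {f : ℕ → ℕ} (h : ∀ i < 6, f i = 2 ^ i) {c : ℕ} (hc : c < 64) : lin f c = c := by
  have e : ∀ c < 64, c.testBit 6 = false ∧ c.testBit 7 = false ∧ lin (fun i => 2 ^ i) c = c := by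
    decide +kernel
  obtain ⟨a, b, e⟩ := e c hc
  refine Eq.trans ?_ e
  simp only [lin, bt, a, b, h 0 (by decide), h 1 (by decide), h 2 (by decide), h 3 (by decide),
    h 4 (by decide), h 5 (by decide), Bool.false_eq_true, if_false]

/-- An element of `N(Q)` fixing `W^⊥` pointwise lies in `Q`. -/
theorem W3.ul_fix (h : W3 y t) (hg : g ∈ normalizer (Qy y : Set G))
    (e : ∀ i < 6, Aa y g (2 ^ i) = 2 ^ i) : g ∈ Qy y :=
  h.r2a hg (a := 1) (b := 2) (by decide) (by decide) (by decide +kernel) fun c hc h1 h2 => by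
    rw [Nat.xor_comm] at h1 h2
    rw [Aa_lin h.o hg hc, ulin6 e ((a3 c hc).1.2 ⟨by rw [h1], by rw [h2]⟩)]

theorem W3.ul_inv (h : W3 y t) {W : List ℕ} {K L : ℕ} (e : actC W K = true ∧ uinv K L = true)
    {c : ℕ} (hc : c < 256) : Aa y (ev t W).1⁻¹ c = ln L c := by
  obtain ⟨hN, k⟩ := h.act_word e.1
  have := Nat.eq_of_beq_eq_true ((allN_eq _ _).1 e.2 c hc)
  rw [ucp_eq, ← k _ (ln_lt _ _)] at this
  conv_lhs => rw [← this, Aa_inv h.o hN (ln_lt _ _)]

theorem W3.not_ugd (h : W3 y t) (hg : g ∈ normalizer (Qy y : Set G)) {F : ℕ → ℕ}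
    (hF : ∀ c < 256, Aa y g c = F c) {W : List ℕ} {K L : ℕ} (e : actC W K = true ∧ uinv K L = true) :
    ¬ ugd F K L = true := fun d => by
  obtain ⟨hN, k⟩ := h.act_word e.1
  have k' := fun c hc => h.ul_inv e (c := c) hc
  generalize (ev t W).1 = x at hN k k'
  have n1 : x * g * x⁻¹ ∈ normalizer (Qy y : Set G) := mul_mem (mul_mem hN hg) (inv_mem hN)
  have a : ∀ c < 256, Aa y (x * g * x⁻¹) c = ucp (ln K) (ucp F (ln L)) c := fun c hc => by
    rw [Aa_mul h.o (mul_mem hN hg) (inv_mem hN), Aa_mul h.o hN hg, k _ (Aa_lt _ _),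
      hF _ (Aa_lt _ _), k' c hc, ucp_eq, ucp_eq]
  have b : ∀ c < 256, ucm F K L c = true ↔
      Aa y (g * (x * g * x⁻¹)) c = Aa y (x * g * x⁻¹ * g) c := fun c hc => by
    rw [Aa_mul h.o hg n1, Aa_mul h.o n1 hg, hF _ (Aa_lt _ _), a c hc, a _ (Aa_lt _ _), hF c hc, ucm,
      Nat.beq_eq, ucp_eq F, ucp_eq _ F]
  rw [ugd, band_eq, allN_eq] at d
  have q : (x * g * x⁻¹ * g)⁻¹ * (g * (x * g * x⁻¹)) ∈ Qy y :=
    h.ul_fix (mul_mem (inv_mem (mul_mem n1 hg)) (mul_mem hg n1)) fun i hi => by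
      have l : 2 ^ i < 256 := by interval_cases i <;> decide
      rw [Aa_mul h.o (inv_mem (mul_mem n1 hg)) (mul_mem hg n1), (b _ l).1 (d.1 i hi),
        Aa_inv h.o (mul_mem n1 hg) l]
  have r : ∀ c < 256, ucm F K L c = true := fun c hc =>
    (b c hc).2 (Aa_eq h.o (mul_mem hg n1) (mul_mem n1 hg) q hc)
  have := d.2
  rw [r 64 (by decide), r 128 (by decide)] at this
  exact Bool.false_ne_true this

/-- Put `N i = Aa y g (2 ^ i)`; `Aa_lin`:
`Aa y g c = lin N c`.  `N 0 = 1`, `N 1 = 2`, `N (2 + j) = 4 * 2 ^ j + r j` with `r j < 4` (`j < 4`, from `e (2 ^ j)`),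
and `n₆ = N 6`, `n₇ = N 7` satisfy `qa (n₆ ^^^ lin N c) = qa (64 ^^^ c)`, `qa (n₇ ^^^ lin N c) = qa (128 ^^^ c)` for
`c ∈ [0, 1, 2, 4, 8, 16, 32]` (`Aa_q`, `Aa_xor`); 1024 cases remain (loop `r`, then filter `n₆`, then `n₇`; use
`allN`/`bif'`).  Key: an element of `normalizer Q` fixing all `c < 64` lies in `Q` (`W3.r2a` with `a = 1`, `b = 2`, `a3`).
If `r = 0` apply it to `g`.  Otherwise (kernel check) for one of the words `k` with matrices `(K, K⁻¹)` (`act_word`, `actC`):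
`[14,12,19,16,14,13] (0xc08020100c080302, 0x40c02010040c0103)`, `[14,13] (0xc080201008040302, 0x40c0201008040103)`,
`[19,16,14,13] (0xc0803020040c0302, 0x40c010300c080103)`, `[14,12,14,13] (0xc0801030040c0302, 0x40c030200c080103)`,
the map `H c = ln K (lin N (ln K⁻¹ c))` (action of `h = k g k⁻¹`; `Aa y k⁻¹ = ln K⁻¹` from `Aa_inv` or `act_word` for
`invW X3.I k`) commutes with `lin N` on `2 ^ i`, `i < 6`, but not on `64` or `128`.  Then `(h g)⁻¹ (g h)` fixes all `c < 64`,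
so lies in `Q`, and `Aa_eq` gives a contradiction. -/
theorem W3.memU (h : W3 y t) (hg : g ∈ CW h.o) (e : ∀ c < 16, Ab y g c = c) : g ∈ Qy y := by
  have r : ∀ c < 16, ∃ a < 4, Aa y g (4 * c) = 4 * c + a := fun c hc =>
    ⟨Aa y g (4 * c) % 4, Nat.mod_lt _ (by decide), by have := e c hc; unfold Ab at this; omega⟩
  obtain ⟨a, ha, ea⟩ : ∃ a < 4, Aa y g 4 = 4 + a := r 1 (by decide)
  obtain ⟨b, hb, eb⟩ : ∃ a < 4, Aa y g 8 = 8 + a := r 2 (by decide)
  obtain ⟨c, hc, ec⟩ : ∃ a < 4, Aa y g 16 = 16 + a := r 4 (by decide)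
  obtain ⟨d, hd, ed⟩ : ∃ a < 4, Aa y g 32 = 32 + a := r 8 (by decide)
  have q : ∀ B < 256, ∀ c < 256, ∀ x, Aa y g c = x → uq B (Aa y g B) x c = true := fun B hB c hc x e => by
    rw [uq, ← e, ← Aa_xor h.o hg.1, Aa_q h.o hg.1 (xor_lt hB hc)]
    exact beq_self_eq_true _
  have q3 : ∀ B < 256, uq3 B (Aa y g B) = true := fun B hB =>
    (band_eq _ _).2 ⟨q B hB 0 (by decide) _ (Aa_zero h.o g),
      (band_eq _ _).2 ⟨q B hB 1 (by decide) _ hg.2.1, q B hB 2 (by decide) _ hg.2.2⟩⟩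
  have q2 : ∀ c < 256, ∀ x, Aa y g c = x → uq2 (Aa y g 64) (Aa y g 128) x c = true := fun c hc x e =>
    (band_eq _ _).2 ⟨q 64 (by decide) c hc x e, q 128 (by decide) c hc x e⟩
  have k := ul1' (Aa_lt (y := y) g 64) (Aa_lt (y := y) g 128) ha hb hc hd (q3 64 (by decide))
    (q3 128 (by decide)) (q2 4 (by decide) _ ea) (q2 8 (by decide) _ eb) (q2 16 (by decide) _ ec)
    (q2 32 (by decide) _ ed)
  have hF : ∀ n < 256, Aa y g n = ul8 (4 + a) (8 + b) (16 + c) (32 + d) (Aa y g 64) (Aa y g 128) n :=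
    fun n hn => by rw [Aa_lin h.o hg.1 hn, ul8_eq hg.2.1 hg.2.2, ea, eb, ec, ed]
  rw [ufin, bor_eq, bor_eq, bor_eq] at k
  obtain ⟨u1, u2, u3, u4, -⟩ := ul2
  rcases k with k | k | k | k | k
  · refine h.ul_fix hg.1 fun i hi => ?_
    interval_cases i
    exacts [hg.2.1, hg.2.2, ea.trans (by omega), eb.trans (by omega), ec.trans (by omega),
      ed.trans (by omega)]
  exacts [(h.not_ugd hg.1 hF u1 k).elim, (h.not_ugd hg.1 hF u2 k).elim, (h.not_ugd hg.1 hF u3 k).elim,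
    (h.not_ugd hg.1 hF u4 k).elim]

noncomputable def uid (f : ℕ → ℕ) : Bool := allN (fun c => Nat.beq (f c) c) 16

noncomputable def ucube (f : ℕ → ℕ) : Bool := band (uid (ucp f (ucp f f))) (bif' (uid f) false true)

def uR (M c : ℕ) : ℕ := ln M (4 * c) / 4

noncomputable def ucj (f : ℕ → ℕ) (K L : ℕ) : ℕ → ℕ := ucp f (ucp (ucp (uR K) f) (uR L))

theorem ul3 : ∀ e ∈ isoL, bor (uid (l4 e)) (bor (ucube (l4 e)) (bor (ucube (ucp (l4 e) (l4 e)))
    (bor (ucube (ucj (l4 e) 0x804020100c080201 0x80402010040c0201))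
    (bor (ucube (ucj (l4 e) 0x8040302008040201 0x8040103008040201))
      (ucube (ucj (ucp (l4 e) (l4 e)) 0x804020100c080201 0x80402010040c0201)))))) = true := by
  decide +kernel

/-- `x ∈ CW` acts on `W^⊥ / W` as `f` -/
def URp (o : Orc y val) (x : G) (f : ℕ → ℕ) : Prop := x ∈ CW o ∧ ∀ c < 16, Ab y x c = f c

theorem URp.mul {o : Orc y val} {x z : G} {f k : ℕ → ℕ} (a : URp o x f) (b : URp o z k) :
    URp o (x * z) (ucp f k) :=
  ⟨mul_mem a.1 b.1, fun c hc => by rw [Ab_mul o a.1 b.1 hc, a.2 _ (Ab_lt o b.1 hc), b.2 c hc, ucp_eq]⟩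

theorem URp.id {o : Orc y val} {x : G} {f : ℕ → ℕ} (a : URp o x f) :
    uid f = true ↔ ∀ c < 16, Ab y x c = c := by
  rw [uid, allN_eq]
  exact forall₂_congr fun c hc => by rw [Nat.beq_eq, a.2 c hc]

theorem URp.not_cube {o : Orc y val} {x : G} {f : ℕ → ℕ} (a : URp o x f) (h : ∃ k, x ^ 2 ^ k = 1) :
    ¬ ucube f = true := fun d => by
  rw [ucube, band_eq, (a.mul (a.mul a)).id] at d
  let K : Subgroup G :=
    { carrier := {g | g ∈ CW o ∧ ∀ c < 16, Ab y g c = c}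
      one_mem' := ⟨one_mem _, fun c hc => Ab_Q o (one_mem _) hc⟩
      mul_mem' := fun ha hb => ⟨mul_mem ha.1 hb.1, fun c hc => by
        rw [Ab_mul o ha.1 hb.1 hc, hb.2 c hc, ha.2 c hc]⟩
      inv_mem' := fun ha => ⟨inv_mem ha.1, fun c hc => by
        simpa [ha.2 c hc] using Ab_inv o ha.1 hc⟩ }
  obtain ⟨k, hk⟩ := h
  have m : x ∈ zpowers (x ^ 3) := mem_zpowers_pow_iff.2
    ((Nat.Coprime.pow_right k (by decide)).coprime_dvd_right (orderOf_dvd_of_pow_eq_one hk))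
  have : x ∈ K := zpowers_le.2 (show x ^ 3 ∈ K from ⟨pow_mem a.1 3, by rw [pow_three]; exact d.1⟩) m
  have e := d.2
  rw [a.id.2 this.2] at e
  exact Bool.false_ne_true e

theorem W3.urp (h : W3 y t) {W : List ℕ} {K L : ℕ} (e : actC W K = true ∧ uinv K L = true)
    (e1 : ln K 1 = 1) (e2 : ln K 2 = 2) :
    URp h.o (ev t W).1 (uR K) ∧ URp h.o (ev t W).1⁻¹ (uR L) := by
  obtain ⟨hN, k⟩ := h.act_word e.1
  have m : (ev t W).1 ∈ CW h.o := ⟨hN, (k 1 (by decide)).trans e1, (k 2 (by decide)).trans e2⟩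
  exact ⟨⟨m, fun c hc => by rw [Ab, k _ (by omega), uR]⟩,
    inv_mem m, fun c hc => by rw [Ab, h.ul_inv e (by omega), uR]⟩

/-- `ρ₀ = [19,16,14,12]` has matrix `0x804020100c080201` (inverse word `[13,15,17,20]`,
`0x80402010040c0201`), `ρ₁ = [20,17,14,12]` has `0x8040302008040201` (inverse `[13,15,16,19]`, `0x8040103008040201`); both lie in
`CW`.  For `g ∈ P` take `e ∈ isoL` from `exists_iso`.  If `l4 e` is not the identity on `range 16`, then (kernel check over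
`isoL`) one of `g`, `g²`, `g ρ₀ g ρ₀⁻¹`, `g ρ₁ g ρ₁⁻¹`, `g² ρ₀ g² ρ₀⁻¹` (all in `P`) acts on `range 16` through `Ab` as a map
`f ≠ id` with `f ∘ f ∘ f = id`; since such an `x ∈ P` has `x ^ 2 ^ k = 1` and `2 ^ k ≡ 1, 2 (mod 3)`, `f = id`
(`Ab_mul`, `Ab_Q`), contradiction.  So `memU` applies. -/
theorem W3.le_Q (h : W3 y t) {P : Subgroup G} (hP : IsPGroup 2 P) (le : P ≤ CW h.o)
    (n0 : ∀ a ∈ P, (ev t [19, 16, 14, 12]).1 * a * (ev t [19, 16, 14, 12]).1⁻¹ ∈ P)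
    (n1 : ∀ a ∈ P, (ev t [20, 17, 14, 12]).1 * a * (ev t [20, 17, 14, 12]).1⁻¹ ∈ P) : P ≤ Qy y := by
  intro g hg
  obtain ⟨e, he, k⟩ := exists_iso h.o (le hg)
  have a : URp h.o g (l4 e) := ⟨le hg, k⟩
  have two : ∀ x ∈ P, ∃ k, x ^ 2 ^ k = 1 := fun x hx =>
    (hP ⟨x, hx⟩).imp fun _ e => congrArg Subtype.val e
  obtain ⟨-, -, -, -, u0, u1⟩ := ul2
  obtain ⟨r0, s0⟩ := h.urp u0 (by decide +kernel) (by decide +kernel)
  obtain ⟨r1, s1⟩ := h.urp u1 (by decide +kernel) (by decide +kernel)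
  have g2 := mul_mem hg hg
  have d := ul3 e he
  simp only [bor_eq] at d
  rcases d with d | d | d | d | d | d
  exacts [h.memU (le hg) (a.id.1 d), (a.not_cube (two _ hg) d).elim,
    ((a.mul a).not_cube (two _ g2) d).elim,
    ((a.mul ((r0.mul a).mul s0)).not_cube (two _ (mul_mem hg (n0 _ hg))) d).elim,
    ((a.mul ((r1.mul a).mul s1)).not_cube (two _ (mul_mem hg (n1 _ hg))) d).elim,
    (((a.mul a).mul ((r0.mul (a.mul a)).mul s0)).not_cube (two _ (mul_mem g2 (n0 _ g2))) d).elim]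

end Cfsg.Agent.O3R
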