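import Mathlib
import Cfsg.Agent.O3R.UL

/-!
# Conjugates of `z` centralising `z` and `W` are of alternating type
-/

set_option autoImplicit false
set_option maxRecDepth 100000

namespace Cfsg.Agent.O3R

open Subgroup Cfsg.Agent.TT Cfsg.Agent.LES Cfsg.Agent.XSC Cfsg.Agent.Comp.BN Cfsg.Agent.O8C

variable {G : Type*} [Group G] [Finite G] {y : ℕ → G} {t : ℕ → G × M3} {s : G}

namespace TA

theorem ρ0 : actC [19, 16, 14, 12] 0x804020100c080201 = true := by decide +kernel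
theorem ρ0' : actC [13, 15, 17, 20] 0x80402010040c0201 = true := by decide +kernel
theorem ρ1 : actC [20, 17, 14, 12] 0x8040302008040201 = true := by decide +kernel
theorem ρ1' : actC [13, 15, 16, 19] 0x8040103008040201 = true := by decide +kernel
theorem wk : ∀ K ∈ [0x8241080420100201, 0x8241080430200201, 0x8241080410300201],
    ∃ W ∈ [[11], [11, 19, 16, 14, 12], [11, 13, 15, 17, 20]], actC W K = true := by decide +kernel

/-- intertwining on `W^⊥ / W` -/
def It (e : List ℕ) (R R' : ℕ) : Prop := ∀ c < 16, l4 e (ln R (4 * c) / 4) = ln R' (4 * l4 e c) / 4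

instance (e : List ℕ) (R R' : ℕ) : Decidable (It e R R') := by unfold It; infer_instance

theorem k1 : ∀ e ∈ isoL, (∀ c < 16, l4 e (l4 e c) = c) → (∃ c < 16, qa (4 * (c ^^^ l4 e c)) = true) →
    (It e 0x804020100c080201 0x804020100c080201 ∨ It e 0x804020100c080201 0x80402010040c0201) ∧
    (It e 0x8040302008040201 0x8040302008040201 ∨ It e 0x8040302008040201 0x8040103008040201) := by
  decide +kernel

theorem k2 : ∀ R ∈ [0x804020100c080201, 0x80402010040c0201],
    ∀ S ∈ [0x8040302008040201, 0x8040103008040201], ∀ n < 256, n ^^^ ln R n ∈ [0, 4, 8, 12] ∧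
      n ^^^ ln S n ∈ [0, 16, 32, 48] ∧ (n = ln R n → n = ln S n → n &&& 60 = 0) := by decide +kernel

/-- the final alternative -/
def OK (N : List ℕ) : Prop :=
  (∀ x < 256, qa (l4 N x) = qa x) → (∀ i < 8, l4 N (l4 N (2 ^ i)) = 2 ^ i) →
    (∃ x < 64, qa (x ^^^ l4 N x) = true) → 16 < ((Finset.range 256).filter fun x => l4 N x = x).card ∨
      ∃ K ∈ [0x8241080420100201, 0x8241080430200201, 0x8241080410300201], l4 N (ln K 4) ≠ 4 ∧
        (qa (4 ^^^ l4 N (ln K 4)) = false ∧ qa (8 ^^^ l4 N (ln K 8)) = false ∧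
          qa ((4 ^^^ l4 N (ln K 4)) ^^^ (8 ^^^ l4 N (ln K 8))) = false) ∧
        ∀ c < 256, qa ((4 ^^^ l4 N (ln K 4)) ^^^ c) = qa c → qa ((8 ^^^ l4 N (ln K 8)) ^^^ c) = qa c →
          l4 N (ln K c) = c

instance (N : List ℕ) : Decidable (OK N) := by unfold OK; infer_instance

set_option synthInstance.maxSize 2000 in
set_option synthInstance.maxHeartbeats 200000 in
theorem k3 : ∀ a ∈ [0, 4, 8, 12], ∀ b ∈ [0, 4, 8, 12], qa a = qa 4 → qa b = qa 8 → qa (a ^^^ b) = qa 12 →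
    ∀ c ∈ [0, 16, 32, 48], ∀ d ∈ [0, 16, 32, 48], qa c = qa 16 → qa d = qa 32 → qa (c ^^^ d) = qa 48 →
    ∀ u < 256, u &&& 60 = 0 → qa (u ^^^ 1) = qa 65 → qa (u ^^^ 2) = qa 66 →
    ∀ v < 256, v &&& 60 = 0 → qa (v ^^^ 1) = qa 129 → qa (v ^^^ 2) = qa 130 →
      OK [1, 2, a, b, c, d, u, v] := by decide +kernel

theorem mem_CW (h : W3 y t) {W : List ℕ} {M : ℕ} (e : actC W M = true) (e1 : ln M 1 = 1) (e2 : ln M 2 = 2) :
    (ev t W).1 ∈ CW h.o :=
  ⟨(h.act_word e).1, ((h.act_word e).2 1 (by decide)).trans e1, ((h.act_word e).2 2 (by decide)).trans e2⟩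

theorem comm (h : W3 y t) (hW : s ∈ CW h.o) {e : List ℕ} (he : ∀ c < 16, Ab y s c = l4 e c)
    {U V : List ℕ} {R R' : ℕ} (u : actC U R = true) (v : actC V R' = true)
    (u1 : ln R 1 = 1 ∧ ln R 2 = 2) (v1 : ln R' 1 = 1 ∧ ln R' 2 = 2) (k : It e R R') :
    ∀ c < 256, Aa y s (ln R c) = ln R' (Aa y s c) := by
  have mU := mem_CW h u u1.1 u1.2
  have mV := mem_CW h v v1.1 v1.2
  have aU := (h.act_word u).2
  have aV := (h.act_word v).2
  have m1 := mul_mem mV hW
  have m2 := mul_mem hW mU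
  have hQ := h.memU (mul_mem (inv_mem m1) m2) fun c hc => by
    have l := Ab_lt h.o hW hc
    have e1 : Ab y (s * (ev t U).1) c = Ab y ((ev t V).1 * s) c := by
      rw [Ab_mul h.o hW mU hc, Ab_mul h.o mV hW hc, he _ (Ab_lt h.o mU hc), Ab, Ab, aU _ (by omega),
        aV _ (by omega), he c hc]
      exact k c hc
    rw [Ab_mul h.o (inv_mem m1) m2 hc, e1, Ab_inv h.o m1 hc]
  intro c hc
  have := Aa_eq h.o m2.1 m1.1 hQ hc
  rwa [Aa_mul h.o hW.1 mU.1, Aa_mul h.o mV.1 hW.1, aU c hc, aV _ (Aa_lt _ _)] at this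

end TA

open TA in
/-- a conjugate of `z` centralising `z` and `W` acts on `W^⊥` with alternating type -/
theorem W3.alt (h : W3 y t) (hs : IsConj (y 8) s) (hW : s ∈ CW h.o) :
    ∀ c < 64, qa (c ^^^ Aa y s c) = false := by
  intro c₀ hc₀
  by_contra hq
  rw [Bool.not_eq_false] at hq
  have o := h.o
  have ss : s * s = 1 := by
    obtain ⟨g, rfl⟩ := isConj_iff.1 hs
    rw [conj_mul, zz o, mul_one, mul_inv_cancel]
  have nQ : s ∉ Qy y := fun hQ => by
    rw [Aa_Q o hQ (by omega), Nat.xor_self] at hq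
    exact absurd hq (by decide)
  have FF : ∀ c < 256, Aa y s (Aa y s c) = c := fun c hc => by
    rw [← Aa_mul o hW.1 hW.1, ss, Aa_Q o (one_mem _) hc]
  obtain ⟨e, eL, he⟩ := exists_iso o hW
  have k := k1 e eL (fun c hc => by
    rw [← he c hc, ← he _ (Ab_lt o hW hc), ← Ab_mul o hW hW hc, ss, Ab_Q o (one_mem _) hc])
    ⟨c₀ / 4, by omega, by
      have l := CW_lt o hW hc₀
      have l2 : c₀ ^^^ Aa y s c₀ < 64 := Nat.xor_lt_two_pow (n := 6) hc₀ l
      rw [(a3 _ (by omega)).2 l2, show 4 = 2 ^ 2 from rfl, Nat.xor_div_two_pow] at hq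
      rw [← he _ (by omega), ← Aa_div o hW hc₀]
      exact hq⟩
  obtain ⟨R, hR, cR⟩ : ∃ R ∈ [0x804020100c080201, 0x80402010040c0201],
      ∀ c < 256, Aa y s (ln 0x804020100c080201 c) = ln R (Aa y s c) :=
    k.1.elim (fun k => ⟨_, by simp, comm h hW he ρ0 ρ0 (by decide +kernel) (by decide +kernel) k⟩)
      fun k => ⟨_, by simp, comm h hW he ρ0 ρ0' (by decide +kernel) (by decide +kernel) k⟩
  obtain ⟨S, hS, cS⟩ : ∃ S ∈ [0x8040302008040201, 0x8040103008040201],
      ∀ c < 256, Aa y s (ln 0x8040302008040201 c) = ln S (Aa y s c) :=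
    k.2.elim (fun k => ⟨_, by simp, comm h hW he ρ1 ρ1 (by decide +kernel) (by decide +kernel) k⟩)
      fun k => ⟨_, by simp, comm h hW he ρ1 ρ1' (by decide +kernel) (by decide +kernel) k⟩
  have K2 := fun n => k2 R hR S hS _ (Aa_lt (y := y) s n)
  have X : ∀ a b, Aa y s a ^^^ Aa y s b = Aa y s (a ^^^ b) := fun a b => (Aa_xor o hW.1 a b).symm
  have n2 := (K2 8).1
  have n3 := (K2 12).1
  have n4 := (K2 32).2.1
  have n5 := (K2 48).2.1
  have n6 := (K2 64).2.2
  have n7 := (K2 128).2.2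
  rw [← cR _ (by decide), X, show 8 ^^^ ln 0x804020100c080201 8 = 4 by decide +kernel] at n2
  rw [← cR _ (by decide), X, show 12 ^^^ ln 0x804020100c080201 12 = 8 by decide +kernel] at n3
  rw [← cS _ (by decide), X, show 32 ^^^ ln 0x8040302008040201 32 = 16 by decide +kernel] at n4
  rw [← cS _ (by decide), X, show 48 ^^^ ln 0x8040302008040201 48 = 32 by decide +kernel] at n5
  rw [← cR _ (by decide), ← cS _ (by decide)] at n6 n7
  have q : ∀ c < 256, qa (Aa y s c) = qa c := fun c hc => Aa_q o hW.1 hc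
  have q2 : ∀ a < 256, ∀ b < 256, qa (Aa y s a ^^^ Aa y s b) = qa (a ^^^ b) := fun a ha b hb => by
    rw [X, q _ (xor_lt ha hb)]
  have q3 : ∀ a < 256, qa (Aa y s a ^^^ 1) = qa (a ^^^ 1) := fun a ha => by
    rw [← q2 a ha 1 (by decide), hW.2.1]
  have q4 : ∀ a < 256, qa (Aa y s a ^^^ 2) = qa (a ^^^ 2) := fun a ha => by
    rw [← q2 a ha 2 (by decide), hW.2.2]
  have ok := k3 (Aa y s 4) n2 (Aa y s 8) n3 (q 4 (by decide)) (q 8 (by decide))
    (q2 4 (by decide) 8 (by decide)) (Aa y s 16) n4 (Aa y s 32) n5 (q 16 (by decide)) (q 32 (by decide))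
    (q2 16 (by decide) 32 (by decide)) (Aa y s 64) (Aa_lt _ _) 
    (n6 (congrArg _ (by decide +kernel)) (congrArg _ (by decide +kernel))) (q3 64 (by decide))
    (q4 64 (by decide)) (Aa y s 128) (Aa_lt _ _) 
    (n7 (congrArg _ (by decide +kernel)) (congrArg _ (by decide +kernel))) (q3 128 (by decide)) (q4 128 (by decide))
  have L : ∀ c < 256, l4 [1, 2, Aa y s 4, Aa y s 8, Aa y s 16, Aa y s 32, Aa y s 64, Aa y s 128] c =
      Aa y s c := fun c hc => by
    rw [Aa_lin o hW.1 hc]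
    exact lin_congr (fun b hb => by
      interval_cases b
      exacts [hW.2.1.symm, hW.2.2.symm, rfl, rfl, rfl, rfl, rfl, rfl]) c
  generalize [1, 2, Aa y s 4, Aa y s 8, Aa y s 16, Aa y s 32, Aa y s 64, Aa y s 128] = N at ok L
  have p8 : ∀ i < 8, 2 ^ i < 256 := by decide
  rcases ok (fun x hx => by rw [L x hx, q x hx])
    (fun i hi => by rw [L _ (p8 i hi), L _ (Aa_lt _ _), FF _ (p8 i hi)])
    ⟨c₀, hc₀, by rw [L _ (by omega), hq]⟩ with k | ⟨K, hK, k1, k2, k3⟩
  · refine nQ (h.fx s hs (nz o hW.1) (k.trans_le (Finset.card_le_card_of_injOn bb ?_ ?_)))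
    · intro x hx
      simp only [Finset.coe_filter, Finset.mem_range, Set.mem_setOf_eq] at hx ⊢
      exact ⟨bb_lt x, by rw [← bb_Aa, ← L x hx.1, hx.2]⟩
    · intro x hx x' hx' e
      simp only [Finset.coe_filter, Finset.mem_range, Set.mem_setOf_eq] at hx hx'
      rw [← (a1 x hx.1).1, e, (a1 x' hx'.1).1]
  · obtain ⟨W, -, hw⟩ := wk K hK
    obtain ⟨m, a⟩ := h.act_word hw
    have f : ∀ c < 256, Aa y (s * (ev t W).1) c = l4 N (ln K c) := fun c hc => by
      rw [Aa_mul o hW.1 m, a c hc, L _ (ln_lt _ _)]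
    have l : ∀ c, l4 N (ln K c) < 256 := fun c => by rw [L _ (ln_lt _ _)]; exact Aa_lt _ _
    have gQ := h.r2a (mul_mem hW.1 m) (xor_lt (by decide) (l 4)) (xor_lt (by decide) (l 8)) k2
      fun c hc h1 h2 => by rw [f c hc, k3 c hc h1 h2]
    exact k1 (by rw [← f 4 (by decide), Aa_Q o gQ (by decide)])

end Cfsg.Agent.O3R
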