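import Mathlib
import Cfsg.Agent.O3R.TA
import Cfsg.Agent.XW.G

/-!
# The conjugates of `z` in the centraliser of `W` are `3`-transpositions
-/

set_option autoImplicit false
set_option maxRecDepth 100000

namespace Cfsg.Agent.O3R

open Subgroup Cfsg.Agent.TT Cfsg.Agent.LES Cfsg.Agent.XSC Cfsg.Agent.Comp.BN Cfsg.Agent.O8C
  Cfsg.Agent.XSC.WC

def Wl (j : ℕ) : List ℕ := [[], [1, 2], [0, 1, 3], [1, 2, 0, 1, 3]].getD j []

theorem v1 : ∀ i < 4, (∀ k ∈ Wl i, k < 8) ∧ cd (Wl i) = bb i ∧ (i ≠ 0 → ty (bb i) = 3) ∧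
    ∀ j < 4, eqC val (Wl i ++ Wl j) (Wl (i ^^^ j)) = true := by decide +kernel

theorem v2a : ∀ n < 256, (∀ j < 4, par (Wl j) n = false) ↔ bi n < 64 := by decide +kernel

theorem v2b : ∀ n < 256, bi n < 64 → (∀ c ∈ [4, 8, 16, 32], par (cw (bb c)) n = false) →
    ∃ j < 4, n = bb j := by decide +kernel

theorem v2c : ∀ n < 256, bi n < 64 → ty n = 0 ∨ ty n = 4 →
    ∃ j < 4, j ≠ 0 ∧ (ty (n ^^^ bb j) = 0 ∨ ty (n ^^^ bb j) = 4) := by decide +kernel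

theorem v3 : ∀ a < 16, ∀ j < 4, (4 * a ^^^ j) / 4 = a ∧ (4 * a ^^^ j) % 4 = j := by decide

variable {G : Type*} [Group G] {y : ℕ → G} {t : ℕ → G × M3}

theorem Wl_mul (o : Orc y val) {i j : ℕ} (hi : i < 4) (hj : j < 4) :
    ev y (Wl i) * ev y (Wl j) = ev y (Wl (i ^^^ j)) := by
  rw [← ev_append]; exact o.eq ((v1 i hi).2.2.2 j hj)

theorem Wl_sq (o : Orc y val) {i : ℕ} (hi : i < 4) : ev y (Wl i) * ev y (Wl i) = 1 := by
  rw [Wl_mul o hi hi, Nat.xor_self]; rfl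

theorem Wl_Q {i : ℕ} (hi : i < 4) : ev y (Wl i) ∈ Qy y :=
  ev_memQ fun k hk => ((v1 i hi).1 k hk).trans (by decide)

theorem κ_Wl (o : Orc y val) {i : ℕ} (hi : i < 4) : κ y (ev y (Wl i)) = bb i := by
  rw [κ_ev o fun k hk => ((v1 i hi).1 k hk).trans (by decide), (v1 i hi).2.1]

/-- the four-group -/
def Ww (o : Orc y val) : Subgroup G where
  carrier := {x | ∃ j < 4, x = ev y (Wl j)}
  one_mem' := ⟨0, by decide, rfl⟩
  mul_mem' := by
    rintro _ _ ⟨i, hi, rfl⟩ ⟨j, hj, rfl⟩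
    exact ⟨_, Nat.xor_lt_two_pow (n := 2) hi hj, Wl_mul o hi hj⟩
  inv_mem' := by
    rintro _ ⟨i, hi, rfl⟩
    exact ⟨i, hi, inv_eq_of_mul_eq_one_right (Wl_sq o hi)⟩

/-- its centraliser -/
def Cw (o : Orc y val) : Subgroup G := centralizer (Ww o : Set G)

theorem mem_Cw (o : Orc y val) {g : G} : g ∈ Cw o ↔ ∀ j < 4, ev y (Wl j) * g = g * ev y (Wl j) :=
  ⟨fun h j hj => h _ ⟨j, hj, rfl⟩, fun h _ ⟨j, hj, e⟩ => e ▸ h j hj⟩

theorem Cw_Q (o : Orc y val) {a : G} (ha : a ∈ Qy y) : a ∈ Cw o ↔ bi (κ y a) < 64 := by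
  rw [mem_Cw, ← v2a _ (κ_lt a)]
  exact forall₂_congr fun j hj => comm_w o (v1 j hj).1 ha

theorem E_mem (o : Orc y val) {c : ℕ} (hc : c < 64) : ev y (cw (bb c)) ∈ Cw o := by
  rwa [Cw_Q o (cw_mem _), κ_cw o (bb_lt _), (a1 c (by omega)).1]

/-- `z` in the centraliser -/
def zc (o : Orc y val) : Cw o := ⟨y 8, (mem_Cw o).2 fun _ hj => Qz o (Wl_Q hj)⟩

namespace W3

variable (h : W3 y t)
include h

theorem nzw {j : ℕ} (hj : j < 4) (e : IsConj (y 8) (y 8 * ev y (Wl j))) : j = 0 := by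
  by_contra n
  have k : κ y (y 8 * ev y (Wl j)) = bb j := by
    rw [κ_mul h.o (q_mem (by decide)) (Wl_Q hj), κ_z h.o, κ_Wl h.o hj, Nat.zero_xor]
  have := (h.pts _ (mul_mem (q_mem (by decide)) (Wl_Q hj)) fun e => by
    have := (v1 j hj).2.2.1 n
    rw [← k, e, κ_z h.o] at this
    exact absurd this (by decide +kernel)).1 e
  rw [k, (v1 j hj).2.2.1 n] at this
  exact absurd this (by decide)

theorem mem_CW {g : G} (hg : g ∈ Cw h.o) (hz : g * y 8 = y 8 * g) : g ∈ CW h.o := by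
  have n := h.lx.mem_normalizer hz
  have k : ∀ j < 4, Aa y g j = j := fun j hj => by
    rw [Aa, ← κ_Wl h.o hj, act_fix h.o n (Wl_Q hj) ((mem_Cw h.o).1 hg j hj).symm, κ_Wl h.o hj,
      (a1 j (by omega)).1]
  exact ⟨n, k 1 (by decide), k 2 (by decide)⟩

omit h in
theorem word_mem (o : Orc y val) (hy : ∀ k < 19, (t k).1 = y k) {S : ℕ} (ov : Ov t p val3 X3.I)
    (gr : Gr (genOn t S)) {U : List ℕ}
    (e : allN (fun j => eqOn val3 S (Wl j ++ U) (U ++ Wl j)) 4 = true) : (ev t U).1 ∈ Cw o :=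
  (mem_Cw o).2 fun j hj => by
    have := congrArg Prod.fst (ov.eqOn gr ((allN_eq _ _).1 e j hj))
    rwa [ev_append, ev_append, Prod.fst_mul, Prod.fst_mul, fst_ev t (Wl j),
      ev_congr fun k hk => hy k (((v1 j hj).1 k hk).trans (by decide))] at this

variable {K : Type*} [Group K] {π : Cw h.o →* K} (hk : ∀ c, π c = 1 ↔ c.1 ∈ Ww h.o)
include hk

theorem eqπ {a b : Cw h.o} (e : π a = π b) : ∃ j < 4, b.1 = a.1 * ev y (Wl j) := by
  obtain ⟨j, hj, e1⟩ := (hk (a⁻¹ * b)).1 (by rw [map_mul, map_inv, e, inv_mul_cancel])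
  exact ⟨j, hj, by rw [← e1]; simp⟩

theorem cz {c : Cw h.o} (e : π c * π (zc h.o) = π (zc h.o) * π c) : c.1 * y 8 = y 8 * c.1 := by
  obtain ⟨j, hj, e1⟩ := h.eqπ hk (a := zc h.o) (b := c * zc h.o * c⁻¹) (by
    rw [map_mul, map_mul, e, map_inv, mul_inv_cancel_right])
  change c.1 * y 8 * c.1⁻¹ = y 8 * _ at e1
  obtain rfl := h.nzw hj (e1 ▸ isConj_iff.2 ⟨c.1, rfl⟩)
  exact comm_of_conj_eq (e1.trans (mul_one _))

theorem zK_ne : π (zc h.o) ≠ 1 := fun e => by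
  obtain ⟨j, hj, e1⟩ := (hk _).1 e
  change y 8 = _ at e1
  have := κ_Wl h.o hj
  rw [← e1, κ_z h.o] at this
  obtain rfl : j = 0 := by rw [← (a1 j (by omega)).1, ← this]; decide +kernel
  exact z_ne h.o e1

theorem κπ {a b : Cw h.o} (ha : a.1 ∈ Qy y) (e : π a = π b) :
    ∃ j < 4, b.1 = a.1 * ev y (Wl j) ∧ bi (κ y b.1) = bi (κ y a.1) ^^^ j := by
  obtain ⟨j, hj, e1⟩ := h.eqπ hk e
  exact ⟨j, hj, e1, by rw [e1, κ_mul h.o ha (Wl_Q hj), κ_Wl h.o hj, bi_xor, (a1 j (by omega)).1]⟩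

theorem xsK : XS (((Qy y).subgroupOf (Cw h.o)).map π) (π (zc h.o)) := by
  have x := xsQ h.o
  refine ⟨⟨_, q_mem (by decide), rfl⟩, h.zK_ne hk, ?_, ?_, ?_, ?_, ?_⟩
  · rw [← map_mul, ← map_one π]; exact congrArg π (Subtype.ext x.z_sq)
  · rintro _ ⟨a, ha, rfl⟩
    rw [← map_mul, ← map_mul]; exact congrArg π (Subtype.ext (x.z_comm _ ha))
  · rintro _ ⟨a, ha, rfl⟩ _ ⟨b, hb, rfl⟩
    simp only [← map_mul]
    exact (x.comm _ ha _ hb).imp (fun e => congrArg π (Subtype.ext e)) fun e => congrArg π (Subtype.ext e)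
  · rintro _ ⟨a, ha, rfl⟩ e
    obtain ⟨j, hj, e1⟩ := v2b _ (κ_lt a.1) ((Cw_Q h.o ha).1 a.2) fun c hc => by
      have l : c < 64 := by revert c; decide
      refine (comm_w h.o (cw_lt8 _) ha).1 ((x.comm _ (cw_mem _) _ ha).resolve_right fun e1 => ?_)
      have e2 := e _ ⟨⟨_, E_mem h.o l⟩, cw_mem _, rfl⟩
      rw [← map_mul, ← map_mul, show ⟨_, E_mem h.o l⟩ * a = a * ⟨_, E_mem h.o l⟩ * zc h.o from
        Subtype.ext e1, map_mul π (_ * _), left_eq_mul] at e2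
      exact h.zK_ne hk e2
    rcases eqv_of_κ h.o ha (Wl_Q hj) (e1.trans (κ_Wl h.o hj).symm) with e | e
    · exact Or.inl ((hk a).2 ⟨j, hj, e⟩)
    · refine Or.inr (mul_inv_eq_one.1 ?_)
      rw [← map_inv, ← map_mul]
      exact (hk _).2 ⟨j, hj, mul_inv_eq_of_eq_mul e⟩
  · refine ⟨_, ⟨⟨_, E_mem h.o (c := 4) (by decide)⟩, cw_mem _, rfl⟩, fun e => ?_, fun e => ?_⟩
    · obtain ⟨j, hj, -, e1⟩ := h.κπ hk (one_mem _) ((map_one π).trans e.symm)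
      rw [κ_cw h.o (bb_lt _), OneMemClass.coe_one, κ_one h.o] at e1
      revert j; decide +kernel
    · obtain ⟨j, hj, -, e1⟩ := h.κπ hk (q_mem (by decide)) e.symm
      rw [κ_cw h.o (bb_lt _), show (zc h.o).1 = y 8 from rfl, κ_z h.o] at e1
      revert j; decide +kernel

variable [Finite G] (hs : Function.Surjective π)
include hs

theorem lxK : LX (((Qy y).subgroupOf (Cw h.o)).map π) (π (zc h.o)) := by
  refine ⟨h.xsK hk, fun c e => ?_, fun c e => ?_⟩ <;> obtain ⟨c, rfl⟩ := hs c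
  · have m := h.mem_CW c.2 (h.cz hk (e _ (h.xsK hk).z_mem).symm)
    refine ⟨c, h.memU m fun n hn => ?_, rfl⟩
    have l : 4 * n < 64 := by omega
    obtain ⟨j, hj, -, e1⟩ := h.κπ hk (a := ⟨_, E_mem h.o l⟩) (b := c * ⟨_, E_mem h.o l⟩ * c⁻¹)
      (cw_mem _) (by rw [map_mul, map_mul, ← e _ ⟨_, cw_mem _, rfl⟩, map_inv, mul_inv_cancel_right])
    rw [κ_cw h.o (bb_lt _), (a1 _ (by omega)).1] at e1
    exact (congrArg (· / 4) e1).trans (v3 n hn j hj).1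
  · rintro _ ⟨a, ha, rfl⟩
    exact ⟨c * a * c⁻¹, h.lx.norm _ (h.cz hk e) _ ha, by simp⟩

theorem o2K : XW.WS (π (zc h.o)) ∧ O2C (π (zc h.o)) = ((Qy y).subgroupOf (Cw h.o)).map π ∧
    Nat.card (O2C (π (zc h.o))) < 2 ^ 9 := by
  have := Fact.mk Nat.prime_two
  have := Finite.of_surjective π hs
  have lx := h.lxK hk hs
  have e : O2C (π (zc h.o)) = ((Qy y).subgroupOf (Cw h.o)).map π := by
    refine le_antisymm (fun x hx => ?_) (le_O2C lx.isPGroup lx.z_comm lx.norm)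
    obtain ⟨c, rfl⟩ := hs x
    have n : ∀ U, allN (fun j => eqOn val3 1835007 (Wl j ++ U) (U ++ Wl j)) 4 = true →
        eqOn val3 1835007 (U ++ [8]) ([8] ++ U) = true →
        ∀ a ∈ ((O2C (π (zc h.o))).comap π).map (Cw h.o).subtype, (ev t U).1 * a * (ev t U).1⁻¹ ∈
          ((O2C (π (zc h.o))).comap π).map (Cw h.o).subtype := by
      rintro U e1 e2 _ ⟨a, ha, rfl⟩
      have m := word_mem h.o h.hy h.st.toOv h.st.gr.2.1 e1
      refine ⟨⟨_, m⟩ * a * ⟨_, m⟩⁻¹, ?_, rfl⟩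
      rw [SetLike.mem_coe, mem_comap, map_mul, map_mul, map_inv]
      refine conj_mem_O2C ha ?_
      rw [← map_mul, ← map_mul]
      exact congrArg π (Subtype.ext (by simpa [h.hy, zc] using h.eqC0 e2))
    refine ⟨c, h.le_Q (P := ((O2C (π (zc h.o))).comap π).map (Cw h.o).subtype)
      (((O2C_isPGroup _).comap_of_ker_isPGroup π fun a => ⟨1, ?_⟩).map _) ?_
      (n _ (by decide +kernel) (by decide +kernel)) (n _ (by decide +kernel) (by decide +kernel))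
      ⟨c, hx, rfl⟩, rfl⟩
    · obtain ⟨j, hj, e⟩ := (hk _).1 a.2
      exact Subtype.ext (Subtype.ext (by simpa [pow_two, e] using Wl_sq h.o hj))
    · rintro _ ⟨a, ha, rfl⟩
      exact h.mem_CW a.2 (h.cz hk (comm_of_mem_O2C ha))
  rw [e]
  refine ⟨⟨e ▸ ⟨lx, ?_⟩, e ▸ ?_⟩, rfl, ?_⟩
  · rintro _ ⟨a, ha, rfl⟩ e1
    obtain ⟨c, e1⟩ := isConj_iff.1 e1
    obtain ⟨c, rfl⟩ := hs c
    rw [← map_inv, ← map_mul, ← map_mul] at e1
    obtain ⟨j, hj, e2⟩ := h.eqπ hk e1.symm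
    have m : (c * zc h.o * c⁻¹).1 ∈ Qy y := e2 ▸ mul_mem ha (Wl_Q hj)
    rw [← e1]
    refine congrArg π (Subtype.ext (by_contra fun n => ?_))
    obtain ⟨i, hi, i0, e3⟩ := v2c _ (κ_lt _) ((Cw_Q h.o m).1 (c * zc h.o * c⁻¹).2)
      ((h.pts _ m n).1 (isConj_iff.2 ⟨c.1, rfl⟩))
    rw [← κ_Wl h.o hi, ← κ_mul h.o m (Wl_Q hi)] at e3
    refine i0 (h.nzw hi (((h.pts _ (mul_mem m (Wl_Q hi)) fun e4 => ?_).2 e3).trans
      (isConj_iff.2 ⟨c.1⁻¹, ?_⟩)))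
    · rw [e4, κ_z h.o] at e3
      exact absurd e3 (by decide +kernel)
    · change c.1⁻¹ * (c.1 * y 8 * c.1⁻¹ * _) * _ = _
      rw [mul_assoc (c.1 * _), ← (mem_Cw h.o).1 (inv_mem c.2) i hi]
      group
  · have l : ∀ n : Fin 16, 4 * n.1 < 64 := fun n => by omega
    let f : Fin 16 × Bool → Cw h.o := fun n => ⟨_, E_mem h.o (l n.1)⟩ * if n.2 then zc h.o else 1
    have f1 : ∀ n, (f n).1 ∈ Qy y ∧ bi (κ y (f n).1) = 4 * n.1.1 := fun ⟨n, b⟩ => by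
      have e := (a1 (4 * n.1) (by omega)).1
      cases b
      · simpa [f, κ_cw h.o (bb_lt _), e] using cw_mem _
      · refine ⟨mul_mem (cw_mem _) (q_mem (by decide)), ?_⟩
        rw [← e, ← κ_cw h.o (bb_lt (4 * n.1))]
        exact congrArg bi (κ_of_eqv h.o (cw_mem _) (Or.inr rfl))
    refine le_trans (by simp) (Nat.card_le_card_of_injective (fun n => (⟨_, f n, (f1 n).1, rfl⟩ :
      ((Qy y).subgroupOf (Cw h.o)).map π)) fun a b e1 => ?_)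
    replace e1 : π (f a) = π (f b) := congrArg Subtype.val e1
    obtain ⟨j, hj, -, e2⟩ := h.κπ hk (f1 a).1 e1
    have e3 : a.1 = b.1 := Fin.ext (by
      rw [← (v3 _ a.1.2 j hj).1, ← (f1 a).2, ← e2, (f1 b).2]; omega)
    obtain ⟨a, α⟩ := a
    obtain ⟨b, β⟩ := b
    obtain rfl : a = b := e3
    simp only [f, map_mul, mul_right_inj] at e1
    cases α <;> cases β <;> first
      | rfl | exact absurd (by simpa using e1) (h.zK_ne hk) | exact absurd (by simpa using e1.symm) (h.zK_ne hk)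
  · refine (Nat.card_le_card_of_surjective _ (π.subgroupMap_surjective _)).trans_lt ?_
    rw [← card_Q h.o, ← inf_subgroupOf_right, Nat.card_congr (subgroupOfEquivOfLe inf_le_right).toEquiv]
    refine (card_le_of_le inf_le_left).lt_of_ne fun e => ?_
    have := (eq_of_le_of_card_ge inf_le_left e.ge).ge (cw_mem (bb 64))
    have := (Cw_Q h.o this.1).1 this.2
    rw [κ_cw h.o (bb_lt _)] at this
    exact absurd this (by decide +kernel)

theorem atK : XW.AT (π (zc h.o)) := by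
  have := Finite.of_surjective π hs
  obtain ⟨ws, e, l⟩ := h.o2K hk hs
  refine ⟨ws, fun s hp => hp.tri.resolve_right ?_⟩
  rintro (k | k)
  · exact l.ne k.card
  obtain ⟨x, hx, e1⟩ := k.c1
  obtain ⟨c, rfl⟩ := isConj_iff.1 k.conj
  obtain ⟨c, rfl⟩ := hs c
  rw [e] at hx
  obtain ⟨x, hx, rfl⟩ := hx
  replace hx : x.1 ∈ Qy y := hx
  have c1 := k.comm
  rw [← map_inv, ← map_mul, ← map_mul] at c1 e1
  have c2 : IsConj (y 8) (c * zc h.o * c⁻¹).1 := isConj_iff.2 ⟨c.1, rfl⟩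
  have c3 : (c * zc h.o * c⁻¹).1 * (c * zc h.o * c⁻¹).1 = 1 := by
    change c.1 * y 8 * c.1⁻¹ * (c.1 * y 8 * c.1⁻¹) = 1
    rw [conj_mul, zz h.o]; group
  generalize c * zc h.o * c⁻¹ = s at *
  have m := h.mem_CW s.2 (h.cz hk c1)
  have k1 := h.alt c2 m _ ((Cw_Q h.o hx).1 x.2)
  have m1 := cjQ m.1 (inv_mem hx)
  have k2 : κ y x.1⁻¹ = κ y x.1 := by
    have := κ_mul h.o (inv_mem hx) hx
    rw [inv_mul_cancel, κ_one h.o] at this
    exact Nat.xor_eq_zero_iff.1 this.symm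
  rw [← (a1 _ (xor_lt (bi_lt _) (Aa_lt _ _))).2.2, bb_xor, bb_Aa, (a1 _ (κ_lt _)).2.1,
    ← congrArg (act y s.1) k2, ← κ_conj h.o m.1 (inv_mem hx), ← κ_mul h.o hx m1,
    ← sq_iff h.o (mul_mem hx m1), inv_eq_of_mul_eq_one_right c3] at k1
  refine h.zK_ne hk ?_
  rw [← e1, uu, ← map_inv, ← map_mul, ← map_mul, ← map_mul, ← map_mul, ← map_one π]
  exact congrArg π (Subtype.ext (by simpa [mul_assoc] using k1))

omit hk hs in
theorem tt {c : G} (hc : c ∈ Cw h.o) {q : G} (hq : q ∈ Cw h.o) (q1 : q * y 8 * q⁻¹ = y 11) :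
    (c * y 8 * c⁻¹ * y 8) ^ 2 = 1 ∨ (c * y 8 * c⁻¹ * y 8) ^ 3 = 1 := by
  have : ((Ww h.o).subgroupOf (Cw h.o)).Normal := ⟨fun a ha g => by
    rw [mem_subgroupOf] at *
    rwa [show (g * a * g⁻¹).1 = a.1 from conj_eq_of_comm (g.2 _ ha).symm]⟩
  let π := QuotientGroup.mk' ((Ww h.o).subgroupOf (Cw h.o))
  have hk : ∀ c, π c = 1 ↔ c.1 ∈ Ww h.o := fun c => QuotientGroup.eq_one_iff c
  have a := h.atK hk (QuotientGroup.mk'_surjective _)
  have cj : ∀ g, IsConj (π (zc h.o)) (π (g * zc h.o * g⁻¹)) := fun g =>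
    isConj_iff.2 ⟨π g, by simp⟩
  have t2 := a.mk1 (cj ⟨q, hq⟩) (fun e => by
    obtain ⟨j, hj, e1⟩ := h.eqπ hk e.symm
    have e2 : y 11 ∈ Qy y := q1 ▸ (show q * y 8 * q⁻¹ = _ from e1) ▸ mul_mem (q_mem (by decide)) (Wl_Q hj)
    have := act_l h.o (k := 11) (n := 128) (by decide) (by decide)
    rw [act_Q h.o e2 (by decide)] at this
    exact absurd this (by decide +kernel)) (by
    rw [← map_mul, ← map_mul]
    exact congrArg π (Subtype.ext (by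
      change q * y 8 * q⁻¹ * y 8 = y 8 * (q * y 8 * q⁻¹)
      rw [q1]; exact lz h.o (by decide))))
  have zz := zz h.o
  have ss : c * y 8 * c⁻¹ * (c * y 8 * c⁻¹) = 1 := by rw [conj_mul, zz]; group
  rcases (a.isTT t2).tt.2 _ (cj ⟨c, hc⟩) _ (IsConj.refl _) with e | e
  · have := h.cz hk (c := ⟨c, hc⟩ * zc h.o * ⟨c, hc⟩⁻¹) (by
      rw [← inv_eq_of_mul_eq_one_right ((sq _).symm.trans e), mul_inv_rev,
        inv_eq_of_mul_eq_one_right (a.ws.sq (cj _)), inv_eq_of_mul_eq_one_right a.ws.zz])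
    change c * y 8 * c⁻¹ * y 8 = y 8 * (c * y 8 * c⁻¹) at this
    left
    rw [sq]
    nth_rewrite 2 [this]
    rw [mul_assoc, ← mul_assoc (y 8), zz, one_mul, ss]
  · rw [← map_mul, ← map_pow] at e
    obtain ⟨j, hj, e1⟩ := (hk _).1 e
    change (c * y 8 * c⁻¹ * y 8) ^ 3 = _ at e1
    obtain rfl := h.nzw hj ((isConj_iff.2 ⟨c, rfl⟩ : IsConj (y 8) _).trans
      (isConj_iff.2 ⟨y 8 * (c * y 8 * c⁻¹) * y 8, by
        rw [← e1, mul_inv_rev, mul_inv_rev, inv_eq_of_mul_eq_one_right ss,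
          inv_eq_of_mul_eq_one_right zz, pow_three]
        simp only [mul_assoc]⟩))
    exact Or.inr e1

end W3

end Cfsg.Agent.O3R
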