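import Cfsg.Agent.O3R.MoF
import Cfsg.Agent.TT.O2C

/-!
# A normal `2`-subgroup of the centraliser in an overgroup normalising `Ω₈⁺(2)`
-/

set_option autoImplicit false
set_option maxRecDepth 100000

namespace Cfsg.Agent.O3R

open Subgroup Cfsg.Agent.TT Cfsg.Agent.LES Cfsg.Agent.XSC Cfsg.Agent.Comp.BN Cfsg.Agent.O8C

variable {K : Type*} [Group K] [Finite K] {y : ℕ → K} {H : Subgroup K} {θ : Mo →* K}

theorem rd1 : ∀ n < 256, n ≠ 0 → ∃ W ∈ [[], [9], [10], [11], [9, 10], [9, 11], [10, 11], [9, 10, 11]],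
    W.foldr (fun k a => a ^^^ lin (LM k) a) n = 1 := by decide +kernel

theorem rd2 : ∀ i < 8, ∃ a < 6, ∃ b < 6, ∃ c < 6, wact (tw a b c) 1 = 2 ^ i := by decide +kernel

theorem rd3 : allN (fun a => allN (fun b => allN (fun c => decide ((∀ i ∈ [0, 1, 2, 4],
    wact (tw a b c) (2 ^ i) = 2 ^ i) → a = 0 ∧ b = 0 ∧ c = 0)) 6) 6) 6 = true := by decide +kernel

theorem rd4 : allL (fun V => bor (bor (anyL (fun e => ncomC val V [e]) [0, 1, 2, 4])
    (bor (eqC val V []) (eqC val V [0]))) (bor (neC val (18 :: appendL V (18 :: V)) [])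
      (neC val (18 :: appendL V (7 :: 18 :: appendL V (7 :: 18 :: appendL V [7]))) []))) (nfL [8] Ql) = true := by
  decide +kernel

theorem rd5 : eqC val [18, 7, 18, 7, 18, 7] [] = true := by decide +kernel

/-- the centraliser is irreducible on `Q / ⟨z⟩` -/
theorem irr (o : Orc y val) {B : Subgroup K} (hB : ∀ c, c * y 8 = y 8 * c → ∀ a ∈ B, c * a * c⁻¹ ∈ B)
    {a : K} (ha : a ∈ B) (hq : a ∈ Qy y) (h0 : κ y a ≠ 0) : Qy y ≤ B := by
  have hz : y 8 ∈ B := by
    obtain ⟨q, m, e⟩ := (xsQ o).exists_conj_eq hq (fun e => h0 (e ▸ κ_one o)) fun e => h0 (e ▸ κ_z o)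
    exact (mul_mem_cancel_left ha).1 (e ▸ hB q (Qz o m) a ha)
  have h1 : ∀ k < 18, ∀ n < 256, ev y (cw n) ∈ B → lin (LM k) n < 256 ∧ ev y (cw (lin (LM k) n)) ∈ B :=
    fun k hk n hn m => act_l o hk hn ▸ ⟨act_lt _ _,
      ((act_spec o (l_norm o hk) n).symm (zz o)).mem hz (hB _ (lz o hk) _ m)⟩
  have h2 : ∀ W : List ℕ, (∀ k ∈ W, k < 18) → ∀ n < 256, ev y (cw n) ∈ B → W.foldr (fun k a => a ^^^ lin (LM k) a) n < 256 ∧
      ev y (cw (W.foldr (fun k a => a ^^^ lin (LM k) a) n)) ∈ B := fun W hW n hn m => by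
    induction W with
    | nil => exact ⟨hn, m⟩
    | cons k W ih =>
      obtain ⟨l, m⟩ := ih fun j hj => hW j (List.mem_cons_of_mem _ hj)
      obtain ⟨l', m'⟩ := h1 k (hW k List.mem_cons_self) _ l m
      exact ⟨xor_lt l l', ((cw_xor o l l').symm (zz o)).mem hz (mul_mem m m')⟩
  obtain ⟨W, hW, e⟩ := rd1 _ (κ_lt a) h0
  have h3 := e ▸ (h2 W (by clear e; revert W; decide) _ (κ_lt a) (((κ_spec o hq).symm (zz o)).mem hz ha)).2
  refine genW_le fun W hW => ?_
  rcases List.mem_cons.1 hW with rfl | hW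
  · simpa using hz
  obtain ⟨b, hb, rfl⟩ : ∃ b < 8, W = [b] := by revert W; decide
  obtain ⟨i, hi, j, hj, k, hk, e⟩ := rd2 b hb
  have l := tw_lt i hi j hj k hk
  have := ((act_spec o (w_norm o l) 1).symm (zz o)).mem hz (hB _ (evz o l) _ h3)
  rwa [act_w o l (by decide), e, show cw (2 ^ b) = [b] by interval_cases b <;> decide] at this

omit [Finite K] in
theorem three {r c z : K} (hz : z * z = 1) (h1 : z ≠ 1) (hc : c * z = z * c) (h3 : c ^ 3 = 1)
    (h : r * c * r⁻¹ * c⁻¹ = 1 ∨ r * c * r⁻¹ * c⁻¹ = z) : r * c = c * r := by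
  refine comm_of_conj_eq (mul_inv_eq_one.1 (h.resolve_right fun e => h1 ?_))
  have := conj_pow (i := 3) (a := r) (b := c)
  rwa [mul_inv_eq_iff_eq_mul.1 e, Commute.mul_pow hc.symm, h3, pow_succ, pow_two, hz, mul_one, mul_one,
    one_mul, mul_inv_cancel] at this

/-- `H` normalises the image of `θ` and acts faithfully on it -/
structure Cx (H : Subgroup K) (θ : Mo →* K) : Prop where
  inj : Function.Injective θ
  le : ∀ g, θ g ∈ H
  norm : ∀ h ∈ H, ∀ g, ∃ g', h * θ g * h⁻¹ = θ g'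
  cent : ∀ h ∈ H, (∀ g, h * θ g = θ g * h) → h = 1

omit [Finite K] in
theorem orc_of (h : Function.Injective θ) : Orc (fun k => θ (m k)) val := fun U V => by
  rw [← map_ev, ← map_ev, h.eq_iff, orc]

omit [Finite K] in
theorem map_Q {g : Mo} (hg : g ∈ Qy m) : θ g ∈ Qy fun k => θ (m k) := by
  rw [Qy, ← map_genW]; exact mem_map_of_mem θ hg

namespace Cx

variable (h : Cx H θ)
include h

/-- an element centralising `Q` and the elements of order three -/
theorem mem_Q {c : K} (hc : c ∈ H) (h1 : ∀ k < 9, c * θ (m k) = θ (m k) * c)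
    (h2 : ∀ i : Fin 3, c * θ (m (12 + 2 * i)) = θ (m (12 + 2 * i)) * c) : c = 1 ∨ c = θ (m 8) := by
  have o := orc_of h.inj
  have k : ∀ c ∈ H, (∀ k < 9, c * θ (m k) = θ (m k) * c) →
      (∀ i : Fin 3, c * θ (m (12 + 2 * i)) = θ (m (12 + 2 * i)) * c) → c * θ (m 18) = θ (m 18) * c → c = 1 :=
    fun c hc h1 h2 h3 => h.cent c hc fun g => by
      let C := (centralizer {c}).comap θ
      have a : ∀ {k}, c * θ (m k) = θ (m k) * c → m k ∈ C := fun e => mem_centralizer_singleton_iff.2 e.symm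
      have b : ∀ b < 9, ∀ k, ev m [18, b, 18] = ev m [b, k] → m k ∈ C := fun b hb k e => by
        have := mul_mem (a h3) (mul_mem (a (h1 b hb)) (a h3))
        rw [show m 18 * (m b * m 18) = m b * m k by simpa using e] at this
        exact (mul_mem_cancel_left (a (h1 b hb))).1 this
      have i : ∀ k, m k ∈ C → m (X.I k) ∈ C := fun k e => eq_inv_of_mul_eq_one_left (m_inv k) ▸ inv_mem e
      refine (mem_centralizer_singleton_iff.1 ((eq_top_of (K := C) fun k => ?_).ge (mem_top g))).symm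
      by_cases h9 : k < 9
      · exact a (h1 k h9)
      by_cases h19 : 19 ≤ k
      · rw [m, cut_le _ h19]; exact one_mem _
      interval_cases k
      exacts [b 6 (by decide) _ (xr orc (p := (_, _)) (by simp)), b 5 (by decide) _ (xr orc (p := (_, _)) (by simp)),
        b 3 (by decide) _ (xr orc (p := (_, _)) (by simp)), a (h2 0), i 12 (a (h2 0)), a (h2 1), i 14 (a (h2 1)),
        a (h2 2), i 16 (a (h2 2)), a h3]
  obtain ⟨g, e⟩ := h.norm c hc (m 18)
  have cq : ∀ a ∈ Qy m, c * θ a = θ a * c := fun a ha => (mem_centralizer_singleton_iff.1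
    (genW_le (H := (centralizer {c}).comap θ) (fun W hW => ev_mem_of fun k hk =>
      mem_centralizer_singleton_iff.2 (h1 k (by revert k W; decide)).symm) ha)).symm
  have cx : ∀ a ∈ Qy m, m 18 * a * (m 18)⁻¹ ∈ Qy m → m 18 * g * a = a * (m 18 * g) := fun a ha hb => by
    have : g * a * g⁻¹ = m 18 * a * (m 18)⁻¹ := h.inj (by
      rw [← conj_eq_of_comm (cq _ hb), map_mul, map_mul, map_mul, map_mul, map_inv, map_inv, ← e]
      calc _ = c * θ (m 18) * (c⁻¹ * θ a * c) * (θ (m 18))⁻¹ * c⁻¹ := by group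
        _ = _ := by rw [mul_assoc c⁻¹, ← cq a ha]; group)
    rw [mul_assoc, mul_inv_eq_iff_eq_mul.1 this, ← mul_assoc, ← mul_assoc, ← mul_assoc, xx orc, x_inv orc]
    group
  have cb : ∀ b ∈ [0, 1, 2, 4], m 18 * g * m b = m b * (m 18 * g) := fun b hb => by
    have l : b < 9 := by revert b; decide
    refine cx _ (q_mem l) ?_
    have : ev m [18, b, 18] = ev m [b] := xr orc (p := (_, _)) (by revert b; decide)
    rw [x_inv orc, show m 18 * m b * m 18 = m b by simpa [mul_assoc] using this]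
    exact q_mem l
  obtain ⟨δ, hδ, i, hi, j, hj, l, hl, f⟩ := C_nf (cx _ (q_mem (by decide))
    (xzx orc ▸ mul_mem (q_mem (by decide)) (q_mem (by decide))))
  have := rd3
  simp only [allN_eq, decide_eq_true_eq] at this
  obtain ⟨rfl, rfl, rfl⟩ := this i hi j hj l hl fun b hb => by
    have l8 : b < 8 := by revert b; decide
    rw [← act_nf orc hδ (tw_lt i hi j hj l hl) (Nat.pow_lt_pow_right (by decide) l8), ← f,
      act_of_comm orc l8 (cb b hb)]
  obtain ⟨V, hV, v⟩ := (xgQ orc).nf hδ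
  replace v : ev m V = m 18 * g := by simpa [f, tw, t6] using v
  have gv : g = m 18 * ev m V := by rw [v, ← mul_assoc, xx orc, one_mul]
  have t := (allL_eq _ _).1 rd4 V hV
  simp only [bor_eq, anyL_eq, appendL_eq] at t
  rcases t with (⟨b, hb, t⟩ | t | t) | t | t
  · exact absurd (by simpa [ev_app, v] using cb b hb) (orc.ne t)
  · left
    refine k c hc h1 h2 (comm_of_conj_eq ?_)
    rw [e, gv, orc.eq t]; simp
  · right
    have z2 := zz o
    refine (mul_left_cancel (a := θ (m 8)) (z2.trans (k _ (mul_mem (h.le _) hc) (fun k hk => ?_)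
      (fun i => ?_) (comm_of_conj_eq ?_)).symm)).symm
    · exact comm_mul_left (Qz o (q_mem hk)).symm (h1 k hk)
    · exact comm_mul_left (lz o (by omega)).symm (h2 i)
    · rw [show θ (m 8) * c * θ (m 18) * (θ (m 8) * c)⁻¹ = θ (m 8) * (c * θ (m 18) * c⁻¹) * (θ (m 8))⁻¹ by group,
        e, ← map_inv, ← map_mul, ← map_mul, gv, orc.eq t, inv_eq_of_mul_eq_one_right (zz orc)]
      exact congrArg θ (by simpa [mul_assoc] using orc.eq (U := [8, 18, 0, 8]) (V := [18]) (by decide +kernel))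
  · refine absurd (h.inj ?_) (orc.ne t)
    simp only [ev_cons, ev_append, ← mul_assoc, ← gv]
    rw [map_mul, ← e, conj_mul, xx o]; simp
  · refine absurd (h.inj ?_) (orc.ne t)
    have : θ g * θ (m 7) = c * (θ (m 18) * θ (m 7)) * c⁻¹ := by
      rw [← conj_mul, e, conj_eq_of_comm (h1 7 (by decide))]
    calc _ = (θ g * θ (m 7)) ^ 3 := by simp [gv, ev_append, pow_succ, mul_assoc]
      _ = _ := by
        rw [this, conj_pow, show (θ (m 18) * θ (m 7)) ^ 3 = 1 by simpa [pow_succ, mul_assoc] using o.eq rd5]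
        simp

theorem eq_Q {P : Subgroup K} (hP : IsPGroup 2 P) (le : P ≤ H) (h1 : ∀ a ∈ P, a * θ (m 8) = θ (m 8) * a)
    (h2 : ∀ c, c * θ (m 8) = θ (m 8) * c → ∀ a ∈ P, c * a * c⁻¹ ∈ P)
    (h3 : ∀ c, (∀ a ∈ P, a * c = c * a) → c ∈ P) : P = Qy fun k => θ (m k) := by
  have o := orc_of h.inj
  have a1 : ∀ g, θ g ∈ P → θ g ∈ Qy fun k => θ (m k) := fun g hg => map_Q
    (le_Q0 (hP.comap_of_injective θ h.inj) (fun a ha => h.inj (by simpa using h1 _ ha))
      (fun c hc a ha => by simpa using h2 _ (by simpa using congrArg θ hc) _ ha) hg)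
  have a2 : ∀ r ∈ P, ∀ g, θ g * θ (m 8) = θ (m 8) * θ g → r * θ g * r⁻¹ * (θ g)⁻¹ ∈ P ∧
      r * θ g * r⁻¹ * (θ g)⁻¹ ∈ Qy fun k => θ (m k) := fun r hr g hg => by
    have m : r * θ g * r⁻¹ * (θ g)⁻¹ ∈ P := by simpa [mul_assoc] using mul_mem hr (h2 _ hg _ (inv_mem hr))
    obtain ⟨g', e⟩ := h.norm r (le hr) g
    rw [e, ← map_inv, ← map_mul] at m ⊢
    exact ⟨m, a1 _ m⟩
  have c3 : ∀ i : Fin 3, θ (m (12 + 2 * i)) ^ 3 = 1 := fun i => by rw [← map_pow, cube_m, map_one]
  have a3 : (Qy fun k => θ (m k)) ≤ P := by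
    by_contra n
    have := a1 _ (h3 _ fun r hr => three (zz o) (z_ne o) (lz o (by decide)) (c3 0) (κ_zero o
      (a2 r hr _ (lz o (by decide))).2 (by_contra fun e => n (irr o h2 (a2 r hr _ (lz o (by decide))).1
        (a2 r hr _ (lz o (by decide))).2 e))))
    exact absurd ((act_l o (k := 12) (n := 1) (by decide) (by decide)).symm.trans (act_Q o this (by decide)))
      (by decide +kernel)
  refine le_antisymm (fun r hr => ?_) a3
  have rn : ∀ r ∈ P, r ∈ normalizer ((Qy fun k => θ (m k) : Subgroup K) : Set K) := fun r hr =>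
    mem_normalizer_fintype fun a ha => by
      obtain ⟨g, -, rfl⟩ : a ∈ (Qy m).map θ := by rwa [Qy, map_genW]
      exact (mul_mem_cancel_right (inv_mem ha)).1 (a2 r hr g (Qz o ha)).2
  have n := rn r hr
  have a4 : ∀ W : List ℕ, (∀ k ∈ W, k < 18) → act (fun k => θ (m k)) r (wact W 1) =
      wact W (act (fun k => θ (m k)) r 1) := fun W hW => by
    have w := w_norm o hW
    have q := (a2 r hr (ev m W) (by rw [map_ev]; exact evz o hW)).2
    rw [map_ev] at q
    rw [← act_w o hW (by decide), ← act_w o hW (act_lt _ _), ← act_mul o n w, ← act_mul o w n,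
      ← act_Q o q (act_lt (_ * r) 1), ← act_mul o (le_normalizer q) (mul_mem w n)]
    congr 1; group
  have a5 : act (fun k => θ (m k)) r 1 = 1 := by
    rcases s3 _ (act_lt (y := fun k => θ (m k)) r 1) with e | e | ⟨k, hk, e⟩
    · have := act_inv o n (n := 1) (by decide)
      rw [e, act_zero o] at this
      exact absurd this (by decide)
    · exact e
    · refine absurd ((a4 [k] (by simp; omega)).symm.trans ?_) e
      rw [show wact [k] 1 = 1 by clear * - hk; revert k; decide +kernel]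
  obtain ⟨q, hq, e⟩ := (xsQ o).exists_inner (MulAut.conj r).toMonoidHom (conj_eq_of_comm (h1 r hr))
    (triv_of_act o n fun b hb => by
      obtain ⟨i, hi, j, hj, k, hk, e⟩ := rd2 b hb
      rw [← e, a4 _ (tw_lt i hi j hj k hk), a5])
  have cP : q⁻¹ * r ∈ P := mul_mem (inv_mem (a3 hq)) hr
  have cq : ∀ a ∈ Qy fun k => θ (m k), q⁻¹ * r * a = a * (q⁻¹ * r) := fun a ha => by
    have e' : r * a * r⁻¹ = q * a * q⁻¹ := e a ha
    calc _ = q⁻¹ * (r * a * r⁻¹) * r := by group
      _ = _ := by rw [e']; group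
  generalize hc : q⁻¹ * r = c at cP cq
  refine (mul_mem_cancel_left (inv_mem hq)).1 (hc ▸ ?_)
  rcases h.mem_Q (le cP) (fun k hk => cq _ (q_mem hk)) fun i => three (zz o) (z_ne o) (lz o (by omega)) (c3 i)
    ((xsQ o).cent _ (a2 c cP _ (lz o (by omega))).2 fun a ha => by
      have d := cjQ (inv_mem (l_norm o (k := 12 + 2 * i) (by omega))) ha
      calc _ = c * θ (m (12 + 2 * i)) * (c⁻¹ * ((θ (m (12 + 2 * i)))⁻¹ * a * (θ (m (12 + 2 * i)))⁻¹⁻¹)) *
          (θ (m (12 + 2 * i)))⁻¹ := by group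
        _ = c * a * θ (m (12 + 2 * i)) * c⁻¹ * (θ (m (12 + 2 * i)))⁻¹ := by
          rw [comm_inv_left (cq _ d)]; group
        _ = _ := by rw [cq a ha]; group) with rfl | rfl
  exacts [one_mem _, q_mem (by decide)]

end Cx

end Cfsg.Agent.O3R
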