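import Mathlib
import Cfsg.Agent.O3R.W3
import Cfsg.Agent.O3R.AU
import Cfsg.Agent.O83.Cls

/-!
# The embedding of `PΩ₈⁺(3)`
-/

set_option autoImplicit false
set_option maxRecDepth 100000

namespace Cfsg.Agent.O3R

open Subgroup Cfsg.Agent.TT Cfsg.Agent.LES Cfsg.Agent.XSC Cfsg.Agent.Comp.BN Cfsg.Agent.O8C

def wsU : List (List ℕ) := wsF ++ [[9, 19]]
def wA : List ℕ := [20, 17, 11]
def wK : List ℕ := [18, 15, 13, 18, 4, 7, 18, 12, 14, 18]
noncomputable def r4 : List ℕ := powW [8, 0, 5, 7, 1, 3, 6, 0, 7, 2, 6, 3, 1, 7] 4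

theorem u1 : satC val3 X3.I [787072, 524287, 1835007] [subst wsU r4] PU wsU
    (List.replicate PU.rels.length []) = true := by decide +kernel

theorem u2 : eqOn val3 1835007 (subst wsU [8, 0, 5]) wA = true ∧
    eqOn val3 524287 (subst wsU [7, 1, 3, 6, 0, 7, 2, 6, 3, 1, 7]) wK = true ∧
    eqC val3 (subst wsU r4) [] = true ∧
    subWC val3 X3.I [787072, 524287, 1835007] 2097151 21 wsU (Uf ++ [[0, 8], [8, 0]]) = true := by
  decide +kernel

variable {G : Type*} [Group G] [Finite G] {y : ℕ → G} {t : ℕ → G × M3}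

theorem W3.theta (h : W3 y t) (e : ((ev t wA).1 * (ev t wK).1) ^ 4 = 1) :
    ∃ θ : M3 →* G, Function.Injective θ ∧ ∀ k < 21, θ (p k) = (t k).1 := by
  have o := h.stP
  have k1 : ev t (subst wsU r4) = 1 := Prod.ext (by
    rw [r4, ev_subst, ev_powW, show [8, 0, 5, 7, 1, 3, 6, 0, 7, 2, 6, 3, 1, 7] =
      [8, 0, 5] ++ [7, 1, 3, 6, 0, 7, 2, 6, 3, 1, 7] from rfl, ev_append, ← ev_subst, ← ev_subst,
      o.toOv.eqOn o.gr.2.2.1 u2.1, o.toOv.eqOn o.gr.2.1 u2.2.1]
    exact e) (o.toOv.snd_eq u2.2.2.1)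
  have hs := (o.addK k1).sat u1
  have hL : genW (subT t wsU) [[0], [1], [2], [3], [4], [5], [6], [7]] ≤ genOn t 524287 :=
    genW_le fun V hV => by rw [← ev_subst]; exact ev_mem_genOn (by revert V; decide +kernel)
  have hc : Nat.card (genOn t 524287) ≤ 174182400 := by
    obtain ⟨ι, -, hp⟩ := exists_ι
    have h1 : ∀ γ ∈ genOn t 524287, γ.2 ∈ ι.range := fun γ hγ =>
      (genOn_le (H := ι.range.comap (MonoidHom.snd G M3)) (fun k hk => ⟨m k, by
        rw [hp k (by simpa using (testBit_ones 19 k).symm.trans hk)]; exact (o.snd k).symm⟩) hγ)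
    rw [← card_Mo]
    refine le_trans (Nat.card_le_card_of_injective (fun γ : genOn t 524287 => (⟨_, h1 _ γ.2⟩ : ι.range))
      fun a b e => Subtype.ext (o.gr.2.1.eq a.2 b.2 (congrArg Subtype.val e)))
      (Nat.card_le_card_of_surjective _ ι.rangeRestrict_surjective)
  obtain ⟨h1, h2⟩ := AU.done.card_le hs (H := genOn t 524287) fun W hW =>
    hL (genW_eq (subT t wsU) _ ▸ inSub_up (AU_l.forall W hW) hs)
  rw [← genW_eq] at h1 h2
  have h3 : ∀ k < 21, t k ∈ genW t wsU := fun k hk =>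
    o.le_genW u2.2.2.2 (mem_genOn ((testBit_ones 21 k).trans (by simpa using hk)))
  have h4 : (genW t wsU).map (MonoidHom.snd G M3) = ⊤ := eq_top3 fun k => by
    by_cases hk : k < 21
    · exact ⟨_, h3 k hk, o.snd k⟩
    · rw [p, cut_le _ (by omega)]; exact one_mem _
  have h5 : ∀ a, ∃ γ ∈ genW t wsU, γ.2 = a := fun a => mem_map.1 (h4 ▸ mem_top a)
  have gr := gr_of_card (h2.trans (by
    rw [card_M3]; exact (Nat.mul_le_mul_left _ hc).trans (by decide +kernel))) h5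
  obtain ⟨θ, hθ⟩ := gr.exists_hom (MonoidHom.id M3) h5
  have h6 : ∀ k < 21, θ (p k) = (t k).1 := fun k hk =>
    congrArg Prod.fst (gr.eq (hθ _) (h3 k hk) (o.snd k).symm)
  refine ⟨θ, ?_, h6⟩
  have := O83.simple
  have : IsSimpleGroup M3 := O83.e.symm.isSimpleGroup
  rcases θ.normal_ker.eq_bot_or_eq_top with e | e
  · exact (MonoidHom.ker_eq_bot_iff θ).1 e
  · exact absurd ((h.hy 8 (by decide)).symm.trans ((h6 8 (by decide)).symm.trans
      (MonoidHom.mem_ker.1 (e ▸ mem_top _)))) (z_ne h.o)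

end Cfsg.Agent.O3R
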