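import Mathlib
import Cfsg.Agent.O3R.KW
import Cfsg.Agent.O3R.Star
import Cfsg.Agent.O3R.Th3

/-!
# The missing relation
-/

set_option autoImplicit false
set_option maxRecDepth 100000

namespace Cfsg.Agent.O3R

open Subgroup Cfsg.Agent.TT Cfsg.Agent.LES Cfsg.Agent.XSC Cfsg.Agent.Comp.BN Cfsg.Agent.O8C

def wa (j : ℕ) : List ℕ := [wA, [0] ++ wA ++ [0], [13, 15] ++ ([0] ++ wA ++ [0]) ++ [14, 12],
  [13, 15] ++ ([13, 15] ++ ([0] ++ wA ++ [0]) ++ [14, 12]) ++ [14, 12]].getD j []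

theorem rl1 : ∀ i < 4, ∀ j < 4, eqOn val3 1835007 (wa i ++ wa j) (if i = j then [] else wa j ++ wa i) = true := by
  decide +kernel

theorem rl2 : eqOn val3 1835007 (wa 0 ++ wa 1 ++ wa 2 ++ wa 3) [8] = true ∧
    eqOn val3 1835007 ([14, 12] ++ wA) (wA ++ [14, 12]) = true ∧
    eqOn val3 1835007 (powW (wA ++ [11]) 3) [] = true ∧
    eqOn val3 1835007 ([19, 16] ++ [11]) (wA ++ [19, 16]) = true ∧
    eqOn val3 1835007 ([13, 15] ++ [14, 12]) [] = true ∧
    eqOn val3 524287 (wK ++ wK) [] = true ∧ eqOn val3 524287 (wK ++ [8]) ([11] ++ wK) = true ∧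
    eqOn val3 524287 (wK ++ [13, 15]) ([14, 12] ++ wK) = true := by decide +kernel

variable {G : Type*} [Group G] [Finite G] {y : ℕ → G} {t : ℕ → G × M3}

theorem W3.rel (h : W3 y t) : ((ev t wA).1 * (ev t wK).1) ^ 4 = 1 := by
  have eL : ∀ {U V}, eqOn val3 524287 U V = true → (ev t U).1 = (ev t V).1 := fun e =>
    congrArg Prod.fst (h.st.toOv.eqOn h.st.gr.1 e)
  have mK : (ev t wK).1 ∈ Cw h.o := W3.word_mem h.o h.hy h.st.toOv h.st.gr.1 (by decide +kernel)
  have mB : (ev t [19, 16]).1 ∈ Cw h.o := W3.word_mem h.o h.hy h.st.toOv h.st.gr.2.1 (by decide +kernel)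
  have m0 : (ev t [0]).1 ∈ Cw h.o := W3.word_mem h.o h.hy h.st.toOv h.st.gr.2.1 (by decide +kernel)
  have t8 : (ev t [8]).1 = y 8 := by simp [h.hy]
  have t11 : (ev t [11]).1 = y 11 := by simp [h.hy]
  have t0 : (ev t [0]).1 * (ev t [0]).1 = 1 := by simpa [h.hy] using qq h.o (b := 0) (by decide)
  obtain ⟨b1, b2, b3, b4, b5, b6, b7, b8⟩ := rl2
  replace b1 := h.eqC0 b1
  replace b2 := h.eqC0 b2
  replace b3 := h.eqC0 b3
  replace b4 := h.eqC0 b4
  replace b5 := h.eqC0 b5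
  replace b6 := eL b6
  replace b7 := eL b7
  replace b8 := eL b8
  have c : ∀ i < 4, ∀ j < 4, i ≠ j → (ev t (wa i)).1 * (ev t (wa j)).1 = (ev t (wa j)).1 * (ev t (wa i)).1 :=
    fun i hi j hj n => by simpa only [if_neg n, ev_append, Prod.fst_mul] using h.eqC0 (rl1 i hi j hj)
  have d : ∀ i < 4, (ev t (wa i)).1 * (ev t (wa i)).1 = 1 :=
    fun i hi => by simpa only [if_pos, ev_append, Prod.fst_mul, ev_nil, Prod.fst_one] using h.eqC0 (rl1 i hi i hi)
  have a0 : (ev t (wa 0)).1 = (ev t wA).1 := rfl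
  have a1 : (ev t (wa 1)).1 = (ev t [0]).1 * (ev t wA).1 * (ev t [0]).1 := by
    rw [← Prod.fst_mul, ← Prod.fst_mul, ← ev_append, ← ev_append]; rfl
  have a2 : ∀ i < 2, (ev t (wa (i + 2))).1 =
      (ev t [13, 15]).1 * (ev t (wa (i + 1))).1 * (ev t [14, 12]).1 := fun i hi => by
    rw [← Prod.fst_mul, ← Prod.fst_mul, ← ev_append, ← ev_append]; interval_cases i <;> rfl
  simp only [ev_append, Prod.fst_mul, ev_powW, Prod.pow_fst, t8, t11, ev_nil, Prod.fst_one] at *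
  rw [eq_inv_of_mul_eq_one_left b5] at a2 b8
  have qk := mul_inv_eq_of_eq_mul b7
  have tt : ∀ c ∈ Cw h.o, ∀ d ∈ Cw h.o, (c * y 8 * c⁻¹ * (d * y 8 * d⁻¹)) ^ 2 = 1 ∨
      (c * y 8 * c⁻¹ * (d * y 8 * d⁻¹)) ^ 3 = 1 := fun c hc d hd => by
    rw [show c * y 8 * c⁻¹ * (d * y 8 * d⁻¹) = d * (d⁻¹ * c * y 8 * (d⁻¹ * c)⁻¹ * y 8) * d⁻¹ by group,
      conj_pow, conj_pow, conj_eq_one_iff, conj_eq_one_iff]
    exact h.tt (mul_mem (inv_mem hd) hc) mK qk
  generalize (ev t wK).1 = k at *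
  generalize (ev t [19, 16]).1 = β at *
  generalize (ev t [14, 12]).1 = α at *
  generalize (ev t [0]).1 = e at *
  have aβ : (ev t wA).1 = β * k * y 8 * (β * k)⁻¹ := by
    rw [← mul_inv_eq_of_eq_mul b4, ← qk]; group
  have cj : ∀ {u v : G}, u * v = v * u → k * u * k⁻¹ * (k * v * k⁻¹) = k * v * k⁻¹ * (k * u * k⁻¹) :=
    fun e => by rw [conj_mul, conj_mul, e]
  have sq : ∀ {u : G}, u * u = 1 → k * u * k⁻¹ * (k * u * k⁻¹) = 1 := fun e => by
    rw [conj_mul, e]; group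
  have αk : α = k * α⁻¹ * k⁻¹ := eq_mul_inv_of_mul_eq b8.symm
  have := star (α := α) (d 0 (by decide)) (qk ▸ sq (zz h.o)) (sq (d 0 (by decide))) (sq (d 1 (by decide)))
    (cj (c 0 (by decide) 1 (by decide) (by decide))) (cj (c 0 (by decide) 2 (by decide) (by decide)))
    (cj (c 0 (by decide) 3 (by decide) (by decide))) (cj (c 1 (by decide) 2 (by decide) (by decide)))
    (cj (c 1 (by decide) 3 (by decide) (by decide))) (cj (c 2 (by decide) 3 (by decide) (by decide)))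
    (by rw [conj_mul, conj_mul, conj_mul, b1, qk]) (conj_eq_of_comm b2)
    (by rw [a2 0 (by decide)]; nth_rewrite 1 2 [αk]; group)
    (by rw [a2 1 (by decide)]; nth_rewrite 1 2 [αk]; group) b3
    (fun e => by
      rw [← qk, mul_left_inj, mul_right_inj, a0] at e
      rw [e] at b3
      exact h.o.ne (U := powW [8, 11] 3) (V := []) (by decide +kernel) (by simpa [ev_powW] using b3))
    (by
      have := tt _ (mul_mem mB mK) _ (mul_mem mK (mul_mem mB mK))
      rwa [show k * (β * k) * y 8 * (k * (β * k))⁻¹ = k * (β * k * y 8 * (β * k)⁻¹) * k⁻¹ by group,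
        ← aβ] at this)
    (by
      have := tt _ (mul_mem mB mK) _ (mul_mem mK (mul_mem m0 (mul_mem mB mK)))
      rwa [show k * (e * (β * k)) * y 8 * (k * (e * (β * k)))⁻¹ =
        k * (e * (β * k * y 8 * (β * k)⁻¹) * e⁻¹) * k⁻¹ by group, ← aβ,
        inv_eq_of_mul_eq_one_right t0, ← a1] at this)
  rw [a0, inv_eq_of_mul_eq_one_right b6] at this
  have e2 := d 0 (by decide)
  rw [a0] at e2
  generalize (ev t wA).1 = a at *
  calc _ = a * (k * a * k) * (a * (k * a * k)) := by simp only [pow_succ, pow_zero, one_mul, mul_assoc]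
    _ = 1 := by
      nth_rewrite 1 [this]
      rw [mul_assoc, ← mul_assoc a, e2, one_mul]
      simpa only [inv_eq_of_mul_eq_one_right b6] using sq e2

end Cfsg.Agent.O3R
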