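import Mathlib
import Cfsg.Agent.O3R.Code

/-!
# The Sylow `2`-subgroup of `Ω₈⁺(2)`
-/

set_option autoImplicit false
set_option maxRecDepth 100000

namespace Cfsg.Agent.O3R

open Subgroup Cfsg.Agent.TT Cfsg.Agent.LES Cfsg.Agent.XSC Cfsg.Agent.Comp.BN Cfsg.Agent.O8C

variable {K : Type*} [Group K] {y : ℕ → K}

/-- the Sylow subgroup -/
def S0 (y : ℕ → K) : Subgroup K := genOn y 4095

theorem s_mem {k : ℕ} (hk : k < 12) : y k ∈ S0 y :=
  mem_genOn ((testBit_ones 12 k).trans (by simpa using hk))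

theorem ev_memS {W : List ℕ} (h : ∀ k ∈ W, k < 12) : ev y W ∈ S0 y := ev_mem_of fun k hk => s_mem (h k hk)

theorem Q_le_S : Qy y ≤ S0 y := genW_le fun W hW => ev_memS (by revert W; decide)

theorem Rw_lt : ∀ a b c, ∀ k ∈ Rw a b c, k < 12 := by decide

theorem Rw_lt' : ∀ a b c, ∀ k ∈ Rw a b c, k < 18 := by decide

theorem s1 : ∀ a b c a' b' c', eqC val (Rw a b c ++ Rw a' b' c') (Rw (xor a a') (xor b b') (xor c c'))
    = true := by decide +kernel

theorem s2 : ∀ a b c, (a = false ∧ b = false ∧ c = false) ∨ ∃ i < 8, ∃ j < 8,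
    2 ^ i ^^^ wact (Rw a b c) (2 ^ i) ≠ 0 ∧ 2 ^ j ^^^ wact (Rw a b c) (2 ^ j) ≠ 0 ∧
    2 ^ i ^^^ wact (Rw a b c) (2 ^ i) ≠ 2 ^ j ^^^ wact (Rw a b c) (2 ^ j) := by decide +kernel

theorem s3 : ∀ n < 256, n = 0 ∨ n = 1 ∨ ∃ k < 12, lin (LM k) n ≠ n := by decide +kernel

theorem s4 : allL (fun p : List ℕ × List ℕ => eqC val p.1 p.2)
    [([18, 18], []), ([18, 8, 18], [0, 8]), ([18, 0, 18], [0]), ([18, 1, 18], [1]), ([18, 2, 18], [2]),
      ([18, 3, 18], [3, 11]), ([18, 4, 18], [4]), ([18, 5, 18], [5, 10]), ([18, 6, 18], [6, 9]),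
      ([7, 0, 7], [0, 8])] = true := by decide +kernel

theorem index_le_two {T R : Subgroup K} [Finite K] (hle : T ≤ R) (h : Nat.card R < 3 * Nat.card T)
    {a b : K} (ha : a ∈ R) (hb : b ∈ R) : a ∈ T ∨ b ∈ T ∨ a * b ∈ T := by
  have h1 := (T.subgroupOf R).card_mul_index
  rw [Nat.card_congr (subgroupOfEquivOfLe hle).toEquiv] at h1
  have h2 : (T.subgroupOf R).index < 3 := by nlinarith
  have h3 : (T.subgroupOf R).index ≠ 0 := index_ne_zero_of_finite
  by_cases h4 : (T.subgroupOf R).index = 1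
  · exact Or.inl (show (⟨a, ha⟩ : R) ∈ T.subgroupOf R from index_eq_one.1 h4 ▸ mem_top _)
  · have := mul_mem_iff_of_index_two (H := T.subgroupOf R) (by omega) (a := ⟨a, ha⟩) (b := ⟨b, hb⟩)
    simp only [mem_subgroupOf, coe_mul] at this
    tauto

theorem mem_of_norm [Finite K] {S : Subgroup K} (hS : Fus.SylIn 2 S ⊤) {g : K}
    (hg : g ∈ normalizer (S : Set K)) {k : ℕ} (h : g ^ 2 ^ k ∈ S) : g ∈ S := by
  have := Fact.mk Nat.prime_two
  have h1 := hS.isPGroup le_top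
  have h2 : IsPGroup 2 (zpowers g) := by
    obtain ⟨j, hj⟩ := h1 ⟨_, h⟩
    have e : g ^ 2 ^ (k + j) = 1 := by rw [pow_add, pow_mul]; exact congrArg Subtype.val hj
    obtain ⟨n, -, hn⟩ := (Nat.dvd_prime_pow Nat.prime_two).1 (orderOf_dvd_of_pow_eq_one e)
    exact IsPGroup.of_card (by rw [Nat.card_zpowers, hn])
  have h3 := hS.eq_of_le le_top (h1.to_sup_of_normal_left' h2 (zpowers_le_of_mem hg)) le_sup_left le_top
  exact h3 ▸ mem_sup_right (mem_zpowers g)

section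
variable (o : Orc y val)
include o

theorem xr {p : List ℕ × List ℕ} (h : p ∈ [([18, 18], []), ([18, 8, 18], [0, 8]), ([18, 0, 18], [0]),
    ([18, 1, 18], [1]), ([18, 2, 18], [2]), ([18, 3, 18], [3, 11]), ([18, 4, 18], [4]),
    ([18, 5, 18], [5, 10]), ([18, 6, 18], [6, 9]), ([7, 0, 7], [0, 8])]) : ev y p.1 = ev y p.2 :=
  o.eq ((allL_eq _ _).1 s4 p h)

theorem xx : y 18 * y 18 = 1 := by simpa using xr o (p := ([18, 18], [])) (by simp)

theorem x_inv : (y 18)⁻¹ = y 18 := inv_eq_of_mul_eq_one_right (xx o)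

theorem xzx : y 18 * y 8 * (y 18)⁻¹ = y 0 * y 8 := by
  simpa [x_inv o, mul_assoc] using xr o (p := ([18, 8, 18], [0, 8])) (by simp)

theorem x0x : y 18 * y 0 * (y 18)⁻¹ = y 0 := by
  simpa [x_inv o, mul_assoc] using xr o (p := ([18, 0, 18], [0])) (by simp)

theorem q707 : y 7 * y 0 * (y 7)⁻¹ = y 0 * y 8 := by
  simpa [inv_eq_of_mul_eq_one_right (qq o (b := 7) (by decide)), mul_assoc] using
    xr o (p := ([7, 0, 7], [0, 8])) (by simp)

theorem conj_q0 : IsConj (y 8) (y 0) :=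
  (isConj_iff.2 ⟨_, xzx o⟩).trans (isConj_iff.2 ⟨_, q707 o⟩).symm

theorem xQ {a : K} (ha : a ∈ Qy y) (h : y 0 * a = a * y 0) : y 18 * a * (y 18)⁻¹ ∈ S0 y := by
  have h7 := (comm_q o (by decide) ha).1 h
  have k : ∀ b < 9, b ≠ 7 → y b ∈ (S0 y).comap (MulAut.conj (y 18)).toMonoidHom := fun b hb h7 => by
    have e : ∀ V : List ℕ, (∀ k ∈ V, k < 12) → ev y [18, b, 18] = ev y V →
        y b ∈ (S0 y).comap (MulAut.conj (y 18)).toMonoidHom := fun V hV e => by
      have := e ▸ ev_memS hV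
      simpa [mem_comap, x_inv o, mul_assoc] using this
    interval_cases b
    exacts [e _ (by simp) (xr o (p := (_, [0])) (by simp)), e _ (by simp) (xr o (p := (_, [1])) (by simp)),
      e _ (by simp) (xr o (p := (_, [2])) (by simp)), e _ (by simp) (xr o (p := (_, [3, 11])) (by simp)),
      e _ (by simp) (xr o (p := (_, [4])) (by simp)), e _ (by simp) (xr o (p := (_, [5, 10])) (by simp)),
      e _ (by simp) (xr o (p := (_, [6, 9])) (by simp)), absurd rfl h7,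
      e _ (by simp) (xr o (p := (_, [0, 8])) (by simp))]
  refine (κ_spec o ha).mem (H := (S0 y).comap (MulAut.conj (y 18)).toMonoidHom)
    (k 8 (by decide) (by decide)) (ev_mem_of fun b hb => k b (cw_lt _ b hb) ?_)
  rintro rfl
  simpa [h7] using (List.mem_filter.1 hb).2

variable [Finite K]

theorem S_le_N : S0 y ≤ normalizer (Qy y : Set K) := genOn_le fun k hk => l_norm o (by
  have : k < 12 := by simpa using (testBit_ones 12 k).symm.trans hk
  omega)

theorem Rw_norm (a b c : Bool) : ev y (Rw a b c) ∈ normalizer (Qy y : Set K) :=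
  S_le_N o (ev_memS (Rw_lt a b c))

omit [Finite K] in
theorem Rw_mul (a b c a' b' c' : Bool) : ev y (Rw a b c) * ev y (Rw a' b' c') =
    ev y (Rw (xor a a') (xor b b') (xor c c')) := by
  rw [← ev_append]; exact o.eq (s1 a b c a' b' c')

theorem S_nf {g : K} (hg : g ∈ S0 y) : ∃ δ ∈ Qy y, ∃ a b c, g = δ * ev y (Rw a b c) := by
  let Γ : Subgroup K :=
    { carrier := {g | ∃ δ ∈ Qy y, ∃ a b c, g = δ * ev y (Rw a b c)}
      one_mem' := ⟨1, one_mem _, false, false, false, by simp [Rw]⟩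
      mul_mem' := by
        rintro _ _ ⟨δ, hδ, a, b, c, rfl⟩ ⟨ε, hε, a', b', c', rfl⟩
        exact ⟨_, mul_mem hδ (cjQ (Rw_norm o a b c) hε), _, _, _, by rw [← Rw_mul o a b c a' b' c']; group⟩
      inv_mem' := by
        rintro _ ⟨δ, hδ, a, b, c, rfl⟩
        have e : ev y (Rw a b c) * ev y (Rw a b c) = 1 := by simpa [Rw] using Rw_mul o a b c a b c
        exact ⟨_, cjQ (Rw_norm o a b c) (inv_mem hδ), a, b, c, by
          rw [mul_inv_rev, inv_mul_cancel_right, inv_eq_of_mul_eq_one_right e]⟩ }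
  refine genOn_le (H := Γ) (fun k hk => ?_) hg
  have : k < 12 := by simpa using (testBit_ones 12 k).symm.trans hk
  by_cases h9 : k < 9
  · exact ⟨_, q_mem h9, false, false, false, by simp [Rw]⟩
  interval_cases k
  exacts [⟨1, one_mem _, true, false, false, by simp [Rw]⟩, ⟨1, one_mem _, false, true, false, by simp [Rw]⟩,
    ⟨1, one_mem _, false, false, true, by simp [Rw]⟩]

theorem act_nf {δ : K} (hδ : δ ∈ Qy y) {W : List ℕ} (hW : ∀ k ∈ W, k < 18) {n : ℕ} (hn : n < 256) :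
    act y (δ * ev y W) n = wact W n := by
  rw [act_mul o (le_normalizer hδ) (w_norm o hW), act_Q o hδ (act_lt _ _), act_w o hW hn]

theorem Rw_triv {a b c : Bool} {δ : K} (hδ : δ ∈ Qy y)
    (h : ∀ i < 8, act y (δ * ev y (Rw a b c)) (2 ^ i) = 2 ^ i) : a = false ∧ b = false ∧ c = false := by
  refine (s2 a b c).resolve_right ?_
  rintro ⟨i, hi, -, -, h1, -⟩
  rw [← act_nf o hδ (Rw_lt' a b c) (Nat.pow_lt_pow_right (by decide) hi), h i hi, Nat.xor_self] at h1
  exact h1 rfl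

theorem card_S : Nat.card (S0 y) = 2 ^ 12 := by
  have : Nat.card (Qy y × Bool × Bool × Bool) = 2 ^ 12 := by simp [card_Q o]
  rw [← this]
  refine (Nat.card_eq_of_bijective (fun p : Qy y × Bool × Bool × Bool =>
    (⟨p.1 * ev y (Rw p.2.1 p.2.2.1 p.2.2.2), mul_mem (Q_le_S p.1.2) (ev_memS (Rw_lt _ _ _))⟩ : S0 y))
    ⟨?_, fun g => ?_⟩).symm
  · rintro ⟨δ, a, b, c⟩ ⟨ε, a', b', c'⟩ e
    have e1 : (δ : K) * ev y (Rw a b c) = ε * ev y (Rw a' b' c') := congrArg Subtype.val e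
    have e2 : ev y (Rw a' b' c') * ev y (Rw a' b' c') = 1 := by simpa [Rw] using Rw_mul o a' b' c' a' b' c'
    have e3 : (δ : K) * ev y (Rw (xor a a') (xor b b') (xor c c')) = ε := by
      rw [← Rw_mul o, ← mul_assoc, e1, mul_assoc, e2, mul_one]
    obtain ⟨h1, h2, h3⟩ := Rw_triv o δ.2 fun i hi => by
      rw [e3, act_Q o ε.2 (Nat.pow_lt_pow_right (by decide) hi)]
    obtain rfl : a = a' := by simpa using h1
    obtain rfl : b = b' := by simpa using h2
    obtain rfl : c = c' := by simpa using h3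
    rw [Subtype.ext (mul_right_cancel e1 : (δ : K) = ε)]
  · obtain ⟨δ, hδ, a, b, c, e⟩ := S_nf o g.2
    exact ⟨(⟨δ, hδ⟩, a, b, c), Subtype.ext e.symm⟩

theorem S_two : IsPGroup 2 (S0 y) := IsPGroup.of_card (card_S o)

theorem S_act1 {g : K} (hg : g ∈ S0 y) : act y g 1 = 1 := by
  obtain ⟨δ, hδ, a, b, c, rfl⟩ := S_nf o hg
  rw [act_nf o hδ (Rw_lt' a b c) (by decide)]
  clear * -; revert a b c; decide +kernel

omit [Finite K] in
theorem act_of_comm {g : K} {b : ℕ} (hb : b < 8) (h : g * y b = y b * g) : act y g (2 ^ b) = 2 ^ b := by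
  have e : cw (2 ^ b) = [b] := by interval_cases b <;> decide
  rw [act, e, ev_cons, ev_nil, mul_one, conj_eq_of_comm h, κ_q o hb]

theorem S_cent {g : K} (hg : g ∈ S0 y) (h : ∀ a ∈ Qy y, g * a = a * g) : g = 1 ∨ g = y 8 := by
  obtain ⟨δ, hδ, a, b, c, e⟩ := S_nf o hg
  obtain ⟨rfl, rfl, rfl⟩ := Rw_triv o hδ (a := a) (b := b) (c := c) fun i hi =>
    e ▸ act_of_comm o hi (h _ (q_mem (by omega)))
  exact (xsQ o).cent g (by simpa [e, Rw] using hδ) h

theorem z_of_normS {g : K} (hg : g ∈ normalizer (S0 y : Set K)) : g * y 8 = y 8 * g := by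
  refine comm_of_conj_eq ((S_cent o ((mem_normalizer_iff.1 hg _).1 (s_mem (by decide)))
    fun a ha => ?_).resolve_left (by simpa using z_ne o))
  have := nz o (S_le_N o ((mem_normalizer_iff.1 (inv_mem hg) _).1 (Q_le_S ha)))
  calc g * y 8 * g⁻¹ * a = g * (y 8 * (g⁻¹ * a * g⁻¹⁻¹)) * g⁻¹ := by group
    _ = _ := by rw [← this]; group

theorem fix_of_S {n : ℕ} (hn : n < 256) (h : ∀ g ∈ S0 y, act y g n = n) : n = 0 ∨ n = 1 :=
  (s3 n hn).imp_right fun e => e.resolve_right fun ⟨k, hk, e⟩ =>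
    e (act_l o (k := k) (by omega) hn ▸ h _ (s_mem hk))

theorem three_le {v : K} (hv : v ∈ S0 y) (h1 : v ≠ 1) (h2 : ¬ IsConj (y 8) v) :
    3 * Nat.card (S0 y ⊓ centralizer {v} : Subgroup K) ≤ 2 ^ 12 := by
  have key : ∀ a b, a ∈ Cl (S0 y) v → b ∈ Cl (S0 y) v → v ≠ a → v ≠ b → a ≠ b →
      3 * Nat.card (S0 y ⊓ centralizer {v} : Subgroup K) ≤ 2 ^ 12 := fun a b ha hb e1 e2 e3 => by
    rw [← card_S o, card_cl (S0 y) v]
    refine Nat.mul_le_mul_right _ ?_
    rw [← Set.ncard_eq_three.2 ⟨v, a, b, e1, e2, e3, rfl⟩]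
    refine Set.ncard_le_ncard ?_
    rintro _ (rfl | rfl | rfl)
    exacts [⟨1, one_mem _, by simp⟩, ha, hb]
  obtain ⟨δ, hδ, a, b, c, e⟩ := S_nf o hv
  rcases s2 a b c with ⟨rfl, rfl, rfl⟩ | ⟨i, hi, j, hj, e1, e2, e3⟩
  · have hQ : v ∈ Qy y := by simpa [e, Rw] using hδ
    have hz : v ≠ y 8 := fun e => h2 (e ▸ IsConj.refl _)
    obtain ⟨q, hq, eq⟩ := (xsQ o).exists_conj_eq hQ h1 hz
    rcases s3 _ (κ_lt (y := y) v) with e | e | ⟨k, hk, e⟩
    · exact ((κ_zero o hQ e).elim h1 hz).elim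
    · refine (h2 ?_).elim
      rcases eqv_of_κ o hQ (q_mem (b := 0) (by decide)) (e.trans (κ_q o (b := 0) (by decide)).symm) with e | e <;>
        rw [e]
      exacts [conj_q0 o, isConj_iff.2 ⟨_, xzx o⟩]
    · rw [← act_l o (by omega) (κ_lt v), ← κ_conj o (l_norm o (by omega)) hQ] at e
      refine key _ _ ⟨q, Q_le_S hq, eq⟩ ⟨_, s_mem hk, rfl⟩ (by simpa using z_ne o)
        (fun e' => e (e' ▸ rfl)) fun e' => e ?_
      rw [← e']
      exact κ_of_eqv o hQ (Or.inr rfl)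
  · have k : ∀ i < 8, κ y (y i * v * (y i)⁻¹ * v⁻¹) = 2 ^ i ^^^ wact (Rw a b c) (2 ^ i) := fun i hi => by
      have q1 : y i ∈ Qy y := q_mem (by omega)
      rw [show y i * v * (y i)⁻¹ * v⁻¹ = y i * (v * (y i)⁻¹ * v⁻¹) by group,
        inv_eq_of_mul_eq_one_right (qq o hi), κ_mul o q1 (cjQ (S_le_N o hv) q1),
        κ_conj o (S_le_N o hv) q1, κ_q o hi, e,
        act_nf o hδ (Rw_lt' a b c) (Nat.pow_lt_pow_right (by decide) hi)]
    refine key _ _ ⟨_, s_mem (by omega : i < 12), rfl⟩ ⟨_, s_mem (by omega : j < 12), rfl⟩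
      (fun e' => e1 ?_) (fun e' => e2 ?_) fun e' => e3 ?_
    · rw [← k i hi, ← e', mul_inv_cancel, κ_one o]
    · rw [← k j hj, ← e', mul_inv_cancel, κ_one o]
    · rw [← k i hi, ← k j hj, e']

/-- an element fixing the code of `q₀` normalises the Sylow subgroup -/
theorem norm_S {N : Subgroup K} (hL : ∀ k, y k ∈ N)
    (hn : ∀ c ∈ N, c * y 8 = y 8 * c → c ∈ normalizer (Qy y : Set K)) {g : K} (hg : g ∈ N)
    (hz : g * y 8 = y 8 * g) (h1 : act y g 1 = 1) : g ∈ normalizer (S0 y : Set K) := by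
  have key : ∀ g ∈ N, g * y 8 = y 8 * g → g * y 0 = y 0 * g → g ∈ normalizer (S0 y : Set K) := by
    intro g hg hz h0
    have a0 : (y 18)⁻¹ * g * y 18 * y 0 = y 0 * ((y 18)⁻¹ * g * y 18) := by
      have := comm_of_conj_eq (x0x o)
      exact comm_mul_left (comm_mul_left (comm_inv_left this) h0) this
    have a1 : (y 18)⁻¹ * g * y 18 ∈ normalizer (Qy y : Set K) := hn _
      (mul_mem (mul_mem (inv_mem (hL _)) hg) (hL _)) (by
        calc _ = (y 18)⁻¹ * (g * (y 18 * y 8 * (y 18)⁻¹)) * y 18 := by group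
          _ = (y 18)⁻¹ * ((y 18 * y 8 * (y 18)⁻¹) * g) * y 18 := by
            rw [xzx o, (comm_mul_left h0.symm hz.symm)]
          _ = _ := by group)
    have a2 : ∀ b < 7, ∀ k, ev y [18, b, 18] = ev y [b, k] → g * y k * g⁻¹ ∈ S0 y := fun b hb k e => by
      have q1 : y b ∈ Qy y := q_mem (by omega)
      have e0 : y 0 * y b = y b * y 0 := by
        rw [comm_q o (by decide) q1, κ_q o (by omega), Nat.testBit_two_pow]; simpa using hb.ne
      have e1 := xQ o (cjQ a1 q1) (comm_mul_left (comm_mul_left a0 e0.symm) (comm_inv_left a0)).symm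
      have e2 : y 18 * y b * (y 18)⁻¹ = y b * y k := by simpa [x_inv o, mul_assoc] using e
      rw [show y 18 * ((y 18)⁻¹ * g * y 18 * y b * ((y 18)⁻¹ * g * y 18)⁻¹) * (y 18)⁻¹ =
        g * (y 18 * y b * (y 18)⁻¹) * g⁻¹ by group, e2, ← conj_mul] at e1
      exact (mul_mem_cancel_left (Q_le_S (cjQ (hn g hg hz) q1))).1 e1
    refine mem_normalizer_fintype fun a ha => genOn_le
      (H := (S0 y).comap (MulAut.conj g).toMonoidHom) (fun k hk => ?_) ha
    have : k < 12 := by simpa using (testBit_ones 12 k).symm.trans hk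
    by_cases h9 : k < 9
    · exact Q_le_S (cjQ (hn g hg hz) (q_mem h9))
    interval_cases k
    exacts [a2 6 (by decide) _ (xr o (p := (_, _)) (by simp)), a2 5 (by decide) _ (xr o (p := (_, _)) (by simp)),
      a2 3 (by decide) _ (xr o (p := (_, _)) (by simp))]
  have h2 := act_spec o (hn g hg hz) 1
  rw [h1, show cw 1 = [0] by decide, ev_cons, ev_nil, mul_one] at h2
  rcases h2 with e | e
  · exact key g hg hz (comm_of_conj_eq e)
  · have h7 : y 7 ∈ S0 y := s_mem (by decide)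
    refine (mul_mem_cancel_left (le_normalizer (inv_mem h7))).1 (key _ (mul_mem (inv_mem (hL _)) hg)
      (comm_mul_left (comm_inv_left (lz o (by decide))) hz) (comm_of_conj_eq ?_))
    calc _ = (y 7)⁻¹ * (g * y 0 * g⁻¹) * y 7 := by group
      _ = _ := by rw [e, ← q707 o]; group

end

end Cfsg.Agent.O3R
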